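import Mathlib
import Groth.Agent.LimTop61.IdealGlue
import Groth.Agent.MP99.Ops

/-!
Descent of locally principal ideal sheaves to a stage of a cofiltered limit.
-/

set_option autoImplicit false
set_option backward.isDefEq.respectTransparency false
set_option backward.defeqAttrib.useBackward true

universe u

open CategoryTheory CategoryTheory.Limits AlgebraicGeometry TopologicalSpace

namespace Groth.Agent.ModP1

/-- The restriction of an ideal sheaf to an affine open on which it is principal. -/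
theorem comap_ι_eq_span {X : Scheme.{u}} (J : X.IdealSheafData) (U : X.affineOpens) {f : Γ(X, U.1)}
    (hf : J.ideal U = Ideal.span {f}) :
    haveI : IsAffine U.1.toScheme := U.2
    J.comap U.1.ι = Scheme.IdealSheafData.ofIdealTop (X := U.1.toScheme)
      (Ideal.span {(U.1.ι.appLE U.1 ⊤ (U.1.ι_preimage_self.ge)).hom f}) := by
  haveI : IsAffine U.1.toScheme := U.2
  refine Scheme.IdealSheafData.ext_of_isAffine ?_
  rw [MP99.ideal_comap J U.1.ι U ⟨⊤, isAffineOpen_top _⟩ U.1.ι_preimage_self.ge, hf, Ideal.map_span,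
    Set.image_singleton, Scheme.IdealSheafData.ofIdealTop_ideal]
  simp
  erw [Ideal.map_id]

theorem lfp_of_isLocPrincipal {X : Scheme.{u}} {J : X.IdealSheafData} (h : MP99.IsLocPrincipal J) :
    LocallyOfFinitePresentation J.subschemeι := by
  choose U hU f hf using h
  refine (IsZariskiLocalAtTarget.iff_of_iSup_eq_top (P := @LocallyOfFinitePresentation)
    (fun x => (U x).1) (top_le_iff.1 fun x _ => Opens.mem_iSup.2 ⟨x, hU x⟩)).2 fun x => ?_
  have e : LocallyOfFinitePresentation (J.comap (U x).1.ι).subschemeι := by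
    haveI : IsAffine (U x).1.toScheme := (U x).2
    rw [comap_ι_eq_span J (U x) (hf x)]
    exact LimTop61.lfp_ofIdealTop _ (Submodule.fg_span_singleton _)
  have e2 : LocallyOfFinitePresentation (pullback.snd J.subschemeι (U x).1.ι) := by
    rw [← pullbackSymmetry_hom_comp_fst, ← Scheme.IdealSheafData.comapIso_inv_subschemeι]
    infer_instance
  have h3 : LocallyOfFinitePresentation (J.subschemeι ∣_ (U x).1.ι.opensRange) :=
    (MorphismProperty.arrow_mk_iso_iff (@LocallyOfFinitePresentation)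
      (morphismRestrictOpensRange J.subschemeι (U x).1.ι)).2 e2
  rwa [Scheme.Opens.opensRange_ι] at h3

theorem isLocPrincipal_of_cover {X : Scheme.{u}} (J : X.IdealSheafData)
    (h : ∀ x : X, ∃ W : X.Opens, x ∈ W ∧ MP99.IsLocPrincipal (J.comap W.ι)) : MP99.IsLocPrincipal J := by
  intro x
  obtain ⟨W, hW, hI⟩ := h x
  obtain ⟨U, hU, f, hf⟩ := hI ⟨x, hW⟩
  let U' : X.affineOpens := ⟨W.ι ''ᵁ U.1, U.2.image_of_isOpenImmersion W.ι⟩
  rw [Scheme.IdealSheafData.ideal_comap_of_isOpenImmersion] at hf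
  simp only [Scheme.Opens.ι_appIso, Iso.refl_inv] at hf
  erw [Ideal.comap_id] at hf
  exact ⟨U', ⟨⟨x, hW⟩, hU, rfl⟩, f, hf⟩

theorem isLocPrincipal_ofIdealTop {X : Scheme.{u}} [IsAffine X] (f : Γ(X, ⊤)) :
    MP99.IsLocPrincipal (Scheme.IdealSheafData.ofIdealTop (Ideal.span {f})) := fun x => by
  refine ⟨⟨⊤, isAffineOpen_top X⟩, trivial, f, ?_⟩
  rw [Scheme.IdealSheafData.ofIdealTop_ideal]
  simp

variable {I : Type u} [SmallCategory I] [IsCofiltered I] (D : I ⥤ Scheme.{u}) (c : Cone D)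
  (hc : IsLimit c) [∀ (i j : I) (f : i ⟶ j), IsAffineHom (D.map f)]

include hc

theorem exists_comap_le_at {i : I} [CompactSpace (D.obj i)] (K L : (D.obj i).IdealSheafData)
    [LocallyOfFinitePresentation K.subschemeι] (h : K.comap (c.π.app i) ≤ L.comap (c.π.app i)) :
    ∃ (j : I) (φ : j ⟶ i), K.comap (D.map φ) ≤ L.comap (D.map φ) := by
  have h' : K.comap (pullback.fst (𝟙 _) (c.π.app i)) ≤ L.comap (pullback.fst (𝟙 _) (c.π.app i)) := by
    have e : pullback.fst (𝟙 _) (c.π.app i) = pullback.snd _ _ ≫ c.π.app i := by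
      rw [← pullback.condition, Category.comp_id]
    rw [e, Scheme.IdealSheafData.comap_comp, Scheme.IdealSheafData.comap_comp]
    exact Scheme.IdealSheafData.comap_mono _ h
  obtain ⟨j, φ, hj⟩ := LimTop61.exists_comap_le_stage D c hc (𝟙 _) K L h'
  refine ⟨j, φ, ?_⟩
  have := Scheme.IdealSheafData.comap_mono
    (pullback.lift (D.map φ) (𝟙 _) (by simp) : D.obj j ⟶ pullback (𝟙 _) (D.map φ)) hj
  simpa [← Scheme.IdealSheafData.comap_comp] using this

/-- Near every point of the limit, a finitely presented ideal sheaf that becomes locally principal on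
the limit is principal at a stage. -/
theorem exists_stage_principal_nhd [∀ i, QuasiSeparatedSpace (D.obj i)] {n : I}
    (J : (D.obj n).IdealSheafData) [LocallyOfFinitePresentation J.subschemeι]
    (hlp : MP99.IsLocPrincipal (J.comap (c.π.app n))) (x : c.pt) :
    ∃ (l : I) (φ : l ⟶ n) (W : (D.obj l).Opens), c.π.app l x ∈ W ∧
      MP99.IsLocPrincipal ((J.comap (D.map φ)).comap W.ι) := by
  obtain ⟨U0, hxU0, f0, hf0⟩ := hlp x
  obtain ⟨_, ⟨_, ⟨k, V, hV, rfl⟩, rfl⟩, hxV, hle⟩ :=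
    (isBasis_preimage_isAffineOpen D c hc).exists_subset_of_mem_open hxU0 U0.1.2
  obtain ⟨m, α, β, -⟩ := IsCofilteredOrEmpty.cone_objs n k
  let Vm : (D.obj m).Opens := D.map β ⁻¹ᵁ V
  have hVm : IsAffineOpen Vm := hV.preimage _
  haveI := isAffineHom_π_app D c hc m
  let U : c.pt.affineOpens := ⟨c.π.app m ⁻¹ᵁ Vm, hVm.preimage _⟩
  have hUe : U.1 = c.π.app k ⁻¹ᵁ V := by
    simp only [U, Vm, ← Scheme.Hom.comp_preimage, c.w]
  have hUU0 : U.1 ≤ U0.1 := hUe.le.trans hle
  have hxU : x ∈ U.1 := hUe.ge hxV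
  haveI : IsAffine U.1.toScheme := U.2
  have hg := comap_ι_eq_span (J.comap (c.π.app n)) U
    (MP99.ideal_restrict (J.comap (c.π.app n)) (show U ≤ U0 from hUU0) hf0)
  generalize (U.1.ι.appLE U.1 ⊤ U.1.ι_preimage_self.ge).hom _ = g at hg
  haveI : ∀ j, IsAffine ((opensDiagram D m Vm).obj j) := fun j => hVm.preimage (D.map j.hom)
  obtain ⟨j, t, ht⟩ := exists_appTop_π_eq_of_isAffine_of_isLimit _ _ (isLimitOpensCone D c hc m Vm) g
  let Vj : (D.obj j.left).Opens := D.map j.hom ⁻¹ᵁ Vm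
  haveI : IsAffine Vj.toScheme := hVm.preimage _
  haveI : CompactSpace Vj.toScheme := inferInstance
  have hUj : c.π.app j.left ⁻¹ᵁ Vj = U.1 := by
    simp only [U, Vj, ← Scheme.Hom.comp_preimage, c.w]
  let q : U.1.toScheme ⟶ Vj.toScheme := (c.π.app j.left).resLE Vj U.1 hUj.ge
  have hq : q.appTop t = g := ht
  let K : Vj.toScheme.IdealSheafData := Scheme.IdealSheafData.ofIdealTop (Ideal.span {t})
  let L : Vj.toScheme.IdealSheafData := (J.comap (D.map (j.hom ≫ α))).comap Vj.ι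
  haveI : LocallyOfFinitePresentation K.subschemeι :=
    LimTop61.lfp_ofIdealTop _ (Submodule.fg_span_singleton _)
  haveI : LocallyOfFinitePresentation (J.comap (D.map (j.hom ≫ α))).subschemeι := LimTop61.lfp_comap _ _
  haveI : LocallyOfFinitePresentation L.subschemeι := LimTop61.lfp_comap _ _
  have hKL : K.comap q = L.comap q := by
    simp only [L, ← Scheme.IdealSheafData.comap_comp, ← Category.assoc, q, Scheme.Hom.resLE_comp_ι]
    rw [Category.assoc, c.w, Scheme.IdealSheafData.comap_comp, hg, LimTop61.comap_ideal_top]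
    congr 1
    simp only [K, Scheme.IdealSheafData.ofIdealTop_ideal]
    rw [← hq]
    simp [Ideal.map_span, q]
    rfl
  have h' : K.comap (pullback.fst Vj.ι (c.π.app j.left)) = L.comap (pullback.fst Vj.ι (c.π.app j.left)) := by
    let w : pullback Vj.ι (c.π.app j.left) ⟶ U.1.toScheme :=
      IsOpenImmersion.lift U.1.ι (pullback.snd _ _) (by
        rw [Scheme.Opens.range_ι]
        rintro _ ⟨z, rfl⟩
        refine hUj.le ?_
        show c.π.app j.left (pullback.snd Vj.ι (c.π.app j.left) z) ∈ Vj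
        rw [← Scheme.Hom.comp_apply, ← pullback.condition, Scheme.Hom.comp_apply]
        exact Subtype.prop _)
    have hw : w ≫ q = pullback.fst Vj.ι (c.π.app j.left) := by
      rw [← cancel_mono Vj.ι, Category.assoc, Scheme.Hom.resLE_comp_ι, IsOpenImmersion.lift_fac_assoc,
        pullback.condition]
    rw [← hw, Scheme.IdealSheafData.comap_comp, Scheme.IdealSheafData.comap_comp, hKL]
  obtain ⟨l, ψ, hl⟩ := LimTop61.exists_comap_eq_stage D c hc Vj.ι K L h'
  refine ⟨l, ψ ≫ j.hom ≫ α, D.map ψ ⁻¹ᵁ Vj, ?_, ?_⟩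
  · show D.map ψ (c.π.app l x) ∈ Vj
    rw [← Scheme.Hom.comp_apply, c.w]
    exact hUj.ge hxU
  · let v : (D.map ψ ⁻¹ᵁ Vj).toScheme ⟶ pullback Vj.ι (D.map ψ) :=
      pullback.lift (D.map ψ ∣_ Vj) (D.map ψ ⁻¹ᵁ Vj).ι (morphismRestrict_ι _ _)
    have h2 := congrArg (fun Z => Scheme.IdealSheafData.comap Z v) hl
    simp only [← Scheme.IdealSheafData.comap_comp, v, pullback.lift_fst] at h2
    have e : (J.comap (D.map (ψ ≫ j.hom ≫ α))).comap (D.map ψ ⁻¹ᵁ Vj).ι = L.comap (D.map ψ ∣_ Vj) := by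
      simp only [L, ← Scheme.IdealSheafData.comap_comp, morphismRestrict_ι_assoc, ← D.map_comp]
    rw [e, ← h2]
    exact MP99.isLocPrincipal_comap (isLocPrincipal_ofIdealTop t) _

/-- An ideal sheaf that becomes locally principal on the limit is locally principal at a stage. -/
theorem exists_stage_isLocPrincipal [∀ i, CompactSpace (D.obj i)] [∀ i, QuasiSeparatedSpace (D.obj i)]
    {n : I} (J : (D.obj n).IdealSheafData) [LocallyOfFinitePresentation J.subschemeι]
    (hlp : MP99.IsLocPrincipal (J.comap (c.π.app n))) :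
    ∃ (m : I) (φ : m ⟶ n), MP99.IsLocPrincipal (J.comap (D.map φ)) := by
  classical
  haveI : CompactSpace c.pt := Scheme.compactSpace_of_isLimit D c hc
  choose l φ W hxW hW using fun x => exists_stage_principal_nhd D c hc J hlp x
  obtain ⟨s, hs⟩ := CompactSpace.elim_nhds_subcover
    (fun x => ((c.π.app (l x) ⁻¹ᵁ W x : c.pt.Opens) : Set c.pt))
    (fun x => (Opens.isOpen (c.π.app (l x) ⁻¹ᵁ W x : c.pt.Opens)).mem_nhds (hxW x))
  obtain ⟨m, ψ, χ, hχ⟩ := IsCofiltered.wideCospan fun x : s => φ x.1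
  obtain ⟨m', θ, hθ⟩ := exists_map_eq_top D c hc (⨆ x : s, D.map (χ x) ⁻¹ᵁ W x.1) (i := m) (by
    refine top_unique fun y _ => ?_
    obtain ⟨x, hx, hy⟩ := Set.mem_iUnion₂.1 (hs.ge (Set.mem_univ y))
    show c.π.app m y ∈ (⨆ x : s, D.map (χ x) ⁻¹ᵁ W x.1 : (D.obj m).Opens)
    refine Opens.mem_iSup.2 ⟨⟨x, hx⟩, ?_⟩
    show D.map (χ ⟨x, hx⟩) (c.π.app m y) ∈ W x
    rw [← Scheme.Hom.comp_apply, c.w]
    exact hy)
  refine ⟨m', θ ≫ ψ, isLocPrincipal_of_cover _ fun z => ?_⟩
  obtain ⟨x, hx⟩ := Opens.mem_iSup.1 (hθ.ge (show z ∈ (⊤ : (D.obj m').Opens) from trivial))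
  refine ⟨D.map (θ ≫ χ x) ⁻¹ᵁ W x.1, ?_, ?_⟩
  · show D.map (θ ≫ χ x) z ∈ W x.1
    rw [D.map_comp, Scheme.Hom.comp_apply]
    exact hx
  · have e : (J.comap (D.map (θ ≫ ψ))).comap (D.map (θ ≫ χ x) ⁻¹ᵁ W x.1).ι =
        ((J.comap (D.map (φ x.1))).comap (W x.1).ι).comap (D.map (θ ≫ χ x) ∣_ W x.1) := by
      simp only [← Scheme.IdealSheafData.comap_comp, morphismRestrict_ι_assoc, ← D.map_comp,
        Category.assoc, hχ]
    rw [e]
    exact MP99.isLocPrincipal_comap (hW x.1) _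

end Groth.Agent.ModP1
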