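import Mathlib
import Groth.Agent.ModP1.IdealStage
import Groth.Agent.Approx60.ClosedLimit
import Groth.Agent.Approx60.ProperStage
import Groth.Agent.MP99.Basic
import Groth.Agent.SpPts86.LocPMore
import Groth.Prelude.Def_CurvBase

/-!
Approximation of finite type morphisms of modulus pairs by finitely presented ones.
-/

set_option autoImplicit false
set_option backward.isDefEq.respectTransparency false
set_option backward.defeqAttrib.useBackward true

universe u

open CategoryTheory CategoryTheory.Limits AlgebraicGeometry TopologicalSpace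

namespace Groth.Agent.ModP1

theorem mem_isLocPrincipal_curv {X : Scheme.{u}} {J : X.IdealSheafData} (h : MP99.IsLocPrincipal J) :
    Curv2.IsLocPrincipal J := fun x _ => h x

/-- If the limit of a system with closed immersions as transition morphisms is isomorphic to the base
over an open, so are eventually all stages. -/
theorem exists_stage_isIso_restrict {I : Type u} [SmallCategory I] [IsCofiltered I] {Y : Scheme.{u}}
    (D : I ⥤ Over Y) (c : Cone (D ⋙ Over.forget Y)) (hc : IsLimit c) (g : c.pt ⟶ Y)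
    (hg : ∀ i, c.π.app i ≫ (D.obj i).hom = g)
    [∀ (i j : I) (t : i ⟶ j), IsClosedImmersion (D.map t).left] [∀ i, IsClosedImmersion (c.π.app i)]
    [∀ i, LocallyOfFiniteType (D.obj i).hom] (U : Y.Opens) (hU : IsCompact (U : Set Y))
    [∀ i, QuasiCompact (D.obj i).hom] [IsIso (g ∣_ U)] :
    ∃ l : I, ∀ m : I, (m ⟶ l) → IsIso ((D.obj m).hom ∣_ U) := by
  haveI : ∀ (i j : I) (t : i ⟶ j), IsClosedImmersion ((D ⋙ Over.forget Y).map t) :=
    fun i j t => inferInstanceAs (IsClosedImmersion (D.map t).left)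
  haveI : ∀ i, IsClosedImmersion (show c.pt ⟶ (D.obj i).left from c.π.app i) :=
    fun i => inferInstanceAs (IsClosedImmersion (c.π.app i))
  have hW : ∀ m, g ⁻¹ᵁ U = (show c.pt ⟶ (D.obj m).left from c.π.app m) ⁻¹ᵁ ((D.obj m).hom ⁻¹ᵁ U) :=
    fun m => by rw [← Scheme.Hom.comp_preimage]; exact congrArg (fun f : c.pt ⟶ Y => f ⁻¹ᵁ U) (hg m).symm
  let σ : ∀ m, U.toScheme ⟶ ((D.obj m).hom ⁻¹ᵁ U).toScheme := fun m =>
    inv (g ∣_ U) ≫ (c.pt.isoOfEq (hW m)).hom ≫
      ((show c.pt ⟶ (D.obj m).left from c.π.app m) ∣_ ((D.obj m).hom ⁻¹ᵁ U))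
  have hσι : ∀ m, σ m ≫ ((D.obj m).hom ⁻¹ᵁ U).ι = inv (g ∣_ U) ≫ (g ⁻¹ᵁ U).ι ≫ c.π.app m := fun m => by
    simp only [σ, Category.assoc, morphismRestrict_ι, Scheme.isoOfEq_hom_ι_assoc]
  have hσ : ∀ m, σ m ≫ ((D.obj m).hom ∣_ U) = 𝟙 _ := fun m => by
    rw [← cancel_mono U.ι, Category.assoc, morphismRestrict_ι, reassoc_of% (hσι m), Category.id_comp,
      hg, IsIso.inv_comp_eq, morphismRestrict_ι]
  obtain ⟨i⟩ := IsCofiltered.nonempty (C := I)
  let W : (D.obj i).left.Opens := (D.obj i).hom ⁻¹ᵁ U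
  haveI : IsClosedImmersion (σ i) := inferInstance
  haveI : LocallyOfFinitePresentation (σ i ≫ ((D.obj i).hom ∣_ U)) := by rw [hσ]; infer_instance
  haveI : LocallyOfFinitePresentation (σ i) := SpPts86.lfp_of_comp (σ i) ((D.obj i).hom ∣_ U)
  haveI : LocallyOfFinitePresentation (σ i).ker.subschemeι := by
    have e : (σ i).imageι = inv (σ i).toImage ≫ σ i := by
      rw [IsIso.eq_inv_comp, Scheme.Hom.toImage_imageι]
    show LocallyOfFinitePresentation (σ i).imageι
    rw [e]; infer_instance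
  haveI : CompactSpace W.toScheme := by
    haveI : CompactSpace U.toScheme := isCompact_iff_compactSpace.mp hU
    exact QuasiCompact.compactSpace_of_compactSpace ((D.obj i).hom ∣_ U)
  have hbot : (σ i).ker.comap (σ i) ≤ ⊥ := by
    rw [← Scheme.IdealSheafData.le_map_iff_comap_le, Scheme.IdealSheafData.map_bot]
  have h' : (σ i).ker.comap (pullback.fst W.ι (c.π.app i)) ≤
      (⊥ : W.toScheme.IdealSheafData).comap (pullback.fst W.ι (c.π.app i)) := by
    let w : pullback W.ι (c.π.app i) ⟶ (g ⁻¹ᵁ U).toScheme :=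
      IsOpenImmersion.lift (g ⁻¹ᵁ U).ι (pullback.snd _ _) (by
        rw [Scheme.Opens.range_ι]
        rintro _ ⟨z, rfl⟩
        show g (pullback.snd W.ι (c.π.app i) z) ∈ U
        rw [← hg i, Scheme.Hom.comp_apply]
        have e := congrArg (fun k : pullback W.ι (c.π.app i) ⟶ (D.obj i).left => k z)
          (pullback.condition (f := W.ι) (g := c.π.app i))
        rw [Scheme.Hom.comp_apply] at e
        exact e ▸ Subtype.prop (pullback.fst W.ι (c.π.app i) z))
    have e : pullback.fst W.ι (c.π.app i) = (w ≫ (g ∣_ U)) ≫ σ i := by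
      rw [← cancel_mono W.ι, Category.assoc, Category.assoc, hσι, IsIso.hom_inv_id_assoc,
        IsOpenImmersion.lift_fac_assoc]
      exact pullback.condition
    calc (σ i).ker.comap (pullback.fst W.ι (c.π.app i))
        = ((σ i).ker.comap (σ i)).comap (w ≫ (g ∣_ U)) := by rw [e, Scheme.IdealSheafData.comap_comp]
      _ ≤ (⊥ : U.toScheme.IdealSheafData).comap (w ≫ (g ∣_ U)) := Scheme.IdealSheafData.comap_mono _ hbot
      _ = ⊥ := (Scheme.IdealSheafData.map_gc _).l_bot
      _ ≤ _ := bot_le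
  obtain ⟨j, φ, hj⟩ := LimTop61.exists_comap_le_stage (D ⋙ Over.forget Y) c hc W.ι (σ i).ker ⊥ h'
  refine ⟨j, fun m ψ => ?_⟩
  let Wm : (D.obj m).left.Opens := (D.obj m).hom ⁻¹ᵁ U
  have hWm : Wm ≤ (D.map (ψ ≫ φ)).left ⁻¹ᵁ W := by
    simp only [Wm, W, ← Scheme.Hom.comp_preimage, Over.w]
    rfl
  let T : Wm.toScheme ⟶ W.toScheme := (D.map (ψ ≫ φ)).left.resLE W Wm hWm
  have hT : T ≫ W.ι = Wm.ι ≫ (D.map (ψ ≫ φ)).left := Scheme.Hom.resLE_comp_ι _ _
  haveI : Mono T := by
    haveI : Mono (T ≫ W.ι) := by rw [hT]; infer_instance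
    exact mono_of_mono T W.ι
  have hker : (σ i).ker ≤ T.ker := by
    let v : Wm.toScheme ⟶ pullback W.ι ((D ⋙ Over.forget Y).map φ) :=
      pullback.lift T (Wm.ι ≫ (D.map ψ).left) (by
        rw [hT, Category.assoc]
        show _ = Wm.ι ≫ (D.map ψ).left ≫ (D.map φ).left
        rw [Functor.map_comp, Over.comp_left])
    rw [← Scheme.IdealSheafData.map_bot T, Scheme.IdealSheafData.le_map_iff_comap_le]
    calc (σ i).ker.comap T = ((σ i).ker.comap (pullback.fst W.ι _)).comap v := by
          rw [← Scheme.IdealSheafData.comap_comp, pullback.lift_fst]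
      _ ≤ ((⊥ : W.toScheme.IdealSheafData).comap (pullback.fst W.ι _)).comap v :=
          Scheme.IdealSheafData.comap_mono _ hj
      _ = ⊥ := by
          rw [← Scheme.IdealSheafData.comap_comp]
          exact (Scheme.IdealSheafData.map_gc _).l_bot
  let s : Wm.toScheme ⟶ U.toScheme := IsClosedImmersion.lift (σ i) T hker
  have hs : s ≫ σ i = T := IsClosedImmersion.lift_fac _ _ _
  have hTU : T ≫ ((D.obj i).hom ∣_ U) = (D.obj m).hom ∣_ U := by
    rw [← cancel_mono U.ι, Category.assoc, morphismRestrict_ι, reassoc_of% hT, morphismRestrict_ι, Over.w]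
  have hsU : s = (D.obj m).hom ∣_ U := by
    rw [← hTU, ← hs, Category.assoc, hσ, Category.comp_id]
  have hσT : σ m ≫ T = σ i := by
    rw [← cancel_mono W.ι, Category.assoc, hT, reassoc_of% (hσι m), hσι]
    congr 2
    exact c.w (ψ ≫ φ)
  exact ⟨σ m, by rw [← cancel_mono T, Category.assoc, hσT, Category.id_comp, ← hsU, hs], hσ m⟩

variable {X Y : Scheme.{u}} (IX : X.IdealSheafData) (IY : Y.IdealSheafData)

theorem exists_stage_ideal [CompactSpace X] [QuasiSeparatedSpace X]
    (hX : BlowUp.IsEffCartierIdeal IX) (hY : BlowUp.IsEffCartierIdeal IY) (f : X ⟶ Y)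
    (hf : ModPair.IsAmbient IX IY f)
    {I : Type u} [SmallCategory I] [IsCofiltered I] (D : I ⥤ Over Y)
    (π : (Functor.const I).obj (Over.mk f) ⟶ D) (hc : IsLimit (Cone.mk (Over.mk f) π))
    [∀ (i j : I) (t : i ⟶ j), IsClosedImmersion (D.map t).left]
    [∀ i, CompactSpace (D.obj i).left] [∀ i, QuasiSeparatedSpace (D.obj i).left] :
    ∃ (n : I) (J : (D.obj n).left.IdealSheafData),
      IX = J.comap (π.app n).left ∧ MP99.IsLocPrincipal J ∧ J ≤ IY.comap (D.obj n).hom ∧
      (ModPair.IsMinimal IX IY f → J = IY.comap (D.obj n).hom) := by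
  let E := D ⋙ Over.forget Y
  let cE : Cone E := (Over.forget Y).mapCone (Cone.mk (Over.mk f) π)
  have hcE : IsLimit cE := isLimitOfPreserves (Over.forget Y) hc
  have hYl := MP99.isLocPrincipal_of_isEffCartier hY
  haveI : ∀ (i j : I) (t : i ⟶ j), IsAffineHom (E.map t) := fun i j t =>
    inferInstanceAs (IsAffineHom (D.map t).left)
  haveI : ∀ i, CompactSpace (E.obj i) := fun i => inferInstanceAs (CompactSpace (D.obj i).left)
  haveI : ∀ i, QuasiSeparatedSpace (E.obj i) := fun i => inferInstanceAs (QuasiSeparatedSpace (D.obj i).left)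
  by_cases hm : ModPair.IsMinimal IX IY f
  · obtain ⟨n⟩ := IsCofiltered.nonempty (C := I)
    refine ⟨n, IY.comap (D.obj n).hom, ?_, MP99.isLocPrincipal_comap hYl _, le_rfl, fun _ => rfl⟩
    rw [← Scheme.IdealSheafData.comap_comp, Over.w]
    exact hm
  · haveI : LocallyOfFinitePresentation (show cE.pt.IdealSheafData from IX).subschemeι :=
      lfp_of_isLocPrincipal (MP99.isLocPrincipal_of_isEffCartier hX)
    obtain ⟨n, J, hJfp, hJ⟩ := LimTop61.exists_idealSheaf_descend E cE hcE (show cE.pt.IdealSheafData from IX)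
    haveI := hJfp
    obtain ⟨m, φ, hm1⟩ := exists_stage_isLocPrincipal E cE hcE J
      (by rw [hJ]; exact MP99.isLocPrincipal_of_isEffCartier hX)
    haveI : LocallyOfFinitePresentation (J.comap (E.map φ)).subschemeι := LimTop61.lfp_comap _ _
    have hmX : (J.comap (E.map φ)).comap (cE.π.app m) = IX := by
      rw [← Scheme.IdealSheafData.comap_comp, cE.w]
      exact hJ
    obtain ⟨l, ψ, hl⟩ := exists_comap_le_at E cE hcE (J.comap (E.map φ)) (IY.comap (D.obj m).hom) (by
      rw [hmX, ← Scheme.IdealSheafData.comap_comp]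
      refine (hf : IX ≤ IY.comap f).trans ?_
      rw [show cE.π.app m ≫ (D.obj m).hom = f from Over.w (π.app m)])
    refine ⟨l, (J.comap (E.map φ)).comap (E.map ψ), ?_, MP99.isLocPrincipal_comap hm1 _, ?_,
      fun h => absurd h hm⟩
    · rw [← Scheme.IdealSheafData.comap_comp]
      show IX = (J.comap (E.map φ)).comap (cE.π.app l ≫ E.map ψ)
      rw [cE.w, hmX]
    · refine hl.trans ?_
      rw [← Scheme.IdealSheafData.comap_comp, show E.map ψ ≫ (D.obj m).hom = (D.obj l).hom from Over.w (D.map ψ)]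

theorem exists_approx_system [CompactSpace X] [QuasiSeparatedSpace X] [CompactSpace Y] [QuasiSeparatedSpace Y]
    (f : X ⟶ Y) [LocallyOfFiniteType f] :
    ∃ (I : Type u) (_ : SmallCategory I) (_ : IsCofiltered I) (D : I ⥤ Over Y)
      (π : (Functor.const I).obj (Over.mk f) ⟶ D) (_ : IsLimit (Cone.mk (Over.mk f) π)),
      (∀ i, LocallyOfFinitePresentation (D.obj i).hom ∧ QuasiCompact (D.obj i).hom ∧
          QuasiSeparated (D.obj i).hom) ∧
        (∀ (i j : I) (t : i ⟶ j), IsClosedImmersion (D.map t).left) ∧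
        (∀ i, IsClosedImmersion (π.app i).left) ∧
        (∀ i, CompactSpace (D.obj i).left ∧ QuasiSeparatedSpace (D.obj i).left) ∧
        (IsProper f → ∀ i, IsProper (D.obj i).hom) := by
  by_cases hp : IsProper f
  · haveI := hp
    obtain ⟨I, _, _, D, c, hc, e, h1, h2⟩ := Approx60.exists_proper_fp_closed_limit f
    let π : (Functor.const I).obj (Over.mk f) ⟶ D := (Functor.const I).map e.inv ≫ c.π
    refine ⟨I, inferInstance, inferInstance, D, π, IsLimit.ofIsoLimit hc (Cone.ext e (fun i => by simp [π])),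
      fun i => ?_, h1, fun i => ?_, fun i => ?_, fun _ i => (h2 i).2.1⟩
    · haveI := (h2 i).2.1
      exact ⟨(h2 i).2.2, inferInstance, inferInstance⟩
    · haveI := (h2 i).1
      show IsClosedImmersion (e.inv.left ≫ (c.π.app i).left)
      infer_instance
    · haveI := (h2 i).2.1
      exact ⟨QuasiCompact.compactSpace_of_compactSpace (D.obj i).hom,
        quasiSeparatedSpace_of_quasiSeparated (D.obj i).hom⟩
  · obtain ⟨α, _, _, _, D, π, ⟨hl⟩, h1, h2, h3⟩ := Approx60.exists_fp_closed_limit f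
    exact ⟨αᵒᵖ, inferInstance, inferInstance, D, π, hl,
      fun i => ⟨(h1 i).1, (h1 i).2.1, (h1 i).2.2.1⟩, h2, h3, fun i => ⟨(h1 i).2.2.2.1, (h1 i).2.2.2.2⟩,
      fun h => absurd h hp⟩

theorem exists_pair_approximation [CompactSpace X] [QuasiSeparatedSpace X] [CompactSpace Y]
    [QuasiSeparatedSpace Y] (hX : BlowUp.IsEffCartierIdeal IX)
    (hY : BlowUp.IsEffCartierIdeal IY) (f : X ⟶ Y) (hf : ModPair.IsAmbient IX IY f)
    [LocallyOfFiniteType f] :
    ∃ (I : Type u) (_ : SmallCategory I) (_ : IsCofiltered I) (D : I ⥤ Over Y) (c : Cone D)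
      (_ : IsLimit c) (e : c.pt ≅ Over.mk f) (J : ∀ i, (D.obj i).left.IdealSheafData),
      (∀ i, LocallyOfFinitePresentation (D.obj i).hom ∧ QuasiCompact (D.obj i).hom ∧
          QuasiSeparated (D.obj i).hom) ∧
        (∀ (i j : I) (t : i ⟶ j), IsClosedImmersion (D.map t).left) ∧
        (∀ i, IsClosedImmersion (c.π.app i).left) ∧
        (∀ i, Curv2.IsLocPrincipal (J i)) ∧
        (∀ i, IX = (J i).comap (e.inv.left ≫ (c.π.app i).left)) ∧
        (∀ (i j : I) (t : i ⟶ j), J i = (J j).comap (D.map t).left) ∧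
        (∀ i, ModPair.IsAmbient (J i) IY (D.obj i).hom) ∧
        (ModPair.IsMinimal IX IY f → ∀ i, ModPair.IsMinimal (J i) IY (D.obj i).hom) ∧
        (IsProper f → ∀ i, IsProper (D.obj i).hom) ∧
        (ModPair.IsMinimal IX IY f → IsIso (f ∣_ ModPair.interior IY) →
          ∀ i, IsIso ((D.obj i).hom ∣_ ModPair.interior IY)) := by
  obtain ⟨I, _, _, D, π, hc, hD, hcl, hπ, hsp, hpr⟩ := exists_approx_system f
  haveI := hcl
  haveI : ∀ i, IsClosedImmersion (π.app i).left := hπ
  haveI : ∀ i, CompactSpace (D.obj i).left := fun i => (hsp i).1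
  haveI : ∀ i, QuasiSeparatedSpace (D.obj i).left := fun i => (hsp i).2
  obtain ⟨n, J₀, hJ₁, hJ₂, hJ₃, hJ₄⟩ := exists_stage_ideal IX IY hX hY f hf D π hc
  obtain ⟨l, φ, hiso⟩ : ∃ (l : I) (_ : l ⟶ n), ModPair.IsMinimal IX IY f → IsIso (f ∣_ ModPair.interior IY) →
      ∀ m, (m ⟶ l) → IsIso ((D.obj m).hom ∣_ ModPair.interior IY) := by
    by_cases h : IsIso (f ∣_ ModPair.interior IY)
    · haveI := h
      haveI := MP99.isAffineHom_interior (MP99.isLocPrincipal_of_isEffCartier hY)
      have hU : IsCompact (ModPair.interior IY : Set Y) := by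
        haveI : CompactSpace (ModPair.interior IY : Scheme.{u}) :=
          QuasiCompact.compactSpace_of_compactSpace (ModPair.interior IY).ι
        simpa using isCompact_range (ModPair.interior IY).ι.continuous
      let cE : Cone (D ⋙ Over.forget Y) := (Over.forget Y).mapCone (Cone.mk (Over.mk f) π)
      haveI : ∀ i, IsClosedImmersion (cE.π.app i) := fun i => inferInstanceAs (IsClosedImmersion (π.app i).left)
      haveI : ∀ i, LocallyOfFinitePresentation (D.obj i).hom := fun i => (hD i).1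
      haveI : ∀ i, QuasiCompact (D.obj i).hom := fun i => (hD i).2.1
      obtain ⟨l₀, hl₀⟩ := exists_stage_isIso_restrict D cE (isLimitOfPreserves (Over.forget Y) hc) f
        (fun i => Over.w (π.app i)) (ModPair.interior IY) hU
      obtain ⟨l, a, b, -⟩ := IsCofilteredOrEmpty.cone_objs n l₀
      exact ⟨l, a, fun _ _ m ψ => hl₀ m (ψ ≫ b)⟩
    · exact ⟨n, 𝟙 n, fun _ h' => absurd h' h⟩
  let G := Over.forget l
  let c' : Cone (G ⋙ D) := (Cone.mk (Over.mk f) π).whisker G
  have hc' : IsLimit c' := (Functor.Initial.isLimitWhiskerEquiv G _).symm hc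
  refine ⟨Over l, inferInstance, inferInstance, G ⋙ D, c', hc', Iso.refl _,
    fun i => J₀.comap (D.map (i.hom ≫ φ)).left, fun i => hD i.left, fun i j t => hcl _ _ _,
    fun i => hπ i.left, fun i => mem_isLocPrincipal_curv (MP99.isLocPrincipal_comap hJ₂ _),
    fun i => ?_, fun i j t => ?_, fun i => ?_, fun h i => ?_, fun h i => hpr h i.left,
    fun h h' i => hiso h h' i.left i.hom⟩
  · rw [← Scheme.IdealSheafData.comap_comp, hJ₁]
    congr 1
    show (π.app n).left = (𝟙 X ≫ (π.app i.left).left) ≫ (D.map (i.hom ≫ φ)).left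
    rw [Category.id_comp, ← Over.comp_left]
    exact (congrArg Over.Hom.left ((Cone.mk (Over.mk f) π).w (i.hom ≫ φ))).symm
  · show J₀.comap (D.map (i.hom ≫ φ)).left = (J₀.comap (D.map (j.hom ≫ φ)).left).comap (D.map t.left).left
    rw [← Scheme.IdealSheafData.comap_comp, ← Over.comp_left, ← D.map_comp, Over.w_assoc]
  · refine (Scheme.IdealSheafData.comap_mono _ hJ₃).trans ?_
    show (IY.comap (D.obj n).hom).comap (D.map (i.hom ≫ φ)).left ≤ IY.comap (D.obj i.left).hom
    rw [← Scheme.IdealSheafData.comap_comp, Over.w]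
  · show J₀.comap (D.map (i.hom ≫ φ)).left = IY.comap (D.obj i.left).hom
    rw [hJ₄ h, ← Scheme.IdealSheafData.comap_comp, Over.w]

end Groth.Agent.ModP1
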