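import Mathlib
import Groth.Agent.ModP1.PairApprox
import Groth.Agent.MP99.Factor
import Groth.Agent.MP99.ProdLemmas
import Groth.Agent.MP99.Ops
import Groth.Agent.MP99.Limit
import Groth.Agent.Approx60.ImmStage
import Groth.Agent.Approx60.ProperDesc
import Groth.Agent.LimDesc62.Points

/-!
Abstract admissible blow-ups descend along cofiltered limits of modulus pairs.
-/

set_option autoImplicit false
set_option backward.isDefEq.respectTransparency false
set_option backward.defeqAttrib.useBackward true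

universe u

open CategoryTheory CategoryTheory.Limits AlgebraicGeometry TopologicalSpace

namespace Groth.Agent.ModP1.AdmDescend

variable {A B A' B' W V : Scheme.{u}}

theorem isIso_snd_comp (g : A ⟶ B) (v : V ⟶ W) (b : W ⟶ B) [IsIso (pullback.snd g b)] :
    IsIso (pullback.snd g (v ≫ b)) := by
  have h : IsIso (pullback.snd (pullback.snd g b) v) := inferInstance
  rwa [← pullbackLeftPullbackSndIso_hom_snd, isIso_comp_left_iff] at h

theorem isIso_snd_of_isPullback {g : A ⟶ B} {π : B' ⟶ B} {p : A' ⟶ A} {q : A' ⟶ B'}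
    (h : IsPullback p q g π) (b : W ⟶ B') [IsIso (pullback.snd q b)] :
    IsIso (pullback.snd g (b ≫ π)) := by
  rw [← ((IsPullback.of_hasPullback q b).paste_horiz h).isoPullback_inv_snd]
  infer_instance

theorem isIso_snd_ι (g : A ⟶ B) (U : B.Opens) [IsIso (g ∣_ U)] : IsIso (pullback.snd g U.ι) := by
  rw [← (isPullback_morphismRestrict g U).flip.isoPullback_inv_snd]
  infer_instance

theorem isIso_restrict_of_snd (g : A ⟶ B) (U : B.Opens) [IsIso (pullback.snd g U.ι)] :
    IsIso (g ∣_ U) := by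
  rw [← (isPullback_morphismRestrict g U).flip.isoPullback_hom_snd]
  infer_instance

theorem isIso_snd_of_range (g : A ⟶ B) (U : B.Opens) [IsIso (g ∣_ U)] (b : W ⟶ B)
    (hb : ∀ z : W, b z ∈ U) : IsIso (pullback.snd g b) := by
  have := isIso_snd_ι g U
  rw [← IsOpenImmersion.lift_fac U.ι b (by rw [Scheme.Opens.range_ι]; rintro _ ⟨z, rfl⟩; exact hb z)]
  exact isIso_snd_comp g _ _

/-- A closed immersion that is an isomorphism over an open with scheme-theoretically dense preimage
has as kernel the kernel of the open. -/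
theorem ker_eq_of_isIso_restrict (h : A ⟶ B) [IsClosedImmersion h] (U : B.Opens) [QuasiCompact U.ι]
    [IsIso (h ∣_ U)] [IsSchemeTheoreticallyDominant (h ⁻¹ᵁ U).ι] : h.ker = U.ι.ker := by
  haveI : QuasiCompact (h ⁻¹ᵁ U).ι :=
    MorphismProperty.of_isPullback (P := @QuasiCompact) (isPullback_morphismRestrict h U) ‹_›
  rw [← Scheme.Hom.ker_comp_of_isIso (h ∣_ U) U.ι, morphismRestrict_ι, Scheme.Hom.ker_comp,
    (h ⁻¹ᵁ U).ι.ker_eq_bot, Scheme.IdealSheafData.map_bot]

theorem exists_model {I : Type u} [SmallCategory I] [IsCofiltered I] (D : I ⥤ Scheme.{u}) (c : Cone D)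
    (hc : IsLimit c) [∀ (i j : I) (t : i ⟶ j), IsAffineHom (D.map t)]
    [∀ i, CompactSpace (D.obj i)] [∀ i, QuasiSeparatedSpace (D.obj i)]
    (J : ∀ i, (D.obj i).IdealSheafData) (hJ : ∀ i, BlowUp.IsEffCartierIdeal (J i))
    (hmin : ∀ (i j : I) (t : i ⟶ j), ModPair.IsMinimal (J i) (J j) (D.map t))
    (IX : c.pt.IdealSheafData) (hIX : ∀ i, IX = (J i).comap (c.π.app i))
    {Y : Scheme.{u}} (s : Y ⟶ c.pt) (hY : BlowUp.IsEffCartierIdeal (IX.comap s))
    (hs : ModPair.IsAdmBlowup (IX.comap s) IX s) :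
    ∃ (i : I) (Y₀ : Scheme.{u}) (g : Y₀ ⟶ D.obj i) (j : Y ⟶ pullback (c.π.app i) g),
      IsProper g ∧ IsIso (g ∣_ ModPair.interior (J i)) ∧ IsClosedImmersion j ∧
      j ≫ pullback.fst (c.π.app i) g = s := by
  obtain ⟨i₀⟩ := IsCofiltered.nonempty (C := I)
  haveI : IsAffineHom (c.π.app i₀) := isAffineHom_π_app D c hc i₀
  haveI : CompactSpace c.pt := Scheme.compactSpace_of_isLimit D c hc
  haveI : QuasiSeparatedSpace c.pt := quasiSeparatedSpace_of_quasiSeparated (c.π.app i₀)
  haveI := hs.2.1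
  haveI := hs.2.2
  haveI : CompactSpace Y := QuasiCompact.compactSpace_of_compactSpace s
  haveI : QuasiSeparatedSpace Y := quasiSeparatedSpace_of_quasiSeparated s
  have hIXc : BlowUp.IsEffCartierIdeal IX := by
    have := MP99.isEffCartier_comap_limit D c hc J hJ hmin i₀
    rwa [← hIX i₀] at this
  obtain ⟨K, _, _, E, cE, -, e, -, hE, -, hcl, -, -, -, -, -, hpr, hiso⟩ :=
    exists_pair_approximation (IX.comap s) IX hY hIXc s (le_refl _)
  obtain ⟨k⟩ := IsCofiltered.nonempty (C := K)
  let f : (E.obj k).left ⟶ c.pt := (E.obj k).hom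
  let iY : Y ⟶ (E.obj k).left := e.inv.left ≫ (cE.π.app k).left
  haveI : IsClosedImmersion iY := by have := hcl k; infer_instance
  have hiY : iY ≫ f = s := Over.w (e.inv ≫ cE.π.app k)
  haveI : IsProper f := hpr hs.2.1 k
  haveI : IsIso (f ∣_ ModPair.interior IX) := hiso rfl hs.2.2 k
  haveI : LocallyOfFinitePresentation f := (hE k).1
  haveI : QuasiCompact f := (hE k).2.1
  obtain ⟨i₁, X₁, g₁, p₁, hg1, hg2, hg3, hpb₁⟩ := Approx60.S0591 D c hc _ f
  haveI := hg1; haveI := hg2; haveI := hg3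
  obtain ⟨i₂, φ, hp₂⟩ := Approx60.descProp_isProper.desc D c hc i₁ g₁
    (inferInstance : LocallyOfFiniteType g₁) (by rw [← hpb₁.isoPullback_inv_snd]; infer_instance)
  let g₂ : pullback g₁ (D.map φ) ⟶ D.obj i₂ := pullback.snd g₁ (D.map φ)
  haveI : IsProper g₂ := hp₂
  haveI : LocallyOfFinitePresentation g₂ := MorphismProperty.pullback_snd _ _ hg1
  let p₂ : (E.obj k).left ⟶ pullback g₁ (D.map φ) := pullback.lift p₁ (f ≫ c.π.app i₂) (by
    rw [hpb₁.w, Category.assoc, c.w])
  have hpb₂ : IsPullback p₂ f g₂ (c.π.app i₂) := by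
    refine IsPullback.of_right ?_ (pullback.lift_snd _ _ _) (IsPullback.of_hasPullback g₁ (D.map φ))
    rw [pullback.lift_fst, c.w]
    exact hpb₁
  let U : (D.obj i₂).Opens := ModPair.interior (J i₂)
  haveI := MP99.isAffineHom_interior (MP99.isLocPrincipal_of_isEffCartier (hJ i₂))
  haveI : CompactSpace U.toScheme := QuasiCompact.compactSpace_of_compactSpace U.ι
  have h : IsIso (pullback.snd (g₂ ∣_ U) (pullback.fst U.ι (c.π.app i₂))) := by
    haveI : IsIso (pullback.snd f (pullback.snd U.ι (c.π.app i₂))) :=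
      isIso_snd_of_range f (ModPair.interior IX) _ fun z => by
        rw [hIX i₂, MP99.interior_comap]
        show c.π.app i₂ (pullback.snd U.ι (c.π.app i₂) z) ∈ U
        have e := congrArg (fun k : pullback U.ι (c.π.app i₂) ⟶ D.obj i₂ => k z)
          (pullback.condition (f := U.ι) (g := c.π.app i₂))
        rw [Scheme.Hom.comp_apply] at e
        exact e ▸ Subtype.prop (pullback.fst U.ι (c.π.app i₂) z)
    haveI h1 := isIso_snd_of_isPullback hpb₂ (pullback.snd U.ι (c.π.app i₂))
    have sq := (IsPullback.of_hasPullback (g₂ ∣_ U) (pullback.fst U.ι (c.π.app i₂))).paste_horiz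
      (isPullback_morphismRestrict g₂ U).flip
    haveI : IsIso (pullback.snd g₂ (pullback.fst U.ι (c.π.app i₂) ≫ U.ι)) := by
      rw [pullback.condition]; exact h1
    rw [← sq.isoPullback_hom_snd]
    infer_instance
  obtain ⟨i₃, ψ, h₃⟩ := LimTop61.descend_of_compact_target LimDesc62.descProp_isIso.{u} D c hc i₂
    (g₂ ∣_ U) U.ι (inferInstance : LocallyOfFinitePresentation (g₂ ∣_ U)) h
  let g₃ : pullback g₂ (D.map ψ) ⟶ D.obj i₃ := pullback.snd g₂ (D.map ψ)
  haveI : IsProper g₃ := MorphismProperty.pullback_snd _ _ ‹IsProper g₂›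
  let p₃ : (E.obj k).left ⟶ pullback g₂ (D.map ψ) := pullback.lift p₂ (f ≫ c.π.app i₃) (by
    rw [hpb₂.w, Category.assoc, c.w])
  have hpb₃ : IsPullback p₃ f g₃ (c.π.app i₃) := by
    refine IsPullback.of_right ?_ (pullback.lift_snd _ _ _) (IsPullback.of_hasPullback g₂ (D.map ψ))
    rw [pullback.lift_fst, c.w]
    exact hpb₂
  have hU₃ : ModPair.interior (J i₃) = D.map ψ ⁻¹ᵁ U := by
    rw [hmin i₃ i₂ ψ, MP99.interior_comap]
  refine ⟨i₃, _, g₃, iY ≫ hpb₃.flip.isoPullback.hom, inferInstance, ?_, inferInstance, ?_⟩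
  · rw [hU₃]
    have : IsIso (pullback.snd g₂ ((D.map ψ ⁻¹ᵁ U).ι ≫ D.map ψ)) := by
      let v : (D.map ψ ⁻¹ᵁ U).toScheme ⟶ pullback U.ι (D.map ψ) :=
        pullback.lift (D.map ψ ∣_ U) (D.map ψ ⁻¹ᵁ U).ι (morphismRestrict_ι _ _)
      haveI : IsIso (pullback.snd g₂ (pullback.fst U.ι (D.map ψ) ≫ U.ι)) :=
        isIso_snd_of_isPullback (isPullback_morphismRestrict g₂ U).flip (pullback.fst U.ι (D.map ψ))
      have e : (D.map ψ ⁻¹ᵁ U).ι ≫ D.map ψ = v ≫ pullback.fst U.ι (D.map ψ) ≫ U.ι := by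
        rw [pullback.lift_fst_assoc, morphismRestrict_ι]
      rw [e]
      exact isIso_snd_comp g₂ _ _
    haveI : IsIso (pullback.snd g₃ (D.map ψ ⁻¹ᵁ U).ι) := by
      show IsIso (pullback.snd (pullback.snd g₂ (D.map ψ)) (D.map ψ ⁻¹ᵁ U).ι)
      rw [← pullbackLeftPullbackSndIso_hom_snd g₂ (D.map ψ) (D.map ψ ⁻¹ᵁ U).ι]
      infer_instance
    exact isIso_restrict_of_snd g₃ _
  · rw [Category.assoc, hpb₃.flip.isoPullback_hom_fst, hiY]

theorem exists_descend_admBlowup {I : Type u}
    [SmallCategory I] [IsCofiltered I] (D : I ⥤ Scheme.{u}) (c : Cone D) (hc : IsLimit c)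
    [∀ (i j : I) (t : i ⟶ j), IsAffineHom (D.map t)]
    [∀ i, CompactSpace (D.obj i)] [∀ i, QuasiSeparatedSpace (D.obj i)]
    (J : ∀ i, (D.obj i).IdealSheafData) (hJ : ∀ i, BlowUp.IsEffCartierIdeal (J i))
    (hmin : ∀ (i j : I) (t : i ⟶ j), ModPair.IsMinimal (J i) (J j) (D.map t))
    (IX : c.pt.IdealSheafData) (hIX : ∀ i, IX = (J i).comap (c.π.app i))
    {Y : Scheme.{u}} (s : Y ⟶ c.pt) (hY : BlowUp.IsEffCartierIdeal (IX.comap s))
    (hs : ModPair.IsAdmBlowup (IX.comap s) IX s) :
    ∃ (i : I) (Yi : Scheme.{u}) (IYi : Yi.IdealSheafData) (si : Yi ⟶ D.obj i),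
      BlowUp.IsEffCartierIdeal IYi ∧ ModPair.IsAdmBlowup IYi (J i) si ∧
        ∃ e : Y ≅ ModPair.mprod (c.π.app i) si IX IYi,
          e.hom ≫ ModPair.mprodι (c.π.app i) si IX IYi ≫ pullback.fst (c.π.app i) si = s := by
  obtain ⟨i, Y₀, g, j, hg, hgi, hj, hjs⟩ := exists_model D c hc J hJ hmin IX hIX s hY hs
  haveI := hg; haveI := hgi; haveI := hj
  have hIXc : BlowUp.IsEffCartierIdeal IX := by
    have := MP99.isEffCartier_comap_limit D c hc J hJ hmin i
    rwa [← hIX i] at this
  have hlJ := MP99.isLocPrincipal_of_isEffCartier (hJ i)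
  -- the model, closed up
  let W : Y₀.Opens := g ⁻¹ᵁ ModPair.interior (J i)
  haveI := MP99.isAffineHom_interior hlJ
  haveI : QuasiCompact W.ι :=
    MorphismProperty.of_isPullback (P := @QuasiCompact) (isPullback_morphismRestrict g _) inferInstance
  haveI := MP99.dominant_preimage_imageι W
  haveI := MP99.isIso_imageι_restrict W
  let si : W.ι.image ⟶ D.obj i := W.ι.imageι ≫ g
  let IYi : W.ι.image.IdealSheafData := (J i).comap si
  have hIYi : BlowUp.IsEffCartierIdeal IYi := by
    refine MP99.isEffCartier_comap hlJ si (W := W.ι.imageι ⁻¹ᵁ W) ?_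
    exact le_of_eq rfl
  haveI hsi : IsIso (si ∣_ ModPair.interior (J i)) := by
    rw [morphismRestrict_comp]; infer_instance
  refine ⟨i, W.ι.image, IYi, si, hIYi, ⟨rfl, inferInstance, hsi⟩, ?_⟩
  -- both sides are the closure of the open `U`
  let U : (pullback (c.π.app i) g).Opens := pullback.fst (c.π.app i) g ⁻¹ᵁ ModPair.interior IX
  haveI := MP99.isAffineHom_interior (MP99.isLocPrincipal_of_isEffCartier hIXc)
  haveI : QuasiCompact U.ι :=
    MorphismProperty.of_isPullback (P := @QuasiCompact) (isPullback_morphismRestrict _ _) inferInstance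
  have hle : ModPair.interior IX ≤ c.π.app i ⁻¹ᵁ ModPair.interior (J i) := by
    rw [hIX i, MP99.interior_comap]
  haveI : IsIso (pullback.fst (c.π.app i) g ∣_ ModPair.interior IX) :=
    MP99.isIso_restrict_of_isPullback (IsPullback.of_hasPullback (c.π.app i) g) hle
  haveI : IsIso (pullback.fst (c.π.app i) si ∣_ ModPair.interior IX) :=
    MP99.isIso_restrict_of_isPullback (IsPullback.of_hasPullback (c.π.app i) si) hle
  -- left side
  have hkY : j.ker = U.ι.ker := by
    haveI := hs.2.2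
    haveI : IsIso ((j ≫ pullback.fst (c.π.app i) g) ∣_ ModPair.interior IX) := by rw [hjs]; infer_instance
    haveI : IsIso (j ∣_ U) := by
      have h1 : IsIso ((j ∣_ U) ≫ (pullback.fst (c.π.app i) g ∣_ ModPair.interior IX)) := by
        rw [← morphismRestrict_comp]; infer_instance
      exact IsIso.of_isIso_comp_right _ (pullback.fst (c.π.app i) g ∣_ ModPair.interior IX)
    haveI : IsSchemeTheoreticallyDominant (j ⁻¹ᵁ U).ι := by
      have e : j ⁻¹ᵁ U = ModPair.interior (IX.comap s) := by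
        rw [MP99.interior_comap, ← hjs]; rfl
      rw [e]
      exact MP99.dominant_of_isEffCartier hY
    exact ker_eq_of_isIso_restrict j U
  -- right side
  let m : pullback (c.π.app i) si ⟶ pullback (c.π.app i) g :=
    pullback.lift (pullback.fst _ _) (pullback.snd _ _ ≫ W.ι.imageι) (by
      rw [Category.assoc]; exact pullback.condition)
  haveI : IsClosedImmersion m := by
    have sq : IsPullback m (pullback.snd (c.π.app i) si) (pullback.snd (c.π.app i) g) W.ι.imageι := by
      refine IsPullback.of_right ?_ (pullback.lift_snd _ _ _) (IsPullback.of_hasPullback (c.π.app i) g)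
      rw [pullback.lift_fst]
      exact IsPullback.of_hasPullback (c.π.app i) si
    exact MorphismProperty.of_isPullback (P := @IsClosedImmersion) sq.flip inferInstance
  let P := ModPair.prodInterior (c.π.app i) si IX IYi
  have hP : P = pullback.fst (c.π.app i) si ⁻¹ᵁ ModPair.interior IX := by
    refine inf_eq_left.mpr fun x hx => ?_
    rw [MP99.interior_comap]
    show (pullback.snd (c.π.app i) si ≫ si) x ∈ ModPair.interior (J i)
    rw [← pullback.condition]
    exact hle hx
  haveI : QuasiCompact P.ι := MP99.quasiCompact_prodInterior (c.π.app i) si hIXc hIYi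
  haveI := MP99.dominant_preimage_imageι P
  haveI := MP99.isIso_imageι_restrict P
  let h : ModPair.mprod (c.π.app i) si IX IYi ⟶ pullback (c.π.app i) g :=
    ModPair.mprodι (c.π.app i) si IX IYi ≫ m
  have hh : h ≫ pullback.fst (c.π.app i) g =
      ModPair.mprodι (c.π.app i) si IX IYi ≫ pullback.fst (c.π.app i) si := by
    rw [Category.assoc, pullback.lift_fst]
  have hkM : h.ker = U.ι.ker := by
    have eU : h ⁻¹ᵁ U = ModPair.mprodι (c.π.app i) si IX IYi ⁻¹ᵁ P := by
      rw [hP, ← Scheme.Hom.comp_preimage, ← Scheme.Hom.comp_preimage, hh]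
    haveI : IsIso (h ∣_ U) := by
      haveI : IsIso (ModPair.mprodι (c.π.app i) si IX IYi ∣_
          (pullback.fst (c.π.app i) si ⁻¹ᵁ ModPair.interior IX)) := by
        rw [← hP]; infer_instance
      haveI : IsIso ((ModPair.mprodι (c.π.app i) si IX IYi ≫ pullback.fst (c.π.app i) si) ∣_ ModPair.interior IX) := by
        rw [morphismRestrict_comp]; infer_instance
      have h1 : IsIso ((h ∣_ U) ≫ (pullback.fst (c.π.app i) g ∣_ ModPair.interior IX)) := by
        rw [← morphismRestrict_comp]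
        have key : ∀ (u v : ModPair.mprod (c.π.app i) si IX IYi ⟶ c.pt), u = v →
            IsIso (u ∣_ ModPair.interior IX) → IsIso (v ∣_ ModPair.interior IX) := by
          rintro u _ rfl; exact id
        exact key _ _ hh.symm inferInstance
      exact IsIso.of_isIso_comp_right _ (pullback.fst (c.π.app i) g ∣_ ModPair.interior IX)
    haveI : IsSchemeTheoreticallyDominant (h ⁻¹ᵁ U).ι := by rw [eU]; infer_instance
    exact ker_eq_of_isIso_restrict h U
  have hkk : h.ker = j.ker := hkM.trans hkY.symm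
  let a := IsClosedImmersion.lift h j hkk.le
  let b := IsClosedImmersion.lift j h hkk.ge
  have ha : a ≫ h = j := IsClosedImmersion.lift_fac _ _ _
  have hb : b ≫ j = h := IsClosedImmersion.lift_fac _ _ _
  refine ⟨⟨a, b, ?_, ?_⟩, ?_⟩
  · rw [← cancel_mono j, Category.assoc, hb, ha, Category.id_comp]
  · rw [← cancel_mono h, Category.assoc, ha, hb, Category.id_comp]
  · show a ≫ _ = s
    rw [← hh, reassoc_of% ha, hjs]

end Groth.Agent.ModP1.AdmDescend
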