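import Mathlib
import Groth.Agent.MP99.Frac
import Groth.Agent.MP99.LocPullback
import Groth.Agent.MP99.Basic

/-!
Abstract admissible blow-ups are epimorphisms of schemes; consequences for the localization.
-/

set_option autoImplicit false
set_option backward.isDefEq.respectTransparency false
set_option backward.defeqAttrib.useBackward true

universe u

open CategoryTheory CategoryTheory.Limits AlgebraicGeometry TopologicalSpace ModPair

namespace Groth.Agent.ModP1

theorem epi_of_surjective_dominant {X Y : Scheme.{u}} (t : X ⟶ Y) [Surjective t] [QuasiCompact t]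
    [IsSchemeTheoreticallyDominant t] {Z : Scheme.{u}} {a b : Y ⟶ Z} (h : t ≫ a = t ≫ b) : a = b := by
  have hb : a.base = b.base := by
    ext y
    obtain ⟨x, rfl⟩ := t.surjective y
    exact congrArg (fun m : X ⟶ Z => m x) h
  refine Scheme.Hom.ext hb fun U => ?_
  haveI : Mono (t.app (b ⁻¹ᵁ U)) := ConcreteCategory.mono_of_injective _ (t.app_injective _)
  rw [← cancel_mono (t.app (b ⁻¹ᵁ U)), Category.assoc, t.naturality]
  have e := (Scheme.Hom.congr_app h U)
  simp only [Scheme.Hom.comp_app, Category.assoc] at e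
  erw [reassoc_of% e]
  congr 1
  refine (congrArg (Scheme.Hom.app t (b ⁻¹ᵁ U) ≫ ·) ?_).trans (Category.comp_id _)
  erw [← Functor.map_comp]
  exact (congrArg X.presheaf.map (Subsingleton.elim _ _)).trans (X.presheaf.map_id _)

theorem hom_eq_of_admBlowup {W P : Pair.{u}} (t : W ⟶ P) (ht : Pair.admBlowup t) {Z : Scheme.{u}}
    {a b : P.total ⟶ Z} (h : t.hom ≫ a = t.hom ≫ b) : a = b := by
  haveI : IsProper t.hom := ht.2.1
  haveI : IsIso (t.hom ∣_ interior P.mod) := ht.2.2
  haveI := MP99.dominant_of_isEffCartier P.isEffCartier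
  haveI := MP99.isAffineHom_interior (MP99.isLocPrincipal_of_isEffCartier P.isEffCartier)
  have hd : IsSchemeTheoreticallyDominant t.hom := MP99.ker_le_of_factor (interior P.mod).ι t.hom
    (inv (t.hom ∣_ interior P.mod) ≫ (t.hom ⁻¹ᵁ interior P.mod).ι)
    (by rw [Category.assoc, IsIso.inv_comp_eq, morphismRestrict_ι])
  haveI := hd
  haveI : Surjective t.hom := by
    refine ⟨fun y => ?_⟩
    have h1 : IsClosed (Set.range t.hom) := t.hom.isClosedMap.isClosed_range
    have h2 := t.hom.denseRange.closure_range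
    rw [h1.closure_eq] at h2
    exact h2.ge (Set.mem_univ y)
  exact epi_of_surjective_dominant t.hom h

theorem map_Q_injective {P R : Pair.{u}} (a b : P ⟶ R)
    (h : (Pair.admBlowup.{u}).Q.map a = (Pair.admBlowup.{u}).Q.map b) : a = b := by
  haveI := MP99.hasRightCalculusOfFractions.{u}
  obtain ⟨W, t, ht, e⟩ := (MorphismProperty.map_eq_iff_precomp (Pair.admBlowup.{u}).Q Pair.admBlowup a b).1 h
  exact Pair.Hom.ext (hom_eq_of_admBlowup t ht (congrArg Pair.Hom.hom e))

/-- An honest representative of a morphism of the localization over a base. -/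
theorem exists_honest_over {S P R : Pair.{u}} (p : P ⟶ S) (r : R ⟶ S)
    (φ : (Pair.admBlowup.{u}).Q.obj P ⟶ (Pair.admBlowup.{u}).Q.obj R)
    (hφ : φ ≫ (Pair.admBlowup.{u}).Q.map r = (Pair.admBlowup.{u}).Q.map p) :
    ∃ (P' : Pair.{u}) (s : P' ⟶ P) (a : P' ⟶ R), Pair.admBlowup s ∧
      (Pair.admBlowup.{u}).Q.map s ≫ φ = (Pair.admBlowup.{u}).Q.map a ∧ s ≫ p = a ≫ r := by
  haveI := MP99.hasRightCalculusOfFractions.{u}
  obtain ⟨P', s, a, hs, ha⟩ := MP99.exists_honest (Pair.admBlowup.{u}).Q Pair.admBlowup φ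
  refine ⟨P', s, a, hs, ha, map_Q_injective _ _ ?_⟩
  rw [Functor.map_comp, Functor.map_comp, ← ha, Category.assoc, hφ]

end Groth.Agent.ModP1
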