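import Mathlib
import Groth.Agent.MP99.Ops
import Groth.Agent.Lim60.ClosedImmStage
import Groth.Prelude.Def_W4c6modpairsegaMP

/-!
A limit of finitely presented admissible blow-ups that is an admissible blow-up is finitely presented.
-/

set_option autoImplicit false
set_option backward.isDefEq.respectTransparency false
set_option backward.defeqAttrib.useBackward true

universe u

open CategoryTheory CategoryTheory.Limits AlgebraicGeometry TopologicalSpace

namespace Groth.Agent.ModP1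

/-- A morphism over `Y` that is a closed immersion into a scheme in which the preimage of an open is
scheme-theoretically dense is an isomorphism when both are isomorphic to `Y` over this open. -/
theorem isIso_of_isClosedImmersion_of_dense {X Z Y : Scheme.{u}} (p : X ⟶ Z) (g : Z ⟶ Y) (f : X ⟶ Y)
    (hp : p ≫ g = f) [IsClosedImmersion p] (U : Y.Opens) [IsIso (g ∣_ U)] [IsIso (f ∣_ U)]
    [IsSchemeTheoreticallyDominant (g ⁻¹ᵁ U).ι] : IsIso p := by
  let s : (g ⁻¹ᵁ U).toScheme ⟶ X := (g ∣_ U) ≫ inv (f ∣_ U) ≫ (f ⁻¹ᵁ U).ι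
  have hle : f ⁻¹ᵁ U = p ⁻¹ᵁ (g ⁻¹ᵁ U) := by rw [← Scheme.Hom.comp_preimage, hp]
  have hs : s ≫ p = (g ⁻¹ᵁ U).ι := by
    let r : (f ⁻¹ᵁ U).toScheme ⟶ (g ⁻¹ᵁ U).toScheme := p.resLE (g ⁻¹ᵁ U) (f ⁻¹ᵁ U) hle.le
    have hr : r ≫ (g ∣_ U) = f ∣_ U := by
      rw [← cancel_mono U.ι, Category.assoc, morphismRestrict_ι, Scheme.Hom.resLE_comp_ι_assoc, hp,
        morphismRestrict_ι]
    have hr' : r ≫ (g ⁻¹ᵁ U).ι = (f ⁻¹ᵁ U).ι ≫ p := Scheme.Hom.resLE_comp_ι _ _
    simp only [s, Category.assoc, ← hr']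
    have e : (g ∣_ U) ≫ inv (f ∣_ U) ≫ r = 𝟙 _ := by
      rw [← cancel_mono (g ∣_ U), Category.assoc, Category.assoc, hr, IsIso.inv_hom_id, Category.comp_id,
        Category.id_comp]
    rw [reassoc_of% e]
  haveI : IsSchemeTheoreticallyDominant p := MP99.ker_le_of_factor (g ⁻¹ᵁ U).ι p s hs
  exact IsClosedImmersion.isIso_iff_ker_eq_bot.mpr p.ker_eq_bot

theorem lfp_admBlowup_of_limit {Y : Scheme.{u}} [CompactSpace Y] (IY : Y.IdealSheafData)
    {I : Type u} [SmallCategory I] [IsCofiltered I] (D : I ⥤ Over Y) (c : Cone D) (hc : IsLimit c)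
    [∀ (i j : I) (t : i ⟶ j), IsAffineHom (D.map t).left]
    [∀ i, CompactSpace (D.obj i).left]
    (hI : ∀ i, BlowUp.IsEffCartierIdeal (IY.comap (D.obj i).hom))
    (hadm : ∀ i, ModPair.IsAdmBlowup (IY.comap (D.obj i).hom) IY (D.obj i).hom)
    [∀ i, LocallyOfFinitePresentation (D.obj i).hom]
    (hXadm : ModPair.IsAdmBlowup (IY.comap c.pt.hom) IY c.pt.hom) :
    LocallyOfFinitePresentation c.pt.hom := by
  haveI := hXadm.2.1
  haveI : LocallyOfFiniteType (𝟙 c.pt.left ≫ c.pt.hom) := by rw [Category.id_comp]; infer_instance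
  obtain ⟨i, hi⟩ := Lim60.S2076 Y D c hc (𝟙 c.pt.left)
  rw [Category.id_comp] at hi
  haveI := hi
  haveI := (hadm i).2.2
  haveI := hXadm.2.2
  haveI : IsSchemeTheoreticallyDominant ((D.obj i).hom ⁻¹ᵁ ModPair.interior IY).ι := by
    rw [← MP99.interior_comap]
    exact MP99.dominant_of_isEffCartier (hI i)
  haveI := isIso_of_isClosedImmersion_of_dense (c.π.app i).left (D.obj i).hom c.pt.hom (Over.w (c.π.app i))
    (ModPair.interior IY)
  have e : (c.π.app i).left ≫ (D.obj i).hom = c.pt.hom := Over.w (c.π.app i)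
  rw [← e]
  infer_instance

end Groth.Agent.ModP1
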