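import Mathlib
import Groth.Agent.ModP1.LimitFP
import Groth.Agent.ModP1.AdmDescend
import Groth.Agent.MP99.Limit
import Groth.Agent.MP99.Factor
import Groth.Agent.MP99.Image
import Groth.Agent.Approx60.LimitExists

/-!
The system of admissible blow-ups obtained from one admissible blow-up of a stage of a cofiltered
system of modulus pairs, and its limit.
-/

set_option autoImplicit false
set_option backward.isDefEq.respectTransparency false
set_option backward.defeqAttrib.useBackward true

universe u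

open CategoryTheory CategoryTheory.Limits AlgebraicGeometry TopologicalSpace

namespace Groth.Agent.ModP1.AdmSys

variable {I : Type u} [SmallCategory I] [IsCofiltered I] {D : I ⥤ Scheme.{u}}
  (J : ∀ i, (D.obj i).IdealSheafData) {i : I} {Y₀ : Scheme.{u}} (g : Y₀ ⟶ D.obj i)

/-- The open of a fibre product over the interior. -/
noncomputable def U (a : Over i) : (pullback (D.map a.hom) g).Opens :=
  pullback.fst (D.map a.hom) g ⁻¹ᵁ ModPair.interior (J a.left)

/-- The closure of the interior of a fibre product. -/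
noncomputable abbrev Z (a : Over i) : Scheme.{u} := (U J g a).ι.image

/-- Its inclusion. -/
noncomputable abbrev zι (a : Over i) : Z J g a ⟶ pullback (D.map a.hom) g := (U J g a).ι.imageι

/-- Its projection to the stage. -/
noncomputable def z (a : Over i) : Z J g a ⟶ D.obj a.left := zι J g a ≫ pullback.fst _ _

/-- Its projection to the model. -/
noncomputable def r (a : Over i) : Z J g a ⟶ Y₀ := zι J g a ≫ pullback.snd _ _

omit [IsCofiltered I] in
theorem z_w (a : Over i) : z J g a ≫ D.map a.hom = r J g a ≫ g := by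
  simp only [z, r, Category.assoc, pullback.condition]

omit [IsCofiltered I] in
theorem hom_ext {a : Over i} {W : Scheme.{u}} {f f' : W ⟶ Z J g a} (h₁ : f ≫ z J g a = f' ≫ z J g a)
    (h₂ : f ≫ r J g a = f' ≫ r J g a) : f = f' := by
  rw [← cancel_mono (zι J g a)]
  apply pullback.hom_ext
  · simpa [z] using h₁
  · simpa [r] using h₂

variable (hJ : ∀ i, BlowUp.IsEffCartierIdeal (J i))
include hJ

omit [IsCofiltered I] in
theorem qc_U (a : Over i) : QuasiCompact (U J g a).ι := by
  haveI := MP99.isAffineHom_interior (MP99.isLocPrincipal_of_isEffCartier (hJ a.left))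
  exact MorphismProperty.of_isPullback (P := @QuasiCompact)
    (isPullback_morphismRestrict (pullback.fst (D.map a.hom) g) _) inferInstance

omit [IsCofiltered I] in
theorem dominant_z (a : Over i) :
    IsSchemeTheoreticallyDominant (z J g a ⁻¹ᵁ ModPair.interior (J a.left)).ι := by
  haveI := qc_U J g hJ a
  exact MP99.dominant_preimage_imageι (U J g a)

omit [IsCofiltered I] in
theorem isEffCartier_z (a : Over i) : BlowUp.IsEffCartierIdeal ((J a.left).comap (z J g a)) := by
  haveI := dominant_z J g hJ a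
  exact MP99.isEffCartier_comap (MP99.isLocPrincipal_of_isEffCartier (hJ a.left)) _
    (W := z J g a ⁻¹ᵁ ModPair.interior (J a.left)) le_rfl

omit [IsCofiltered I] in
theorem exists_lift {W : Scheme.{u}} (a : Over i) (f : W ⟶ D.obj a.left) (q : W ⟶ Y₀)
    (w : f ≫ D.map a.hom = q ≫ g) (hd : IsSchemeTheoreticallyDominant (f ⁻¹ᵁ ModPair.interior (J a.left)).ι) :
    ∃ l : W ⟶ Z J g a, l ≫ z J g a = f ∧ l ≫ r J g a = q := by
  haveI := qc_U J g hJ a
  obtain ⟨l, hl⟩ := MP99.exists_lift_image (U J g a) (pullback.lift f q w) (f ⁻¹ᵁ ModPair.interior (J a.left))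
    (by rw [U, ← Scheme.Hom.comp_preimage, pullback.lift_fst])
  exact ⟨l, by rw [z, reassoc_of% hl, pullback.lift_fst], by rw [r, reassoc_of% hl, pullback.lift_snd]⟩

variable (hmin : ∀ (i j : I) (t : i ⟶ j), ModPair.IsMinimal (J i) (J j) (D.map t))
include hmin

omit [IsCofiltered I] in
theorem exists_map {a b : Over i} (φ : a ⟶ b) :
    ∃ l : Z J g a ⟶ Z J g b, l ≫ z J g b = z J g a ≫ D.map φ.left ∧ l ≫ r J g b = r J g a := by
  refine exists_lift J g hJ b (z J g a ≫ D.map φ.left) (r J g a) ?_ ?_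
  · rw [Category.assoc, ← D.map_comp, Over.w, z_w]
  · have e : (z J g a ≫ D.map φ.left) ⁻¹ᵁ ModPair.interior (J b.left) =
        z J g a ⁻¹ᵁ ModPair.interior (J a.left) := by
      rw [Scheme.Hom.comp_preimage, hmin a.left b.left φ.left, MP99.interior_comap]
    rw [e]
    exact dominant_z J g hJ a

/-- The system. -/
noncomputable def sys : Over i ⥤ Scheme.{u} where
  obj a := Z J g a
  map φ := (exists_map J g hJ hmin φ).choose
  map_id a := by
    obtain ⟨h₁, h₂⟩ := (exists_map J g hJ hmin (𝟙 a)).choose_spec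
    exact hom_ext J g (by rw [h₁]; simp) (by rw [h₂]; simp)
  map_comp {a b c} φ ψ := by
    obtain ⟨h₁, h₂⟩ := (exists_map J g hJ hmin (φ ≫ ψ)).choose_spec
    obtain ⟨k₁, k₂⟩ := (exists_map J g hJ hmin φ).choose_spec
    obtain ⟨m₁, m₂⟩ := (exists_map J g hJ hmin ψ).choose_spec
    refine hom_ext J g ?_ ?_
    · rw [h₁, Category.assoc, m₁, reassoc_of% k₁]; simp
    · rw [h₂, Category.assoc, m₂, k₂]

omit [IsCofiltered I] in
theorem map_z {a b : Over i} (φ : a ⟶ b) :
    (sys J g hJ hmin).map φ ≫ z J g b = z J g a ≫ D.map φ.left :=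
  (exists_map J g hJ hmin φ).choose_spec.1

omit [IsCofiltered I] in
theorem map_r {a b : Over i} (φ : a ⟶ b) : (sys J g hJ hmin).map φ ≫ r J g b = r J g a :=
  (exists_map J g hJ hmin φ).choose_spec.2

variable [∀ (i j : I) (t : i ⟶ j), IsAffineHom (D.map t)]

omit [IsCofiltered I] in
theorem isAffineHom_map {a b : Over i} (φ : a ⟶ b) : IsAffineHom ((sys J g hJ hmin).map φ) := by
  let m : pullback (D.map a.hom) g ⟶ pullback (D.map b.hom) g :=
    pullback.lift (pullback.fst _ _ ≫ D.map φ.left) (pullback.snd _ _)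
      (by rw [Category.assoc, ← D.map_comp, Over.w]; exact pullback.condition)
  haveI : IsAffineHom m := by
    have sq : IsPullback m (pullback.fst (D.map a.hom) g) (pullback.fst (D.map b.hom) g) (D.map φ.left) := by
      refine IsPullback.of_right ?_ (pullback.lift_fst _ _ _) (IsPullback.of_hasPullback (D.map b.hom) g).flip
      rw [pullback.lift_snd, ← D.map_comp, Over.w]
      exact (IsPullback.of_hasPullback (D.map a.hom) g).flip
    exact MorphismProperty.of_isPullback (P := @IsAffineHom) sq.flip inferInstance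
  have e : (sys J g hJ hmin).map φ ≫ zι J g b = zι J g a ≫ m := by
    apply pullback.hom_ext
    · simpa [z, m, pullback.lift_fst] using map_z J g hJ hmin φ
    · simpa [r, m, pullback.lift_snd] using map_r J g hJ hmin φ
  haveI : IsAffineHom ((sys J g hJ hmin).map φ ≫ zι J g b) := by rw [e]; infer_instance
  exact MorphismProperty.of_postcomp (W := @IsAffineHom) _ (zι J g b)
    (inferInstance : IsSeparated (zι J g b)) ‹_›

variable [IsProper g] [IsIso (g ∣_ ModPair.interior (J i))]

omit [IsCofiltered I] [∀ (i j : I) (t : i ⟶ j), IsAffineHom (D.map t)] in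
theorem isAdmBlowup_z (a : Over i) :
    ModPair.IsAdmBlowup ((J a.left).comap (z J g a)) (J a.left) (z J g a) := by
  haveI := qc_U J g hJ a
  refine ⟨rfl, by unfold z; infer_instance, ?_⟩
  have hle : ModPair.interior (J a.left) ≤ D.map a.hom ⁻¹ᵁ ModPair.interior (J i) := by
    rw [hmin a.left i a.hom, MP99.interior_comap]
  haveI := MP99.isIso_restrict_of_isPullback (IsPullback.of_hasPullback (D.map a.hom) g) hle
  haveI : IsIso (zι J g a ∣_ (pullback.fst (D.map a.hom) g ⁻¹ᵁ ModPair.interior (J a.left))) :=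
    MP99.isIso_imageι_restrict (U J g a)
  unfold z
  rw [morphismRestrict_comp]
  infer_instance

omit [IsCofiltered I] in
theorem dominant_map {a b : Over i} (φ : a ⟶ b) [IsSchemeTheoreticallyDominant (D.map φ.left)] :
    IsSchemeTheoreticallyDominant ((sys J g hJ hmin).map φ) := by
  let V := ModPair.interior (J b.left)
  haveI := dominant_z J g hJ b
  haveI := (isAdmBlowup_z J g hJ hmin b).2.2
  haveI := (isAdmBlowup_z J g hJ hmin a).2.2
  haveI : IsSchemeTheoreticallyDominant (D.map φ.left ∣_ V) :=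
    IsSchemeTheoreticallyDominant.of_isPullback (isPullback_morphismRestrict (D.map φ.left) V).flip
  have eI : D.map φ.left ⁻¹ᵁ V = ModPair.interior (J a.left) := by
    rw [hmin a.left b.left φ.left, MP99.interior_comap]
  haveI : IsIso (z J g a ∣_ (D.map φ.left ⁻¹ᵁ V)) := by rw [eI]; infer_instance
  haveI hu : IsIso (z J g b ∣_ V) := inferInstance
  let h : (D.map φ.left ⁻¹ᵁ V).toScheme ⟶ Z J g a :=
    inv (z J g a ∣_ (D.map φ.left ⁻¹ᵁ V)) ≫ (z J g a ⁻¹ᵁ (D.map φ.left ⁻¹ᵁ V)).ι
  let k : (D.map φ.left ⁻¹ᵁ V).toScheme ⟶ Z J g b :=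
    (D.map φ.left ∣_ V) ≫ inv (z J g b ∣_ V) ≫ (z J g b ⁻¹ᵁ V).ι
  have hk : h ≫ (sys J g hJ hmin).map φ = k := by
    let Wa := z J g a ⁻¹ᵁ (D.map φ.left ⁻¹ᵁ V)
    have hle : Wa ≤ (sys J g hJ hmin).map φ ⁻¹ᵁ (z J g b ⁻¹ᵁ V) := by
      rw [← Scheme.Hom.comp_preimage, map_z, Scheme.Hom.comp_preimage]
    let t : Wa.toScheme ⟶ (z J g b ⁻¹ᵁ V).toScheme := ((sys J g hJ hmin).map φ).resLE _ _ hle
    have ht : t ≫ (z J g b ∣_ V) = (z J g a ∣_ (D.map φ.left ⁻¹ᵁ V)) ≫ (D.map φ.left ∣_ V) := by
      rw [← cancel_mono V.ι, Category.assoc, morphismRestrict_ι, Scheme.Hom.resLE_comp_ι_assoc, map_z,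
        Category.assoc, morphismRestrict_ι, morphismRestrict_ι_assoc]
    simp only [h, k, Category.assoc]
    rw [IsIso.inv_comp_eq, ← reassoc_of% ht, IsIso.hom_inv_id_assoc, Scheme.Hom.resLE_comp_ι]
  haveI : IsSchemeTheoreticallyDominant k := inferInstance
  exact MP99.ker_le_of_factor k _ h hk

variable (c : Cone D) (hc : IsLimit c) (IX : c.pt.IdealSheafData) (hIX : ∀ i, IX = (J i).comap (c.π.app i))
include hc hIX

/-- An admissible blow-up of the limit which sits inside the model is the limit of the system. -/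
theorem exists_limit {X' : Scheme.{u}} (sX : X' ⟶ c.pt) (q : X' ⟶ Y₀) (w : sX ≫ c.π.app i = q ≫ g)
    [IsClosedImmersion (pullback.lift sX q w)] [IsIso (sX ∣_ ModPair.interior IX)]
    (hX' : BlowUp.IsEffCartierIdeal (IX.comap sX)) :
    ∃ (π : (Functor.const (Over i)).obj X' ⟶ sys J g hJ hmin),
      Nonempty (IsLimit (Cone.mk X' π)) ∧
      ∀ a, π.app a ≫ z J g a = sX ≫ c.π.app a.left ∧ π.app a ≫ r J g a = q := by
  let E := sys J g hJ hmin
  haveI : ∀ (a b : Over i) (φ : a ⟶ b), IsAffineHom (E.map φ) := fun a b φ => isAffineHom_map J g hJ hmin φ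
  haveI : ∀ {a b : Over i} (φ : a ⟶ b), IsAffineHom (E.map φ) := fun φ => isAffineHom_map J g hJ hmin φ
  have hlift : ∀ a : Over i, ∃ l : X' ⟶ Z J g a, l ≫ z J g a = sX ≫ c.π.app a.left ∧ l ≫ r J g a = q := fun a => by
    refine exists_lift J g hJ a _ q (by rw [Category.assoc, c.w, w]) ?_
    have e : (sX ≫ c.π.app a.left) ⁻¹ᵁ ModPair.interior (J a.left) = ModPair.interior (IX.comap sX) := by
      rw [Scheme.Hom.comp_preimage, MP99.interior_comap, hIX a.left, MP99.interior_comap]
    rw [e]
    exact MP99.dominant_of_isEffCartier hX'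
  choose p hp hq using hlift
  let π : (Functor.const (Over i)).obj X' ⟶ E :=
    { app := p
      naturality := fun a b φ => by
        refine (Category.id_comp _).trans (hom_ext J g ?_ ?_)
        · show p b ≫ z J g b = (p a ≫ E.map φ) ≫ z J g b
          rw [Category.assoc, map_z, reassoc_of% (hp a), hp, c.w]
        · show p b ≫ r J g b = (p a ≫ E.map φ) ≫ r J g b
          rw [Category.assoc, map_r, hq, hq] }
  refine ⟨π, ?_, fun a => ⟨hp a, hq a⟩⟩
  haveI : HasLimit E := Approx60.hasLimit_of_isAffineHom E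
  let L := limit.cone E
  haveI : IsConnected (Over i) := CategoryTheory.isConnected_of_hasTerminal (Over i)
  let cD : Cone (Over.forget i ⋙ D) := c.whisker (Over.forget i)
  let hcD : IsLimit cD := (Functor.Initial.isLimitWhiskerEquiv (Over.forget i) _).symm hc
  let zN : E ⟶ Over.forget i ⋙ D :=
    { app := fun a => z J g a
      naturality := fun a b φ => map_z J g hJ hmin φ }
  let u : L.pt ⟶ c.pt := hcD.lift ((Cone.postcompose zN).obj L)
  have hu : ∀ a : Over i, u ≫ c.π.app a.left = L.π.app a ≫ z J g a := fun a => hcD.fac _ a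
  let o : Over i := Over.mk (𝟙 i)
  have ho : ∀ a : Over i, L.π.app a ≫ r J g a = L.π.app o ≫ r J g o := fun a => by
    rw [← L.w (Over.homMk a.hom (by simp [o]) : a ⟶ o), Category.assoc, map_r]
  have hw : u ≫ c.π.app i = (L.π.app o ≫ r J g o) ≫ g := by
    rw [show c.π.app i = c.π.app o.left from rfl, hu, Category.assoc]
    congr 1
    rw [← z_w]; simp [o]
  let l : L.pt ⟶ pullback (c.π.app i) g := pullback.lift u _ hw
  haveI : Mono l := ⟨fun a b hab => (limit.isLimit E).hom_ext fun x => by
    have h₁ := congrArg (· ≫ pullback.fst (c.π.app i) g) hab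
    have h₂ := congrArg (· ≫ pullback.snd (c.π.app i) g) hab
    simp only [l, Category.assoc, pullback.lift_fst, pullback.lift_snd] at h₁ h₂
    refine hom_ext J g ?_ ?_
    · rw [Category.assoc, Category.assoc, ← hu, reassoc_of% h₁]
    · rw [Category.assoc, Category.assoc, ho, h₂]⟩
  let a : X' ⟶ L.pt := (limit.isLimit E).lift (Cone.mk X' π)
  have ha : ∀ x, a ≫ L.π.app x = p x := fun x => (limit.isLimit E).fac _ x
  have hau : a ≫ u = sX := hcD.hom_ext fun x => by
    show (a ≫ u) ≫ c.π.app x.left = sX ≫ c.π.app x.left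
    rw [Category.assoc, hu, reassoc_of% (ha x), hp]
  have hal : a ≫ l = pullback.lift sX q w := by
    apply pullback.hom_ext
    · rw [Category.assoc, pullback.lift_fst, pullback.lift_fst, hau]
    · rw [Category.assoc, pullback.lift_snd, pullback.lift_snd, reassoc_of% (ha o), hq]
  haveI : IsClosedImmersion a := by
    haveI : IsClosedImmersion (a ≫ l) := by rw [hal]; infer_instance
    exact IsClosedImmersion.of_comp a l
  let V := ModPair.interior IX
  haveI : IsSchemeTheoreticallyDominant (u ⁻¹ᵁ V).ι := by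
    rw [← MP99.interior_comap]
    refine MP99.dominant_of_isEffCartier ?_
    have h := MP99.isEffCartier_comap_limit E L (limit.isLimit E) (fun x => (J x.left).comap (z J g x))
      (fun x => isEffCartier_z J g hJ x) (fun x y φ => by
        rw [← Scheme.IdealSheafData.comap_comp, map_z, Scheme.IdealSheafData.comap_comp, ← hmin x.left y.left φ.left])
      o
    rwa [← Scheme.IdealSheafData.comap_comp, ← hu, Scheme.IdealSheafData.comap_comp, ← hIX] at h
  haveI : IsIso (u ∣_ V) := by
    haveI : IsIso (pullback.fst (c.π.app i) g ∣_ V) := by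
      refine MP99.isIso_restrict_of_isPullback (V := ModPair.interior (J i)) (IsPullback.of_hasPullback (c.π.app i) g) ?_
      show ModPair.interior IX ≤ _
      rw [hIX i, MP99.interior_comap]
    haveI : Mono (l ∣_ (pullback.fst (c.π.app i) g ⁻¹ᵁ V)) :=
      MorphismProperty.of_isPullback (P := MorphismProperty.monomorphisms Scheme.{u})
        (isPullback_morphismRestrict l _).flip ‹Mono l›
    haveI : Mono (u ∣_ V) := by
      have key : ∀ (v v' : L.pt ⟶ c.pt), v = v' → Mono (v ∣_ V) → Mono (v' ∣_ V) := by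
        rintro v _ rfl; exact id
      refine key (l ≫ pullback.fst (c.π.app i) g) u (pullback.lift_fst _ _ _) ?_
      rw [morphismRestrict_comp]; infer_instance
    haveI : IsSplitEpi (u ∣_ V) := by
      have h1 : IsIso ((a ∣_ (u ⁻¹ᵁ V)) ≫ (u ∣_ V)) := by
        rw [← morphismRestrict_comp]
        have key : ∀ (v v' : X' ⟶ c.pt), v = v' → IsIso (v ∣_ V) → IsIso (v' ∣_ V) := by
          rintro v _ rfl; exact id
        exact key sX _ hau.symm ‹_›
      exact ⟨⟨⟨inv ((a ∣_ (u ⁻¹ᵁ V)) ≫ (u ∣_ V)) ≫ (a ∣_ (u ⁻¹ᵁ V)), by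
        rw [Category.assoc, IsIso.inv_hom_id]⟩⟩⟩
    exact isIso_of_mono_of_isSplitEpi _
  haveI := isIso_of_isClosedImmersion_of_dense a u sX hau V
  exact ⟨(limit.isLimit E).ofIsoLimit (Cone.ext (asIso a).symm fun x => by
    show L.π.app x = inv a ≫ p x
    rw [IsIso.eq_inv_comp, ha])⟩

end Groth.Agent.ModP1.AdmSys
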