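import Mathlib
import Groth.Prelude.Def_Curves

/-!
Absolutely integrally closed domains and retractions of finite algebras.
-/

set_option autoImplicit false

universe u

open Polynomial

namespace Groth.Agent.ModP1

theorem isAIC_quotient {A : Type u} [CommRing A] (hA : Curves.IsAIC A) (q : Ideal A) : Curves.IsAIC (A ⧸ q) := by
  intro F hF hdeg
  rcases subsingleton_or_nontrivial (A ⧸ q) with h | h
  · exact ⟨0, Subsingleton.elim _ _⟩
  obtain ⟨G, hG, hGd, hGm⟩ := lifts_and_natDegree_eq_and_monic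
    (Polynomial.map_surjective (Ideal.Quotient.mk q) Ideal.Quotient.mk_surjective F) hF
  obtain ⟨r, hr⟩ := hA G hGm (by rw [hGd]; exact hdeg)
  exact ⟨Ideal.Quotient.mk q r, by rw [← hG, eval_map_apply, hr, map_zero]⟩

theorem isAIC_localization {A : Type u} [CommRing A] (hA : Curves.IsAIC A) (M : Submonoid A) (L : Type u)
    [CommRing L] [Algebra A L] [IsLocalization M L] : Curves.IsAIC L := by
  intro F hF hdeg
  rcases subsingleton_or_nontrivial L with h | h
  · exact ⟨0, Subsingleton.elim _ _⟩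
  classical
  set d := IsLocalization.commonDenom M F.support F.coeff
  have hq : F.scaleRoots (algebraMap A L d) ∈ lifts (algebraMap A L) :=
    IsLocalization.scaleRoots_commonDenom_mem_lifts M F (by rw [hF.leadingCoeff]; exact ⟨1, map_one _⟩)
  obtain ⟨G, hG, hGd, hGm⟩ := lifts_and_natDegree_eq_and_monic hq ((monic_scaleRoots_iff _).2 hF)
  obtain ⟨r, hr⟩ := hA G hGm (by rw [hGd, natDegree_scaleRoots]; exact hdeg)
  let v : Lˣ := (IsLocalization.map_units L d).unit
  refine ⟨↑v⁻¹ * algebraMap A L r, ?_⟩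
  have h1 := scaleRoots_eval₂_mul (p := F) (RingHom.id L) (↑v⁻¹ * algebraMap A L r) (algebraMap A L d)
  rw [RingHom.id_apply, show algebraMap A L d = (v : L) from rfl, Units.mul_inv_cancel_left] at h1
  have h2 : eval₂ (RingHom.id L) (algebraMap A L r) (F.scaleRoots (v : L)) = 0 := by
    show eval₂ (RingHom.id L) (algebraMap A L r) (F.scaleRoots (algebraMap A L d)) = 0
    rw [← hG, eval₂_id, eval_map_apply, hr, map_zero]
  rw [h2] at h1
  exact ((v.isUnit.pow F.natDegree).mul_right_eq_zero).1 h1.symm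

theorem isAlgClosed_of_isAIC (K : Type u) [Field K] (h : Curves.IsAIC K) : IsAlgClosed K :=
  IsAlgClosed.of_exists_root _ fun p hp hirr => h p hp hirr.natDegree_pos

theorem isAlgClosed_fractionRing {A : Type u} [CommRing A] [IsDomain A] (h : Curves.IsAIC A) :
    IsAlgClosed (FractionRing A) :=
  isAlgClosed_of_isAIC _ (isAIC_localization h (nonZeroDivisors A) _)

theorem mem_range_of_eval_eq_zero {A : Type u} [CommRing A] (hA : Curves.IsAIC A) {B : Type u} [CommRing B]
    [IsDomain B] [Algebra A B] (b : B) : ∀ (n : ℕ) (F : A[X]), F.Monic → F.natDegree = n → aeval b F = 0 →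
      b ∈ Set.range (algebraMap A B) := by
  haveI : Nontrivial A := (algebraMap A B).domain_nontrivial
  intro n
  induction n with
  | zero =>
    intro F hF hn h0
    rw [hF.natDegree_eq_zero.1 hn, map_one] at h0
    exact absurd h0 one_ne_zero
  | succ n ih =>
    intro F hF hn h0
    obtain ⟨r, hr⟩ := hA F hF (by omega)
    obtain ⟨G, hG⟩ : X - C r ∣ F := dvd_iff_isRoot.2 hr
    rw [hG, map_mul, map_sub, aeval_X, aeval_C, mul_eq_zero, sub_eq_zero] at h0
    rcases h0 with h0 | h0
    · exact ⟨r, h0.symm⟩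
    · have hGm : G.Monic := (monic_X_sub_C r).of_mul_monic_left (hG ▸ hF)
      refine ih G hGm ?_ h0
      have := congrArg natDegree hG
      rw [(monic_X_sub_C r).natDegree_mul hGm, natDegree_X_sub_C] at this
      omega

/-- An integral extension of an absolutely integrally closed domain retracts. -/
theorem exists_retraction {A : Type u} [CommRing A] [IsDomain A] (hA : Curves.IsAIC A) (B : Type u) [CommRing B]
    [Algebra A B] [Algebra.IsIntegral A B] (hinj : Function.Injective (algebraMap A B)) :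
    Nonempty (B →ₐ[A] A) := by
  haveI : (⊥ : Ideal A).IsPrime := Ideal.isPrime_bot
  obtain ⟨P, -, hP, hPc⟩ := Ideal.exists_ideal_over_prime_of_isIntegral (⊥ : Ideal A) (⊥ : Ideal B)
    (by rw [← RingHom.ker_eq_comap_bot, (RingHom.injective_iff_ker_eq_bot _).1 hinj])
  haveI := hP
  let ψ : A →ₐ[A] B ⧸ P := Algebra.ofId A (B ⧸ P)
  have hψ : Function.Bijective ψ := by
    refine ⟨(injective_iff_map_eq_zero _).2 fun a ha => ?_, fun y => ?_⟩
    · have h1 : a ∈ P.comap (algebraMap A B) := Ideal.mem_comap.2 (Ideal.Quotient.eq_zero_iff_mem.1 (show Ideal.Quotient.mk P (algebraMap A B a) = 0 from ha))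
      rwa [hPc, Ideal.mem_bot] at h1
    · obtain ⟨F, hF, hF0⟩ := Algebra.IsIntegral.isIntegral (R := A) y
      exact mem_range_of_eval_eq_zero hA y _ F hF rfl hF0
  exact ⟨(AlgEquiv.ofBijective ψ hψ).symm.toAlgHom.comp (Ideal.Quotient.mkₐ A P)⟩

/-- Retractions of finite covers give an absolutely integrally closed domain. -/
theorem domain_aic_of_retractions {A : Type u} [CommRing A] [Nontrivial A] {f : A} (hf : f ∈ nonZeroDivisors A)
    (h : ∀ (ι : Type u) (B : ι → Type u) [∀ i, CommRing (B i)] [∀ i, Algebra A (B i)],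
      (∀ i, Module.Finite A (B i)) → (∀ i, algebraMap A (B i) f ∈ nonZeroDivisors (B i)) →
      (∀ p : PrimeSpectrum A, ∃ (i : ι) (P : PrimeSpectrum (B i)), P.asIdeal.comap (algebraMap A (B i)) = p.asIdeal) →
      ∃ i, Nonempty (B i →ₐ[A] A)) :
    IsDomain A ∧ Curves.IsAIC A := by
  refine ⟨?_, fun F hF hdeg => ?_⟩
  · obtain ⟨i, ⟨s⟩⟩ := h {Q : Ideal A // Q ∈ minimalPrimes A} (fun Q => A ⧸ Q.1) (fun Q => inferInstance)
      (fun Q => by
        haveI : Q.1.IsPrime := Q.2.1.1
        refine mem_nonZeroDivisors_of_ne_zero fun h0 => ?_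
        exact notMem_nonZeroDivisors_of_mem_mem_minimalPrimes (Ideal.Quotient.eq_zero_iff_mem.1 h0) Q.2 hf)
      (fun p => by
        obtain ⟨Q, hQ, hQp⟩ := Ideal.exists_minimalPrimes_le (I := (⊥ : Ideal A)) (J := p.asIdeal) bot_le
        refine ⟨⟨Q, hQ⟩, ⟨p.asIdeal.map (Ideal.Quotient.mk Q),
          Ideal.map_isPrime_of_surjective Ideal.Quotient.mk_surjective (by rwa [Ideal.mk_ker])⟩, ?_⟩
        show (p.asIdeal.map (Ideal.Quotient.mk Q)).comap (Ideal.Quotient.mk Q) = p.asIdeal
        rw [Ideal.comap_map_of_surjective' _ Ideal.Quotient.mk_surjective, Ideal.mk_ker, sup_eq_left.2 hQp])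
    haveI : i.1.IsPrime := i.2.1.1
    exact Function.Injective.isDomain (Ideal.Quotient.mk i.1) (fun x y hxy =>
      (s.commutes x).symm.trans ((congrArg s hxy).trans (s.commutes y)))
  · haveI := hF.free_adjoinRoot
    haveI := hF.finite_adjoinRoot
    have hinj : Function.Injective (algebraMap A (AdjoinRoot F)) := fun a b hab => by
      have h1 : AdjoinRoot.mk F (C a) = AdjoinRoot.mk F (C b) := hab
      rw [AdjoinRoot.mk_eq_mk] at h1
      by_contra hne
      refine hF.not_dvd_of_natDegree_lt (sub_ne_zero.2 fun he => hne (C_injective he)) ?_ h1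
      rw [← C_sub, natDegree_C]; exact hdeg
    obtain ⟨_, ⟨s⟩⟩ := h PUnit.{u+1} (fun _ => AdjoinRoot F) (fun _ => inferInstance)
      (fun _ => by
        refine mem_nonZeroDivisors_iff_right.2 fun x hx => ?_
        have hb : ∀ j, (Module.Free.chooseBasis A (AdjoinRoot F)).repr x j = 0 := fun j => by
          have h2 := congrArg (fun z => (Module.Free.chooseBasis A (AdjoinRoot F)).repr z j) hx
          simp only [mul_comm x, ← Algebra.smul_def, map_smul, map_zero, Finsupp.smul_apply, Finsupp.zero_apply, smul_eq_mul] at h2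
          exact (mem_nonZeroDivisors_iff_left.1 hf) _ h2
        exact (Module.Free.chooseBasis A (AdjoinRoot F)).repr.injective (by ext j; simp [hb j]))
      (fun p => by
        haveI : Algebra.IsIntegral A (AdjoinRoot F) := Algebra.IsIntegral.of_finite A _
        obtain ⟨P, -, hP, hPc⟩ := Ideal.exists_ideal_over_prime_of_isIntegral p.asIdeal (⊥ : Ideal (AdjoinRoot F))
          (by rw [← RingHom.ker_eq_comap_bot, (RingHom.injective_iff_ker_eq_bot _).1 hinj]; exact bot_le)
        exact ⟨PUnit.unit, ⟨P, hP⟩, hPc⟩)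
    refine ⟨s (AdjoinRoot.root F), ?_⟩
    have h1 := congrArg s ((AdjoinRoot.aeval_eq F).trans AdjoinRoot.mk_self)
    rw [map_zero, ← aeval_algHom_apply] at h1
    rwa [← coe_aeval_eq_eval]

end Groth.Agent.ModP1
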