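import Mathlib

/-!
Semi-valuation rings `(A, f, q)` and the extension of morphisms to proper modifications.
-/

set_option autoImplicit false

universe u

open CategoryTheory AlgebraicGeometry IsLocalRing

namespace Groth.Agent.ModP1

/-- `A` glues the valuation ring `A ⧸ q` to the local ring `A[1/f]` along its closed point `q`. -/
structure SemiVal {A : Type u} [CommRing A] (f : A) (q : Ideal A) : Prop where
  isPrime : q.IsPrime
  notMem : f ∉ q
  exists_dvd : ∀ s ∉ q, ∃ n : ℕ, s ∣ f ^ n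
  pow_dvd : ∀ x ∈ q, ∀ n : ℕ, f ^ n ∣ x
  valuation : ValuationRing (A ⧸ q)

/-- An element with all `(x, f ^ n)` comparable lies in the closed point or divides a power of `f`. -/
def inftyIdealSet {A : Type u} [CommRing A] (f : A) : Set A := {x | ∀ n : ℕ, ¬ x ∣ f ^ n}

theorem dvd_or_dvd_of_span_eq {A : Type u} [CommRing A] [IsLocalRing A] {x y e : A}
    (h : Ideal.span {x, y} = Ideal.span {e}) (he : e ∈ nonZeroDivisors A) : x ∣ y ∨ y ∣ x := by
  obtain ⟨c, hc⟩ := Ideal.mem_span_singleton'.1 (h.le (Ideal.subset_span (Set.mem_insert x {y})))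
  obtain ⟨d, hd⟩ := Ideal.mem_span_singleton'.1 (h.le (Ideal.subset_span (Set.mem_insert_of_mem x rfl)))
  obtain ⟨a, b, hab⟩ := Ideal.mem_span_pair.1 (h.ge (Ideal.mem_span_singleton_self e))
  have h1 : (a * c + b * d - 1) * e = 0 := by
    rw [← hc, ← hd] at hab
    linear_combination hab
  have h2 : a * c + b * d = 1 := sub_eq_zero.1 ((mem_nonZeroDivisors_iff_right.1 he) _ h1)
  rcases IsLocalRing.isUnit_or_isUnit_of_add_one h2 with hu | hu
  · exact Or.inl ⟨d * ↑((isUnit_of_mul_isUnit_right hu).unit⁻¹), by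
      rw [← hc, ← hd, mul_comm d ↑(_⁻¹ : Aˣ), ← mul_assoc, mul_assoc c e, mul_comm c (e * _), mul_assoc e,
        IsUnit.val_inv_mul, mul_one, mul_comm e]⟩
  · exact Or.inr ⟨c * ↑((isUnit_of_mul_isUnit_right hu).unit⁻¹), by
      rw [← hc, ← hd, mul_comm c ↑(_⁻¹ : Aˣ), ← mul_assoc, mul_assoc d e, mul_comm d (e * _), mul_assoc e,
        IsUnit.val_inv_mul, mul_one, mul_comm e]⟩

theorem semiVal_of_comparable {A : Type u} [CommRing A] [IsLocalRing A] {f : A} (hf : f ∈ nonZeroDivisors A)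
    (h : ∀ x y : A, ∀ n : ℕ, f ^ n ∈ Ideal.span {x, y} → x ∣ y ∨ y ∣ x) :
    ∃ q : Ideal A, SemiVal f q := by
  have hcmp : ∀ x, x ∈ inftyIdealSet f → ∀ n : ℕ, f ^ n ∣ x := fun x hx n =>
    (h x (f ^ n) n (Ideal.subset_span (Set.mem_insert_of_mem x rfl))).resolve_left (hx n)
  have hunit : ∀ x, ¬ x ∈ inftyIdealSet f → ∃ n : ℕ, x ∣ f ^ n := fun x hx => by
    by_contra hc
    exact hx fun n hn => hc ⟨n, hn⟩
  by_cases hfu : IsUnit f
  · -- the modulus is empty
    refine ⟨maximalIdeal A, (maximalIdeal.isMaximal A).isPrime, fun hm => (IsLocalRing.mem_maximalIdeal f).1 hm hfu,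
      fun s hs => ⟨0, (IsLocalRing.notMem_maximalIdeal.1 hs).dvd⟩, fun x _ n => (hfu.pow n).dvd, ?_⟩
    letI := Ideal.Quotient.field (maximalIdeal A)
    infer_instance
  have hzero : (0 : A) ∈ inftyIdealSet f := fun n hn => by
    rw [zero_dvd_iff] at hn
    have : (1 : A) = 0 := (pow_mem hf n : f ^ n ∈ nonZeroDivisors A) |> fun hp => by
      have := (mem_nonZeroDivisors_iff_right.1 hp) 1 (by rw [hn, mul_zero])
      exact this
    exact one_ne_zero this
  have hadd : ∀ x y, x ∈ inftyIdealSet f → y ∈ inftyIdealSet f → x + y ∈ inftyIdealSet f := by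
    intro x y hx hy n hn
    obtain ⟨a, ha⟩ := hcmp x hx (n + 1)
    obtain ⟨b, hb⟩ := hcmp y hy (n + 1)
    obtain ⟨c, hc⟩ := hn
    refine hfu (IsUnit.of_mul_eq_one ((a + b) * c) ?_)
    have h1 : f ^ n * (f * ((a + b) * c) - 1) = 0 := by
      rw [ha, hb] at hc
      linear_combination (-1 : A) * hc
    have h2 := (mem_nonZeroDivisors_iff_left.1 (pow_mem hf n)) _ h1
    exact sub_eq_zero.1 h2
  let q : Ideal A :=
    { carrier := inftyIdealSet f
      zero_mem' := hzero
      add_mem' := fun {x y} => hadd x y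
      smul_mem' := fun a x hx n hn => hx n ((dvd_mul_left x a).trans hn) }
  have hq : ∀ x, x ∈ q ↔ x ∈ inftyIdealSet f := fun _ => Iff.rfl
  have hprime : q.IsPrime := by
    refine ⟨fun he => ((hq 1).1 (he.ge trivial)) 0 (by rw [pow_zero]), fun {x y} hxy => ?_⟩
    by_contra hne
    push Not at hne
    obtain ⟨n, hn⟩ := hunit x hne.1
    obtain ⟨m, hm⟩ := hunit y hne.2
    exact hxy (n + m) (by rw [pow_add]; exact mul_dvd_mul hn hm)
  refine ⟨q, hprime, fun hf' => hf' 1 (by rw [pow_one]), hunit, hcmp, ?_⟩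
  haveI := hprime
  refine ValuationRing.iff_dvd_total.2 ⟨fun a b => ?_⟩
  obtain ⟨x, rfl⟩ := Ideal.Quotient.mk_surjective a
  obtain ⟨y, rfl⟩ := Ideal.Quotient.mk_surjective b
  by_cases hx : x ∈ q
  · exact Or.inr (by rw [Ideal.Quotient.eq_zero_iff_mem.2 hx]; exact dvd_zero _)
  obtain ⟨n, hn⟩ := hunit x hx
  obtain ⟨c, hc⟩ := hn
  rcases h x y n (Ideal.mem_span_pair.2 ⟨c, 0, by rw [hc]; ring⟩) with h' | h'
  · exact Or.inl (map_dvd _ h')
  · exact Or.inr (map_dvd _ h')

variable {A : Type u} [CommRing A] [IsLocalRing A] {f : A} {q : Ideal A}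

theorem SemiVal.le_of_notMem (H : SemiVal f q) {P : Ideal A} [P.IsPrime] (hP : f ∉ P) : P ≤ q := fun x hx => by
  by_contra hq
  obtain ⟨n, hn⟩ := H.exists_dvd x hq
  exact hP (‹P.IsPrime›.mem_of_pow_mem n (P.mem_of_dvd hn hx))

/-- An element of `A[1/f]` whose residue at `q` lies in `A ⧸ q` lies in `A`. -/
theorem SemiVal.exists_eq (H : SemiVal f q) (hf : f ∈ nonZeroDivisors A) (Af : Type u) [CommRing Af]
    [Algebra A Af] [IsLocalization.Away f Af] (K : Type u) [Field K] [Algebra (A ⧸ q) K]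
    [IsFractionRing (A ⧸ q) K] (ρ : Af →+* K)
    (hρ : ρ.comp (algebraMap A Af) = (algebraMap (A ⧸ q) K).comp (Ideal.Quotient.mk q))
    (z : Af) (b : A ⧸ q) (hb : ρ z = algebraMap (A ⧸ q) K b) :
    ∃ a : A, algebraMap A Af a = z := by
  obtain ⟨⟨x, ⟨_, n, rfl⟩⟩, hx⟩ := IsLocalization.surj (Submonoid.powers f) z
  obtain ⟨b, rfl⟩ := Ideal.Quotient.mk_surjective b
  have h1 := congrArg ρ hx
  simp only [map_mul] at h1
  have hρ' : ∀ w, ρ (algebraMap A Af w) = algebraMap (A ⧸ q) K (Ideal.Quotient.mk q w) := RingHom.congr_fun hρ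
  rw [hb, hρ', hρ', ← map_mul, ← map_mul] at h1
  have h2 : x - b * f ^ n ∈ q :=
    Ideal.Quotient.eq.1 (IsFractionRing.injective (A ⧸ q) K h1).symm
  obtain ⟨c, hc⟩ := H.pow_dvd _ h2 n
  refine ⟨b + c, (IsLocalization.map_units Af (⟨f ^ n, n, rfl⟩ : Submonoid.powers f)).mul_left_injective ?_⟩
  show algebraMap A Af (b + c) * algebraMap A Af (f ^ n) = z * algebraMap A Af (f ^ n)
  rw [hx, ← map_mul]
  refine congrArg _ ?_
  linear_combination (-1 : A) * hc

theorem apply_mem_of_closedPoint {R : Type u} [CommRing R] [IsLocalRing R] {X : Scheme.{u}}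
    (g : Spec (CommRingCat.of R) ⟶ X) {U : X.Opens} (h : g (closedPoint R) ∈ U) (x : Spec (CommRingCat.of R)) :
    g x ∈ U :=
  ((specializes_closedPoint (R := R) x).map g.continuous).mem_open U.2 h

open CategoryTheory.Limits in
/-- Morphisms from a semi-valuation ring lift along proper modifications. -/
theorem SemiVal.exists_lift (H : SemiVal f q) (hf : f ∈ nonZeroDivisors A) {X Q : Scheme.{u}} (p : Q ⟶ X)
    [IsProper p] (U : X.Opens) [IsIso (p ∣_ U)] (g : Spec (CommRingCat.of A) ⟶ X)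
    (hg : ∀ x : Spec (CommRingCat.of A), f ∉ x.asIdeal → g x ∈ U) :
    ∃ h : Spec (CommRingCat.of A) ⟶ Q, h ≫ p = g := by
  haveI := H.isPrime
  haveI := H.valuation
  let Af := Localization.Away f
  let K := FractionRing (A ⧸ q)
  let ρ₀ : A →+* K := (algebraMap (A ⧸ q) K).comp (Ideal.Quotient.mk q)
  have hfu : IsUnit (ρ₀ f) := by
    rw [isUnit_iff_ne_zero]
    intro h0
    exact H.notMem (Ideal.Quotient.eq_zero_iff_mem.1
      (IsFractionRing.injective (A ⧸ q) K (h0.trans (map_zero _).symm)))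
  let ρ : Af →+* K := IsLocalization.Away.lift f hfu
  have hρ : ρ.comp (algebraMap A Af) = ρ₀ := IsLocalization.Away.lift_comp f hfu
  let iAf : Spec (CommRingCat.of Af) ⟶ Spec (CommRingCat.of A) := Spec.map (CommRingCat.ofHom (algebraMap A Af))
  let iB : Spec (CommRingCat.of (A ⧸ q)) ⟶ Spec (CommRingCat.of A) := Spec.map (CommRingCat.ofHom (Ideal.Quotient.mk q))
  let jK : Spec (CommRingCat.of K) ⟶ Spec (CommRingCat.of Af) := Spec.map (CommRingCat.ofHom ρ)
  let kK : Spec (CommRingCat.of K) ⟶ Spec (CommRingCat.of (A ⧸ q)) := Spec.map (CommRingCat.ofHom (algebraMap (A ⧸ q) K))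
  have hsq : jK ≫ iAf = kK ≫ iB := by
    rw [← Spec.map_comp, ← Spec.map_comp, ← CommRingCat.ofHom_comp, ← CommRingCat.ofHom_comp, hρ]
  have hAfmem : ∀ x : Spec (CommRingCat.of Af), f ∉ (iAf x).asIdeal := fun x hx =>
    x.2.ne_top (Ideal.eq_top_of_isUnit_mem _ hx (IsLocalization.Away.algebraMap_isUnit f))
  -- the lift over the interior
  have hrange : Set.range (iAf ≫ g) ⊆ Set.range U.ι := by
    rintro _ ⟨x, rfl⟩
    rw [Scheme.Opens.range_ι]
    exact hg _ (hAfmem x)
  let h₀ : Spec (CommRingCat.of Af) ⟶ Q :=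
    IsOpenImmersion.lift U.ι (iAf ≫ g) hrange ≫ inv (p ∣_ U) ≫ (p ⁻¹ᵁ U).ι
  have hh₀ : h₀ ≫ p = iAf ≫ g := by
    simp only [h₀, Category.assoc, ← morphismRestrict_ι, IsIso.inv_hom_id_assoc, IsOpenImmersion.lift_fac]
  -- the lift over the valuation ring
  have hw : CommSq (jK ≫ h₀) kK p (iB ≫ g) := ⟨by rw [Category.assoc, hh₀, ← Category.assoc, hsq, Category.assoc]⟩
  have hp : ValuativeCriterion p := by
    have : @IsProper _ _ p := inferInstance
    rw [IsProper.eq_valuativeCriterion] at this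
    exact this.1.1.1
  let S : ValuativeCommSq p :=
    { R := A ⧸ q, K := K, i₁ := jK ≫ h₀, i₂ := iB ≫ g, commSq := hw }
  obtain ⟨⟨l, hl₁, hl₂⟩⟩ : Nonempty S.commSq.LiftStruct := (hp.existence S).exists_lift
  -- an affine open containing the image
  obtain ⟨_, ⟨V, hV, rfl⟩, hlV, -⟩ :=
    Q.isBasis_affineOpens.exists_subset_of_mem_open (Set.mem_univ (l (closedPoint (A ⧸ q)))) isOpen_univ
  haveI := hV.isOpenImmersion_fromSpec
  have hlr : Set.range l ⊆ Set.range hV.fromSpec := by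
    rintro _ ⟨x, rfl⟩
    rw [hV.range_fromSpec]
    exact apply_mem_of_closedPoint l hlV x
  have hh₀r : Set.range h₀ ⊆ Set.range hV.fromSpec := by
    rintro _ ⟨x, rfl⟩
    rw [hV.range_fromSpec]
    have hle : (iAf x).asIdeal ≤ q := H.le_of_notMem (hAfmem x)
    haveI : ((iAf x).asIdeal).IsPrime := (iAf x).2
    let y : Spec (CommRingCat.of Af) := jK (closedPoint K)
    have hy : (iAf y).asIdeal = q := by
      show ((maximalIdeal K).comap ρ).comap (algebraMap A Af) = q
      rw [Ideal.comap_comap, hρ, IsLocalRing.maximalIdeal_eq_bot, ← RingHom.ker_eq_comap_bot]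
      ext a
      rw [RingHom.mem_ker]
      show algebraMap (A ⧸ q) K (Ideal.Quotient.mk q a) = 0 ↔ a ∈ q
      rw [map_eq_zero_iff _ (IsFractionRing.injective (A ⧸ q) K), Ideal.Quotient.eq_zero_iff_mem]
    have hs : x ⤳ y := by
      refine (PrimeSpectrum.le_iff_specializes x y).1 ?_
      intro a ha
      obtain ⟨⟨b, s⟩, hbs⟩ := IsLocalization.surj (Submonoid.powers f) a
      have h1 : algebraMap A Af b ∈ x.asIdeal := hbs ▸ x.asIdeal.mul_mem_right _ ha
      have h2 : algebraMap A Af b ∈ y.asIdeal := show b ∈ (iAf y).asIdeal from hy.symm ▸ hle h1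
      rw [← hbs] at h2
      exact (y.2.mem_or_mem h2).resolve_right fun h3 =>
        y.2.ne_top (Ideal.eq_top_of_isUnit_mem _ h3 (IsLocalization.map_units Af s))
    have h1 : h₀ y ∈ V := by
      show h₀ (jK (closedPoint K)) ∈ V
      rw [show h₀ (jK (closedPoint K)) = l (kK (closedPoint K)) from
        congrArg (fun φ : Spec (CommRingCat.of K) ⟶ Q => φ (closedPoint K)) hl₁.symm]
      exact apply_mem_of_closedPoint l hlV _
    exact (hs.map h₀.continuous).mem_open V.2 h1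
  obtain ⟨α, hα⟩ : ∃ α : Γ(Q, V) ⟶ CommRingCat.of Af, Spec.map α ≫ hV.fromSpec = h₀ :=
    ⟨Spec.preimage (IsOpenImmersion.lift hV.fromSpec h₀ hh₀r), by rw [Spec.map_preimage, IsOpenImmersion.lift_fac]⟩
  obtain ⟨β, hβ⟩ : ∃ β : Γ(Q, V) ⟶ CommRingCat.of (A ⧸ q), Spec.map β ≫ hV.fromSpec = l :=
    ⟨Spec.preimage (IsOpenImmersion.lift hV.fromSpec l hlr), by rw [Spec.map_preimage, IsOpenImmersion.lift_fac]⟩
  have hαβ : α ≫ CommRingCat.ofHom ρ = β ≫ CommRingCat.ofHom (algebraMap (A ⧸ q) K) := by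
    apply Spec.map_injective
    rw [← cancel_mono hV.fromSpec, Spec.map_comp, Spec.map_comp, Category.assoc, Category.assoc, hα, hβ]
    exact hl₁.symm
  -- glue
  have hinj : Function.Injective (algebraMap A Af) :=
    IsLocalization.injective Af (Submonoid.powers_le.2 hf)
  have hmem : ∀ c, α.hom c ∈ (algebraMap A Af).range := fun c => by
    obtain ⟨a, ha⟩ := H.exists_eq hf Af K ρ hρ (α.hom c) (β.hom c) (congr($(hαβ).hom c))
    exact ⟨a, ha⟩
  let γ : Γ(Q, V) →+* A :=
    (RingEquiv.ofBijective (algebraMap A Af).rangeRestrict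
      ⟨fun _ _ h => hinj (congrArg Subtype.val h), (algebraMap A Af).rangeRestrict_surjective⟩).symm.toRingHom.comp
      (α.hom.codRestrict _ hmem)
  have hγ : ∀ c, algebraMap A Af (γ c) = α.hom c := fun c =>
    congrArg Subtype.val ((RingEquiv.ofBijective (algebraMap A Af).rangeRestrict
      ⟨fun _ _ h => hinj (congrArg Subtype.val h), (algebraMap A Af).rangeRestrict_surjective⟩).apply_symm_apply
        ⟨α.hom c, hmem c⟩)
  let h : Spec (CommRingCat.of A) ⟶ Q := Spec.map (CommRingCat.ofHom γ) ≫ hV.fromSpec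
  have hiAf : iAf ≫ h = h₀ := by
    rw [← hα, ← Category.assoc, ← Spec.map_comp]
    exact congrArg (fun φ => Spec.map φ ≫ hV.fromSpec) (CommRingCat.hom_ext (RingHom.ext hγ))
  have hiB : iB ≫ h = l := by
    rw [← hβ, ← Category.assoc, ← Spec.map_comp]
    refine congrArg (fun φ => Spec.map φ ≫ hV.fromSpec) (CommRingCat.hom_ext (RingHom.ext fun c => ?_))
    refine IsFractionRing.injective (A ⧸ q) K ?_
    show algebraMap (A ⧸ q) K (Ideal.Quotient.mk q (γ c)) = algebraMap (A ⧸ q) K (β.hom c)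
    rw [← RingHom.comp_apply (algebraMap (A ⧸ q) K), ← RingHom.congr_fun hρ, RingHom.comp_apply, hγ]
    exact congr($(hαβ).hom c)
  refine ⟨h, ?_⟩
  -- both composites land in an affine open
  obtain ⟨_, ⟨W, hW, rfl⟩, hgW, -⟩ :=
    X.isBasis_affineOpens.exists_subset_of_mem_open (Set.mem_univ (g (closedPoint A))) isOpen_univ
  haveI := hW.isOpenImmersion_fromSpec
  have hcl : iB (closedPoint (A ⧸ q)) = closedPoint A := by
    haveI : IsLocalHom (Ideal.Quotient.mk q) := IsLocalHom.of_surjective _ Ideal.Quotient.mk_surjective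
    exact comap_closedPoint (S := A ⧸ q) (Ideal.Quotient.mk q)
  have hgr : Set.range g ⊆ Set.range hW.fromSpec := by
    rintro _ ⟨x, rfl⟩
    rw [hW.range_fromSpec]; exact apply_mem_of_closedPoint g hgW x
  have hhW : (h ≫ p) (closedPoint A) ∈ W := by
    have h1 : (iB ≫ h ≫ p) (closedPoint (A ⧸ q)) = (iB ≫ g) (closedPoint (A ⧸ q)) := by
      rw [← Category.assoc, hiB, hl₂]
    rw [← hcl]
    show (iB ≫ h ≫ p) (closedPoint (A ⧸ q)) ∈ W
    rw [h1]
    show g (iB (closedPoint (A ⧸ q))) ∈ W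
    rw [hcl]; exact hgW
  have hhr : Set.range (h ≫ p) ⊆ Set.range hW.fromSpec := by
    rintro _ ⟨x, rfl⟩
    rw [hW.range_fromSpec]; exact apply_mem_of_closedPoint (h ≫ p) hhW x
  have key : IsOpenImmersion.lift hW.fromSpec (h ≫ p) hhr = IsOpenImmersion.lift hW.fromSpec g hgr := by
    rw [← Spec.map_preimage (IsOpenImmersion.lift hW.fromSpec (h ≫ p) hhr),
      ← Spec.map_preimage (IsOpenImmersion.lift hW.fromSpec g hgr)]
    refine congrArg Spec.map (CommRingCat.hom_ext (RingHom.ext fun c => hinj ?_))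
    have h1 : Spec.preimage (IsOpenImmersion.lift hW.fromSpec (h ≫ p) hhr) ≫ CommRingCat.ofHom (algebraMap A Af) =
        Spec.preimage (IsOpenImmersion.lift hW.fromSpec g hgr) ≫ CommRingCat.ofHom (algebraMap A Af) := by
      apply Spec.map_injective
      rw [← cancel_mono hW.fromSpec, Spec.map_comp, Spec.map_comp, Spec.map_preimage, Spec.map_preimage]
      refine (Category.assoc _ _ _).trans (Eq.trans ?_ (Category.assoc _ _ _).symm)
      rw [IsOpenImmersion.lift_fac, IsOpenImmersion.lift_fac]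
      show iAf ≫ h ≫ p = iAf ≫ g
      rw [← Category.assoc, hiAf, hh₀]
    exact congr($(h1).hom c)
  rw [← IsOpenImmersion.lift_fac hW.fromSpec (h ≫ p) hhr, key, IsOpenImmersion.lift_fac]

end Groth.Agent.ModP1
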