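import Mathlib
import Groth.Agent.ModP1.SemiVal

/-!
The interior of a henselian semi-valuation ring is henselian.
-/

set_option autoImplicit false

universe u

open IsLocalRing Polynomial

namespace Groth.Agent.ModP1

variable {A : Type u} [CommRing A] [IsLocalRing A] {f : A} {q : Ideal A}

theorem SemiVal.exists_mem_eq (H : SemiVal f q) (Af : Type u) [CommRing Af] [Algebra A Af] [IsLocalization.Away f Af]
    [IsLocalRing Af] {z : Af} (hz : z ∈ maximalIdeal Af) : ∃ c ∈ q, algebraMap A Af c = z := by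
  obtain ⟨⟨x, ⟨_, n, rfl⟩⟩, hx⟩ := IsLocalization.surj (Submonoid.powers f) z
  have hxq : x ∈ q := by
    by_contra hxq
    obtain ⟨m, hm⟩ := H.exists_dvd x hxq
    have hx' : z * algebraMap A Af (f ^ n) = algebraMap A Af x := hx
    have h3 : IsUnit (z * algebraMap A Af (f ^ n)) := by
      rw [hx']
      exact isUnit_of_dvd_unit (map_dvd _ hm) (IsLocalization.map_units _ (⟨f ^ m, m, rfl⟩ : Submonoid.powers f))
    exact (IsLocalRing.mem_maximalIdeal z).1 hz (isUnit_of_mul_isUnit_left h3)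
  obtain ⟨c, hc⟩ := H.pow_dvd x hxq n
  refine ⟨c, (H.isPrime.mem_or_mem (hc ▸ hxq)).resolve_left fun h => H.notMem (H.isPrime.mem_of_pow_mem n h), ?_⟩
  refine (IsLocalization.map_units Af (⟨f ^ n, n, rfl⟩ : Submonoid.powers f)).mul_left_injective ?_
  show algebraMap A Af c * algebraMap A Af (f ^ n) = z * algebraMap A Af (f ^ n)
  rw [hx, ← map_mul, hc, mul_comm]

theorem henselianLocalRing_away (A : Type u) [CommRing A] [HenselianLocalRing A] {f : A} {q : Ideal A}
    (H : SemiVal f q) (Af : Type u) [CommRing Af] [Algebra A Af] [IsLocalization.Away f Af] [IsLocalRing Af] :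
    HenselianLocalRing Af := by
  refine { is_henselian := fun F hF a₀ h₁ h₂ => ?_ }
  set N := F.natDegree with hN
  let c : ℕ → Af := fun i => (F.taylor a₀).coeff i
  have hc0 : c 0 = F.eval a₀ := F.taylor_coeff_zero a₀
  have hc1 : c 1 = F.derivative.eval a₀ := F.taylor_coeff_one a₀
  have hN0 : 1 ≤ N := by
    by_contra h
    have hF1 : F = 1 := hF.natDegree_eq_zero.1 (by omega)
    rw [hF1, eval_one] at h₁
    exact (maximalIdeal.isMaximal Af).ne_top ((Ideal.eq_top_iff_one _).2 h₁)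
  obtain ⟨v, hv⟩ := h₂.exists_left_inv
  -- the small coefficients
  have he : ∀ i, 2 ≤ i → c i * (-1) ^ i * c 0 ^ (i - 1) * v ^ i ∈ maximalIdeal Af := fun i hi =>
    Ideal.mul_mem_right _ _ (Ideal.mul_mem_left _ _ (Ideal.pow_mem_of_mem _ (hc0 ▸ h₁) _ (by omega)))
  choose! d hd hde using fun i (hi : 2 ≤ i) => H.exists_mem_eq Af (he i hi)
  have hdm : ∀ i ∈ Finset.Icc 2 N, d i ∈ maximalIdeal A := fun i hi =>
    IsLocalRing.le_maximalIdeal H.isPrime.ne_top (hd i (Finset.mem_Icc.1 hi).1)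
  let R : A[X] := -X ^ (N - 1) + ∑ i ∈ Finset.Icc 2 N, C (d i) * X ^ (N - i)
  let W : A[X] := X ^ N + R
  have hR : R.degree < N := by
    refine lt_of_le_of_lt (degree_add_le _ _) (max_lt ?_ (lt_of_le_of_lt (degree_sum_le _ _) ?_))
    · rw [degree_neg, degree_X_pow]; exact_mod_cast (by omega : N - 1 < N)
    · refine (Finset.sup_lt_iff (WithBot.bot_lt_coe N)).2 fun i hi => lt_of_le_of_lt (degree_C_mul_X_pow_le _ _) ?_
      have := Finset.mem_Icc.1 hi
      exact Nat.cast_lt.2 (by omega : N - i < N)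
  have hW : W.Monic := monic_X_pow_add hR
  have hW1 : W.eval 1 ∈ maximalIdeal A := by
    have : W.eval 1 = ∑ i ∈ Finset.Icc 2 N, d i := by simp [W, R, eval_finset_sum]
    rw [this]
    exact Submodule.sum_mem _ hdm
  have hW1' : IsUnit (W.derivative.eval 1) := by
    have h3 : W.derivative.eval 1 = 1 + ∑ i ∈ Finset.Icc 2 N, d i * ((N - i : ℕ) : A) := by
      obtain ⟨M, hM⟩ : ∃ M, N = M + 1 := ⟨N - 1, by omega⟩
      simp [W, R, eval_finset_sum, hM, derivative_X_pow]
      ring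
    rw [h3, ← notMem_maximalIdeal]
    intro hm
    have h4 := sub_mem hm (Submodule.sum_mem _ fun i hi => Ideal.mul_mem_right ((N - i : ℕ) : A) _ (hdm i hi) :
      ∑ i ∈ Finset.Icc 2 N, d i * ((N - i : ℕ) : A) ∈ maximalIdeal A)
    rw [add_sub_cancel_right] at h4
    exact (maximalIdeal.isMaximal A).ne_top ((Ideal.eq_top_iff_one _).2 h4)
  obtain ⟨w, hw, hw1⟩ := HenselianLocalRing.is_henselian W hW 1 hW1 hW1'
  have hwu : IsUnit w := by
    rw [← notMem_maximalIdeal]
    intro hm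
    have := sub_mem hm hw1
    rw [sub_sub_cancel] at this
    exact (maximalIdeal.isMaximal A).ne_top ((Ideal.eq_top_iff_one _).2 this)
  obtain ⟨z, hz⟩ := (hwu.map (algebraMap A Af)).exists_left_inv
  set ww := algebraMap A Af w
  refine ⟨a₀ + -(c 0) * v * z, ?_, ?_⟩
  · -- the equation
    have h0 : ww ^ N - ww ^ (N - 1) + ∑ i ∈ Finset.Icc 2 N, algebraMap A Af (d i) * ww ^ (N - i) = 0 := by
      have h := congrArg (algebraMap A Af) (show W.eval w = 0 from hw)
      rw [map_zero] at h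
      rw [← h]
      simp [W, R, eval_finset_sum, ww, sub_eq_add_neg, add_assoc]
    have hev : F.eval (a₀ + -(c 0) * v * z) = ∑ i ∈ Finset.range (N + 1), c i * (-(c 0) * v * z) ^ i := by
      rw [add_comm a₀, ← taylor_eval, eval_eq_sum_range, natDegree_taylor]
    rw [IsRoot, hev]
    have hsplit : Finset.range (N + 1) = insert 0 (insert 1 (Finset.Icc 2 N)) := by
      ext i; simp only [Finset.mem_range, Finset.mem_insert, Finset.mem_Icc]; omega
    rw [hsplit, Finset.sum_insert (by simp), Finset.sum_insert (by simp)]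
    have hterm : ∀ i ∈ Finset.Icc 2 N, c i * (-(c 0) * v * z) ^ i =
        c 0 * z ^ N * (algebraMap A Af (d i) * ww ^ (N - i)) := by
      intro i hi
      obtain ⟨hi1, hi2⟩ := Finset.mem_Icc.1 hi
      rw [hde i hi1]
      obtain ⟨j, rfl⟩ : ∃ j, i = j + 2 := ⟨i - 2, by omega⟩
      have hzN : z ^ N * ww ^ (N - (j + 2)) = z ^ (j + 2) := by
        obtain ⟨l, hl⟩ : ∃ l, N = (j + 2) + l := ⟨N - (j + 2), by omega⟩
        rw [hl, Nat.add_sub_cancel_left, pow_add, mul_assoc, ← mul_pow, hz, one_pow, mul_one]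
      have h5 : c 0 * z ^ N * (c (j + 2) * (-1) ^ (j + 2) * c 0 ^ (j + 2 - 1) * v ^ (j + 2) * ww ^ (N - (j + 2))) =
          c (j + 2) * (-1) ^ (j + 2) * (c 0 * c 0 ^ (j + 1)) * v ^ (j + 2) * (z ^ N * ww ^ (N - (j + 2))) := by
        rw [show j + 2 - 1 = j + 1 by omega]; ring
      rw [h5, hzN]
      ring
    rw [Finset.sum_congr rfl hterm, ← Finset.mul_sum]
    have hzN1 : z ^ N * ww ^ (N - 1) = z := by
      obtain ⟨l, hl⟩ : ∃ l, N = l + 1 := ⟨N - 1, by omega⟩
      rw [hl, Nat.add_sub_cancel, pow_succ' z l, mul_assoc, ← mul_pow, hz, one_pow, mul_one]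
    have hzN0 : z ^ N * ww ^ N = 1 := by rw [← mul_pow, hz, one_pow]
    have hsum : ∑ i ∈ Finset.Icc 2 N, algebraMap A Af (d i) * ww ^ (N - i) = ww ^ (N - 1) - ww ^ N := by
      linear_combination h0
    rw [hsum]
    have hv1 : v * c 1 = 1 := by rw [hc1]; exact hv
    linear_combination (-(c 0) * z) * hv1 + c 0 * hzN1 - c 0 * hzN0
  · rw [add_sub_cancel_left, neg_mul, neg_mul, neg_mem_iff]
    exact Ideal.mul_mem_right _ _ (Ideal.mul_mem_right _ _ (hc0 ▸ h₁))

end Groth.Agent.ModP1
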