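import Mathlib
import Groth.Agent.MP99.Ops
import Groth.Agent.Div89.BlowUp

/-!
The blow-up in two disjoint centres is the fibre product of the two blow-ups.
-/

set_option autoImplicit false

universe u

open CategoryTheory CategoryTheory.Limits AlgebraicGeometry TopologicalSpace

namespace Groth.Agent.ModP1

variable {X B B₁ B₂ : Scheme.{u}}

theorem inf_eq_mul_of_sup_eq_top {I J : X.IdealSheafData} (h : I ⊔ J = ⊤) : I ⊓ J = I * J := by
  ext U : 2
  have h1 : I.ideal U ⊔ J.ideal U = ⊤ := by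
    have h2 := congrArg (fun K : X.IdealSheafData => K.ideal U) h
    simpa [Scheme.IdealSheafData.ideal_sup, Scheme.IdealSheafData.ideal_top] using h2
  rw [Scheme.IdealSheafData.ideal_inf, Scheme.IdealSheafData.ideal_mul, Pi.inf_apply, Pi.mul_apply,
    Ideal.mul_eq_inf_of_coprime h1]

theorem compl_sup_compl_of_sup_eq_top {I J : X.IdealSheafData} (h : I ⊔ J = ⊤) (x : X) :
    x ∉ I.support ∨ x ∉ J.support := by
  by_contra hc
  rw [not_or, not_not, not_not] at hc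
  obtain ⟨U, hxU, -⟩ := MP99.exists_affine_le x (W := ⊤) trivial
  have h0 : I.ideal U ⊔ J.ideal U = ⊤ := by
    have h2 := congrArg (fun K : X.IdealSheafData => K.ideal U) h
    simpa [Scheme.IdealSheafData.ideal_sup, Scheme.IdealSheafData.ideal_top] using h2
  have hI := (Scheme.IdealSheafData.mem_support_iff_of_mem hxU).1 hc.1
  have hJ := (Scheme.IdealSheafData.mem_support_iff_of_mem hxU).1 hc.2
  obtain ⟨a, ha, b, hb, hab⟩ := Submodule.mem_sup.1 ((Ideal.eq_top_iff_one _).1 h0)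
  rw [Scheme.mem_zeroLocus_iff] at hI hJ
  have : x ∈ X.basicOpen (a + b) := by rw [hab, Scheme.basicOpen_of_isUnit _ isUnit_one]; exact hxU
  rw [Scheme.mem_basicOpen _ _ x hxU, map_add] at this
  rcases IsLocalRing.isUnit_or_isUnit_of_isUnit_add this with h' | h'
  · exact hI a ha ((Scheme.mem_basicOpen _ _ x hxU).2 h')
  · exact hJ b hb ((Scheme.mem_basicOpen _ _ x hxU).2 h')

theorem isEffCartier_comap_fst {I J : X.IdealSheafData} (h : I ⊔ J = ⊤) {σ₁ : B₁ ⟶ X}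
    (hI : BlowUp.IsEffCartierIdeal (I.comap σ₁)) {σ₂ : B₂ ⟶ X} (hJ : BlowUp.IsBlowUp σ₂ J) :
    BlowUp.IsEffCartierIdeal (I.comap (pullback.fst σ₁ σ₂ ≫ σ₁)) := by
  let p := pullback.fst σ₁ σ₂ ≫ σ₁
  refine MP99.isEffCartier_of_local fun z => ?_
  rcases compl_sup_compl_of_sup_eq_top h (p z) with hz | hz
  · refine ⟨p ⁻¹ᵁ I.support.compl, hz, ?_⟩
    rw [← Scheme.IdealSheafData.comap_comp]
    exact Div89.isEffCartier_of_support_empty fun w => Div89.notMem_support_comap _ I w w.2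
  · let U : X.Opens := J.support.compl
    let V : B₁.Opens := σ₁ ⁻¹ᵁ U
    refine ⟨pullback.fst σ₁ σ₂ ⁻¹ᵁ V, hz, ?_⟩
    haveI := Div89.isIso_off_center hJ
    haveI : IsIso (pullback.snd σ₂ U.ι) := by
      rw [← (isPullback_morphismRestrict σ₂ U).flip.isoPullback_inv_snd]
      infer_instance
    haveI h1 : IsIso (pullback.snd σ₂ ((σ₁ ∣_ U) ≫ U.ι)) := by
      have h2 : IsIso (pullback.snd (pullback.snd σ₂ U.ι) (σ₁ ∣_ U)) := inferInstance
      rwa [← pullbackLeftPullbackSndIso_hom_snd, isIso_comp_left_iff] at h2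
    haveI : IsIso (pullback.fst σ₁ σ₂ ∣_ V) := by
      have sq : IsPullback (pullback.fst σ₁ σ₂ ∣_ V)
          ((pullback.fst σ₁ σ₂ ⁻¹ᵁ V).ι ≫ pullback.snd σ₁ σ₂) ((σ₁ ∣_ U) ≫ U.ι) σ₂ := by
        rw [morphismRestrict_ι]
        exact (isPullback_morphismRestrict (pullback.fst σ₁ σ₂) V).paste_vert
          (IsPullback.of_hasPullback σ₁ σ₂)
      rw [← sq.flip.isoPullback_hom_snd]
      infer_instance
    rw [← Scheme.IdealSheafData.comap_comp, ← Category.assoc, ← morphismRestrict_ι, Category.assoc,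
      Scheme.IdealSheafData.comap_comp, Scheme.IdealSheafData.comap_comp]
    exact MP99.isEffCartier_comap_isOpenImmersion (MP99.isEffCartier_comap_isOpenImmersion hI _) _

theorem exists_iso_blowUp_prod (I₁ I₂ : X.IdealSheafData) (hdisj : I₁ ⊔ I₂ = ⊤)
    (σ : B ⟶ X) (hσ : BlowUp.IsBlowUp σ (I₁ ⊓ I₂))
    (σ₁ : B₁ ⟶ X) (hσ₁ : BlowUp.IsBlowUp σ₁ I₁) (σ₂ : B₂ ⟶ X) (hσ₂ : BlowUp.IsBlowUp σ₂ I₂) :
    ∃ ι : B ⟶ pullback σ₁ σ₂, IsIso ι ∧ ι ≫ pullback.fst σ₁ σ₂ ≫ σ₁ = σ := by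
  rw [inf_eq_mul_of_sup_eq_top hdisj] at hσ
  have hB := hσ.1
  rw [MP99.comap_mul] at hB
  have hB₁ := Div89.isEffCartier_left_of_mul hB
  have hB₂ := Div89.isEffCartier_right_of_mul hB
  obtain ⟨h₁, h₁e, h₁u⟩ := hσ₁.2 B σ hB₁
  obtain ⟨h₂, h₂e, h₂u⟩ := hσ₂.2 B σ hB₂
  let ι : B ⟶ pullback σ₁ σ₂ := pullback.lift h₁ h₂ (h₁e.trans h₂e.symm)
  let p := pullback.fst σ₁ σ₂ ≫ σ₁
  have hι : ι ≫ p = σ := by rw [pullback.lift_fst_assoc, h₁e]
  have hP₁ : BlowUp.IsEffCartierIdeal (I₁.comap p) := isEffCartier_comap_fst hdisj hσ₁.1 hσ₂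
  have hP₂ : BlowUp.IsEffCartierIdeal (I₂.comap p) := by
    have h := isEffCartier_comap_fst (sup_comm I₁ I₂ ▸ hdisj) hσ₂.1 hσ₁
    have e : p = (pullbackSymmetry σ₁ σ₂).hom ≫ (pullback.fst σ₂ σ₁ ≫ σ₂) := by
      rw [pullbackSymmetry_hom_comp_fst_assoc, ← pullback.condition]
    rw [e, Scheme.IdealSheafData.comap_comp]
    exact MP99.isEffCartier_comap_isOpenImmersion h _
  obtain ⟨e, he, -⟩ := hσ.2 _ p (by rw [MP99.comap_mul]; exact Div89.isEffCartier_mul hP₁ hP₂)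
  refine ⟨ι, ⟨e, ?_, ?_⟩, hι⟩
  · exact (hσ.2 B σ hσ.1).unique (by rw [Category.assoc, he, hι]) (Category.id_comp _)
  · have e₁ : e ≫ h₁ = pullback.fst σ₁ σ₂ :=
      (hσ₁.2 _ p hP₁).unique (by rw [Category.assoc, h₁e, he]) rfl
    have e₂ : e ≫ h₂ = pullback.snd σ₁ σ₂ :=
      (hσ₂.2 _ p hP₂).unique (by rw [Category.assoc, h₂e, he]) pullback.condition.symm
    ext
    · rw [Category.assoc, pullback.lift_fst, e₁, Category.id_comp]
    · rw [Category.assoc, pullback.lift_snd, e₂, Category.id_comp]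

end Groth.Agent.ModP1
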