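import Mathlib
import Groth.Agent.ModP1.IdealStage
import Groth.Agent.Approx60.ProperStage
import Groth.Agent.Approx60.Morph
import Groth.Agent.Lim60.EvSep
import Groth.Agent.MP99.Chart
import Groth.Agent.MP99.Image

/-!
Modulus pairs quasi-compact and separated over a base are limits of finite type pairs along
scheme-theoretically dominant affine transition morphisms.
-/

set_option autoImplicit false
set_option backward.isDefEq.respectTransparency false
set_option backward.defeqAttrib.useBackward true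

universe u

open CategoryTheory CategoryTheory.Limits AlgebraicGeometry TopologicalSpace

namespace Groth.Agent.ModP1

variable {X S : Scheme.{u}}

/-- Effective Cartier is detected by scheme-theoretically dominant affine morphisms. -/
theorem isEffCartier_of_comap_dominant {Z : Scheme.{u}} (p : X ⟶ Z) [IsAffineHom p]
    [IsSchemeTheoreticallyDominant p] {J : Z.IdealSheafData} (hJ : MP99.IsLocPrincipal J)
    (h : BlowUp.IsEffCartierIdeal (J.comap p)) : BlowUp.IsEffCartierIdeal J := fun z => by
  obtain ⟨U, hU, f, hf⟩ := hJ z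
  refine ⟨U, hU, f, ?_, hf⟩
  let V : X.affineOpens := ⟨p ⁻¹ᵁ U.1, U.2.preimage p⟩
  have hV : (J.comap p).ideal V = Ideal.span {(p.app U.1).hom f} := by
    rw [MP99.ideal_comap J p U V le_rfl, hf, Ideal.map_span, Set.image_singleton, Scheme.Hom.app_eq_appLE]
  have hnz := MP99.mem_nonZeroDivisors_of_span h hV
  rw [mem_nonZeroDivisors_iff_right]
  intro g hg
  apply p.app_injective U.1
  rw [map_zero]
  refine (mem_nonZeroDivisors_iff_right.1 hnz) _ ?_
  rw [← map_mul, hg, map_zero]

theorem exists_dominant_system [CompactSpace X] [QuasiSeparatedSpace X] [CompactSpace S]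
    [QuasiSeparatedSpace S] (f : X ⟶ S) [IsSeparated f] :
    ∃ (I : Type u) (_ : SmallCategory I) (_ : IsCofiltered I) (D : I ⥤ Over S)
      (π : (Functor.const I).obj (Over.mk f) ⟶ D) (_ : IsLimit (Cone.mk (Over.mk f) π)),
      (∀ i, LocallyOfFiniteType (D.obj i).hom ∧ QuasiCompact (D.obj i).hom ∧ IsSeparated (D.obj i).hom) ∧
      (∀ (i j : I) (t : i ⟶ j), IsAffineHom (D.map t).left ∧ IsSchemeTheoreticallyDominant (D.map t).left) ∧
      (∀ i, CompactSpace (D.obj i).left ∧ QuasiSeparatedSpace (D.obj i).left) ∧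
      (∀ i, IsAffineHom (π.app i).left ∧ IsSchemeTheoreticallyDominant (π.app i).left) := by
  obtain ⟨α, _, _, _, D₀, π₀, ⟨hl₀⟩, hobj, haff₀⟩ := Approx60.exists_fp_limit f
  let E₀ := D₀ ⋙ Over.forget S
  let t₀ : E₀ ⟶ (Functor.const αᵒᵖ).obj S :=
    { app := fun i => (D₀.obj i).hom
      naturality := fun i j a => by simp [E₀] }
  let cE₀ : Cone E₀ := (Over.forget S).mapCone (Cone.mk (Over.mk f) π₀)
  haveI : ∀ (i j : αᵒᵖ) (a : i ⟶ j), IsAffineHom (E₀.map a) := fun i j a => haff₀ i j a
  haveI : ∀ i, CompactSpace (E₀.obj i) := fun i => (hobj i).2.2.2.1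
  haveI : ∀ i, QuasiSeparatedSpace (E₀.obj i) := fun i => (hobj i).2.2.2.2
  obtain ⟨i₀⟩ := IsCofiltered.nonempty (C := αᵒᵖ)
  haveI : IsSeparated (cE₀.π.app i₀ ≫ t₀.app i₀) := by
    rw [show cE₀.π.app i₀ ≫ t₀.app i₀ = f from Over.w (π₀.app i₀)]
    infer_instance
  obtain ⟨i₁, hi₁⟩ := Lim60.exists_isSeparated_structureMap S E₀ t₀ cE₀ (isLimitOfPreserves _ hl₀) i₀
  let G := Over.forget i₁
  let E := G ⋙ E₀
  let cE : Cone E := cE₀.whisker G
  have hcE : IsLimit cE :=
    (Functor.Initial.isLimitWhiskerEquiv G _).symm (isLimitOfPreserves (Over.forget S) hl₀)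
  haveI : ∀ (i j : Over i₁) (a : i ⟶ j), IsAffineHom (E.map a) := fun i j a => haff₀ _ _ _
  haveI : ∀ i, CompactSpace (E.obj i) := fun i => (hobj i.left).2.2.2.1
  haveI : ∀ i, QuasiSeparatedSpace (E.obj i) := fun i => (hobj i.left).2.2.2.2
  haveI : ∀ i, IsAffineHom (cE.π.app i) := fun i => isAffineHom_π_app E cE hcE i
  let g : (Functor.const (Over i₁)).obj X ⟶ E := cE.π
  let Z := Approx60.imageDiagram E g
  let ι := Approx60.imageInc E g
  haveI hι : ∀ i, IsClosedImmersion (ι.app i) := fun i =>
    inferInstanceAs (IsClosedImmersion (Scheme.Hom.imageι (g.app i : X ⟶ E.obj i)))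
  have hg : ∀ i, Scheme.Hom.toImage (g.app i : X ⟶ E.obj i) ≫ ι.app i = g.app i := fun i =>
    Scheme.Hom.toImage_imageι _
  have hnat : ∀ {i j : Over i₁} (a : i ⟶ j), Scheme.Hom.toImage (g.app i : X ⟶ E.obj i) ≫ Z.map a =
      Scheme.Hom.toImage (g.app j : X ⟶ E.obj j) := fun {i j} a => by
    rw [← cancel_mono (ι.app j), Category.assoc, ι.naturality a, reassoc_of% (hg i), hg j]
    simpa using (g.naturality a).symm
  haveI haffπ : ∀ i, IsAffineHom (Scheme.Hom.toImage (g.app i : X ⟶ E.obj i)) := fun i => by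
    haveI : IsAffineHom (Scheme.Hom.toImage (g.app i : X ⟶ E.obj i) ≫ ι.app i) := by rw [hg]; exact ‹∀ i, IsAffineHom (cE.π.app i)› i
    exact MorphismProperty.of_postcomp (W := @IsAffineHom) _ (ι.app i) (inferInstance : IsSeparated (ι.app i)) ‹_›
  have hdom : ∀ i, IsSchemeTheoreticallyDominant (Scheme.Hom.toImage (g.app i : X ⟶ E.obj i)) := fun i => by
    haveI : QuasiCompact (g.app i : X ⟶ E.obj i) := inferInstanceAs (QuasiCompact (cE.π.app i))
    exact MP99.dominant_toImage _
  have hZaff : ∀ (i j : Over i₁) (a : i ⟶ j), IsAffineHom (Z.map a) := fun i j a => by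
    haveI : IsAffineHom (Z.map a ≫ ι.app j) := by rw [ι.naturality a]; infer_instance
    exact MorphismProperty.of_postcomp (W := @IsAffineHom) _ (ι.app j) (inferInstance : IsSeparated (ι.app j)) ‹_›
  have hZdom : ∀ (i j : Over i₁) (a : i ⟶ j), IsSchemeTheoreticallyDominant (Z.map a) := fun i j a => by
    haveI := hdom j
    exact MP99.ker_le_of_factor _ (Z.map a) (Scheme.Hom.toImage (g.app i : X ⟶ E.obj i)) (hnat a)
  let t : ∀ i, Z.obj i ⟶ S := fun i => ι.app i ≫ t₀.app i.left
  have ht : ∀ {i j : Over i₁} (a : i ⟶ j), Z.map a ≫ t j = t i := fun {i j} a => by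
    simp only [t, ι.naturality_assoc]
    have e : E.map a ≫ t₀.app j.left = t₀.app i.left := (t₀.naturality a.left).trans (Category.comp_id _)
    exact ((Category.assoc _ _ _).symm.trans ((congrArg (· ≫ t₀.app j.left) (ι.naturality a)).trans
      (Category.assoc _ _ _))).trans (congrArg (ι.app i ≫ ·) e)
  let D : Over i₁ ⥤ Over S :=
    { obj := fun i => Over.mk (t i)
      map := fun a => Over.homMk (Z.map a) (ht a)
      map_id := fun i => by apply Over.OverMorphism.ext; simp
      map_comp := fun a b => by apply Over.OverMorphism.ext; simp }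
  have hπt : ∀ i, Scheme.Hom.toImage (g.app i : X ⟶ E.obj i) ≫ t i = f := fun i => by
    simp only [t, reassoc_of% (hg i)]
    exact Over.w (π₀.app i.left)
  let π : (Functor.const (Over i₁)).obj (Over.mk f) ⟶ D :=
    { app := fun i => Over.homMk (Scheme.Hom.toImage (g.app i : X ⟶ E.obj i)) (hπt i)
      naturality := fun i j a => by
        apply Over.OverMorphism.ext
        simp [D, hnat] }
  haveI : IsConnected (Over i₁) := CategoryTheory.isConnected_of_hasTerminal (Over i₁)
  let cZ : Cone (D ⋙ Over.forget S) := (Over.forget S).mapCone (Cone.mk (Over.mk f) π)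
  have hlZ : IsLimit cZ :=
    { lift := fun s => hcE.lift ⟨s.pt,
        { app := fun i => s.π.app i ≫ ι.app i
          naturality := fun i j a => by
            have e : s.π.app i ≫ Z.map a = s.π.app j := s.w a
            simp only [Functor.const_obj_map, Category.id_comp, Category.assoc]
            rw [← ι.naturality a, reassoc_of% e]
            exact Category.id_comp _ }⟩
      fac := fun s i => by
        show _ ≫ Scheme.Hom.toImage (g.app i : X ⟶ E.obj i) = s.π.app i
        rw [← cancel_mono (ι.app i), Category.assoc, hg i]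
        exact hcE.fac _ i
      uniq := fun s m hm => hcE.hom_ext fun i => by
        rw [hcE.fac]
        show m ≫ g.app i = s.π.app i ≫ ι.app i
        rw [← hg i, ← hm i, Category.assoc]
        rfl }
  refine ⟨Over i₁, inferInstance, inferInstance, D, π, isLimitOfReflects (Over.forget S) hlZ,
    fun i => ?_, fun i j a => ⟨hZaff i j a, hZdom i j a⟩, fun i => ?_, fun i => ⟨haffπ i, hdom i⟩⟩
  · haveI := (hobj i.left).1
    haveI := (hobj i.left).2.1
    haveI : IsSeparated (t₀.app i.left) := hi₁ i.left i.hom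
    haveI : LocallyOfFinitePresentation (t₀.app i.left) := (hobj i.left).1
    haveI : QuasiCompact (t₀.app i.left) := (hobj i.left).2.1
    exact ⟨inferInstanceAs (LocallyOfFiniteType (ι.app i ≫ t₀.app i.left)),
      inferInstanceAs (QuasiCompact (ι.app i ≫ t₀.app i.left)),
      inferInstanceAs (IsSeparated (ι.app i ≫ t₀.app i.left))⟩
  · exact ⟨QuasiCompact.compactSpace_of_compactSpace (ι.app i),
      quasiSeparatedSpace_of_quasiSeparated (ι.app i)⟩

theorem exists_pair_dominant_approximation [CompactSpace S] [QuasiSeparatedSpace S]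
    (IS : S.IdealSheafData) (hS : BlowUp.IsEffCartierIdeal IS)
    (IX : X.IdealSheafData) (hX : BlowUp.IsEffCartierIdeal IX)
    (f : X ⟶ S) [QuasiCompact f] [IsSeparated f] (hf : ModPair.IsAmbient IX IS f) :
    ∃ (I : Type u) (_ : SmallCategory I) (_ : IsCofiltered I) (D : I ⥤ Over S) (c : Cone D)
      (_ : IsLimit c) (e : c.pt ≅ Over.mk f) (J : ∀ i, (D.obj i).left.IdealSheafData),
      (∀ i, BlowUp.IsEffCartierIdeal (J i)) ∧
      (∀ i, LocallyOfFiniteType (D.obj i).hom ∧ QuasiCompact (D.obj i).hom ∧ IsSeparated (D.obj i).hom) ∧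
      (∀ i, ModPair.IsAmbient (J i) IS (D.obj i).hom) ∧
      (∀ (i j : I) (t : i ⟶ j), IsAffineHom (D.map t).left ∧ ModPair.IsMinimal (J i) (J j) (D.map t).left ∧
          IsSchemeTheoreticallyDominant (D.map t).left) ∧
      (∀ i, IX = (J i).comap (e.inv.left ≫ (c.π.app i).left)) := by
  haveI : CompactSpace X := QuasiCompact.compactSpace_of_compactSpace f
  haveI : QuasiSeparatedSpace X := quasiSeparatedSpace_of_quasiSeparated f
  obtain ⟨I, _, _, D, π, hc, hD, htr, hsp, hπ⟩ := exists_dominant_system f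
  let E := D ⋙ Over.forget S
  let cE : Cone E := (Over.forget S).mapCone (Cone.mk (Over.mk f) π)
  have hcE : IsLimit cE := isLimitOfPreserves (Over.forget S) hc
  haveI : ∀ (i j : I) (t : i ⟶ j), IsAffineHom (E.map t) := fun i j t => (htr i j t).1
  haveI : ∀ i, CompactSpace (E.obj i) := fun i => (hsp i).1
  haveI : ∀ i, QuasiSeparatedSpace (E.obj i) := fun i => (hsp i).2
  haveI : LocallyOfFinitePresentation (show cE.pt.IdealSheafData from IX).subschemeι :=
    lfp_of_isLocPrincipal (MP99.isLocPrincipal_of_isEffCartier hX)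
  obtain ⟨n, J, hJfp, hJ⟩ := LimTop61.exists_idealSheaf_descend E cE hcE (show cE.pt.IdealSheafData from IX)
  haveI := hJfp
  obtain ⟨m, φ, hm1⟩ := exists_stage_isLocPrincipal E cE hcE J
    (by rw [hJ]; exact MP99.isLocPrincipal_of_isEffCartier hX)
  haveI : LocallyOfFinitePresentation (J.comap (E.map φ)).subschemeι := LimTop61.lfp_comap _ _
  have hmX : (J.comap (E.map φ)).comap (cE.π.app m) = IX := by
    rw [← Scheme.IdealSheafData.comap_comp, cE.w]
    exact hJ
  obtain ⟨l, ψ, hl⟩ := exists_comap_le_at E cE hcE (J.comap (E.map φ)) (IS.comap (D.obj m).hom) (by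
    rw [hmX, ← Scheme.IdealSheafData.comap_comp]
    refine (hf : IX ≤ IS.comap f).trans ?_
    rw [show cE.π.app m ≫ (D.obj m).hom = f from Over.w (π.app m)])
  let G := Over.forget l
  let c' : Cone (G ⋙ D) := (Cone.mk (Over.mk f) π).whisker G
  have hc' : IsLimit c' := (Functor.Initial.isLimitWhiskerEquiv G _).symm hc
  let Jf : ∀ i : Over l, (D.obj i.left).left.IdealSheafData := fun i =>
    (J.comap (E.map φ)).comap (D.map (i.hom ≫ ψ)).left
  have hJX : ∀ i : Over l, (Jf i).comap (π.app i.left).left = IX := fun i => by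
    refine Eq.trans ?_ hmX
    simp only [Jf, ← Scheme.IdealSheafData.comap_comp]
    have e : (π.app i.left).left ≫ (D.map (i.hom ≫ ψ)).left = cE.π.app m :=
      congrArg Over.Hom.left ((Cone.mk (Over.mk f) π).w (i.hom ≫ ψ))
    rw [reassoc_of% e]
  have hJc : ∀ i, BlowUp.IsEffCartierIdeal (Jf i) := fun i => by
    haveI := (hπ i.left).1
    haveI := (hπ i.left).2
    exact isEffCartier_of_comap_dominant (π.app i.left).left (MP99.isLocPrincipal_comap hm1 _)
      (by rw [hJX]; exact hX)
  refine ⟨Over l, inferInstance, inferInstance, G ⋙ D, c', hc', Iso.refl _, Jf, hJc, fun i => hD i.left,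
    fun i => ?_, fun i j t => ⟨(htr _ _ _).1, ?_, (htr _ _ _).2⟩, fun i => ?_⟩
  · show (J.comap (E.map φ)).comap (D.map (i.hom ≫ ψ)).left ≤ IS.comap (D.obj i.left).hom
    have h2 := Scheme.IdealSheafData.comap_mono (D.map i.hom).left hl
    simp only [← Scheme.IdealSheafData.comap_comp] at h2 ⊢
    rw [show (D.map i.hom).left ≫ E.map ψ ≫ (D.obj m).hom = (D.obj i.left).hom from by
      show (D.map i.hom).left ≫ (D.map ψ).left ≫ (D.obj m).hom = _
      rw [Over.w, Over.w]] at h2
    refine le_trans (le_of_eq ?_) h2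
    simp [E]
  · show Jf i = (Jf j).comap (D.map t.left).left
    simp only [Jf, ← Scheme.IdealSheafData.comap_comp]
    rw [← Category.assoc, ← Over.comp_left, ← D.map_comp, Over.w_assoc]
  · refine (hJX i).symm.trans ?_
    congr 1

end Groth.Agent.ModP1
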