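import Mathlib
import Groth.Prelude.Def_W4c6modpairsegaMP
import Groth.Agent.ModP1.SemiVal
import Groth.Agent.MP99.Ops
import Groth.Agent.MP99.BlowUpDense
import Groth.Agent.Div89.BlowUp
import Groth.Agent.RegImm10.BlowModel
import Groth.Agent.FBlow13.Exist

/-!
Modulus pairs local for abstract admissible blow-ups.
-/

set_option autoImplicit false

universe u

open CategoryTheory AlgebraicGeometry TopologicalSpace IsLocalRing

namespace Groth.Agent.ModP1

/-- Local for abstract admissible blow-ups. -/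
def BlowLocal (P : ModPair.Pair.{u}) : Prop :=
  ∀ (Q X : ModPair.Pair.{u}) (q : Q ⟶ X), ModPair.Pair.admBlowup q → ∀ g : P ⟶ X, ∃ h : P ⟶ Q, h ≫ q = g

variable (P : ModPair.Pair.{u})

/-- The prime of `Γ(P)` under a point of the interior. -/
noncomputable def primeAt (p : (ModPair.interior P.mod : Scheme.{u})) : Ideal Γ(P.total, ⊤) :=
  (P.total.toSpecΓ.base ((ModPair.interior P.mod).ι.base p)).asIdeal

instance (p : (ModPair.interior P.mod : Scheme.{u})) : (primeAt P p).IsPrime :=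
  (P.total.toSpecΓ.base ((ModPair.interior P.mod).ι.base p)).2

theorem mem_asIdeal_iff {X : Scheme.{u}} (x : X) (r : Γ(X, ⊤)) :
    r ∈ (X.toSpecΓ.base x).asIdeal ↔ x ∉ X.basicOpen r := by
  rw [← Scheme.toSpecΓ_preimage_basicOpen X r]
  exact not_not.symm

variable {P}

theorem exists_generator [IsAffine P.total] [IsLocalRing Γ(P.total, ⊤)] :
    ∃ f : Γ(P.total, ⊤), f ∈ nonZeroDivisors Γ(P.total, ⊤) ∧
      P.mod.ideal ⟨⊤, isAffineOpen_top P.total⟩ = Ideal.span {f} ∧ ModPair.interior P.mod = P.total.basicOpen f := by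
  let x : P.total := P.total.isoSpec.inv (closedPoint Γ(P.total, ⊤))
  obtain ⟨U, hxU, f, hf, hI⟩ := P.isEffCartier x
  have hU : U = ⟨⊤, isAffineOpen_top P.total⟩ := Subtype.ext (top_unique fun y _ => by
    have h1 := apply_mem_of_closedPoint (R := Γ(P.total, ⊤)) P.total.isoSpec.inv (U := U.1) hxU (P.total.isoSpec.hom y)
    rwa [← Scheme.Hom.comp_apply, Iso.hom_inv_id] at h1)
  subst hU
  refine ⟨f, hf, hI, ?_⟩
  rw [← MP99.inf_interior_eq_basicOpen P.mod hI, top_inf_eq]

theorem isIso_morphismRestrict_of_le {X Y : Scheme.{u}} (b : X ⟶ Y) {U V : Y.Opens} (h : V ≤ U) [IsIso (b ∣_ U)] :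
    IsIso (b ∣_ V) := by
  have e := morphismRestrictRestrict b U (U.ι ⁻¹ᵁ V)
  have hV : U.ι ''ᵁ U.ι ⁻¹ᵁ V = V := by
    rw [Scheme.Hom.image_preimage_eq_opensRange_inf, Scheme.Opens.opensRange_ι, inf_eq_right.2 h]
  have h1 : MorphismProperty.isomorphisms Scheme.{u} (b ∣_ U ∣_ U.ι ⁻¹ᵁ V) :=
    inferInstanceAs (IsIso _)
  exact (MorphismProperty.arrow_mk_iso_iff (MorphismProperty.isomorphisms Scheme.{u}) (morphismRestrictEq b hV)).1
    ((MorphismProperty.arrow_mk_iso_iff (MorphismProperty.isomorphisms Scheme.{u}) e).1 h1)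

theorem isPrincipal_of_blowLocal [IsAffine P.total] [IsLocalRing Γ(P.total, ⊤)] (hP : BlowLocal P)
    {f : Γ(P.total, ⊤)} (hf : f ∈ nonZeroDivisors Γ(P.total, ⊤))
    (hI : P.mod.ideal ⟨⊤, isAffineOpen_top P.total⟩ = Ideal.span {f})
    (K : Ideal Γ(P.total, ⊤)) (hK : K.FG) (n : ℕ) (hn : f ^ n ∈ K) :
    ∃ e ∈ nonZeroDivisors Γ(P.total, ⊤), K = Ideal.span {e} := by
  let F : P.total.IdealSheafData := Scheme.IdealSheafData.ofIdealTop K
  have hFtop : F.ideal ⟨⊤, isAffineOpen_top P.total⟩ = K := by simp [F]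
  have hFft : BlowUp.IsFiniteTypeIdeal F := fun U => by
    rw [← F.map_ideal (show U ≤ ⟨⊤, isAffineOpen_top P.total⟩ from le_top (a := U.1)), hFtop]
    exact hK.map _
  obtain ⟨Y, b, hb⟩ := FBlow13.exists_isBlowUp_scheme P.total F
  have hint : ModPair.interior P.mod ≤ F.support.compl := by
    intro x hx hxF
    rw [show ModPair.interior P.mod = P.total.basicOpen f by
      rw [← MP99.inf_interior_eq_basicOpen P.mod hI, top_inf_eq]] at hx
    have h1 : x ∈ (F.support : Set P.total) := hxF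
    rw [SetLike.mem_coe, Scheme.IdealSheafData.mem_support_iff_of_mem (U := ⟨⊤, isAffineOpen_top P.total⟩) trivial,
      hFtop] at h1
    have h2 := (Scheme.mem_zeroLocus_iff _ _ _).1 h1 (f ^ n) hn
    rw [Scheme.basicOpen] at h2
    refine h2 ?_
    have h3 : IsUnit ((P.total.presheaf.germ ⊤ x trivial).hom f) := (P.total.mem_basicOpen_top f x).1 hx
    exact (P.total.mem_basicOpen_top (f ^ n) x).2 (by rw [map_pow]; exact h3.pow n)
  haveI := RegImm10.BlowModel.isProper_of_isBlowUp hFft hb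
  haveI := Div89.isIso_off_center hb
  let Q : ModPair.Pair.{u} := ⟨Y, P.mod.comap b, Div89.isEffCartier_comap_blowUp hb P.isEffCartier⟩
  let q : Q ⟶ P := ⟨b, le_refl _⟩
  obtain ⟨h, hh⟩ := hP Q P q ⟨rfl, inferInstance, isIso_morphismRestrict_of_le b hint⟩ (𝟙 P)
  have e1 : h.hom ≫ b = 𝟙 _ := congrArg ModPair.Pair.Hom.hom hh
  have e2 : (F.comap b).comap h.hom = F := by
    rw [← Scheme.IdealSheafData.comap_comp, e1, Scheme.IdealSheafData.comap_id]
  have hLP : MP99.IsLocPrincipal F := e2 ▸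
    MP99.isLocPrincipal_comap (MP99.isLocPrincipal_of_isEffCartier hb.1) h.hom
  let x : P.total := P.total.isoSpec.inv (closedPoint Γ(P.total, ⊤))
  obtain ⟨U, hxU, e, he⟩ := hLP x
  have hU : U = ⟨⊤, isAffineOpen_top P.total⟩ := Subtype.ext (top_unique fun y _ => by
    have h1 := apply_mem_of_closedPoint (R := Γ(P.total, ⊤)) P.total.isoSpec.inv (U := U.1) hxU (P.total.isoSpec.hom y)
    rwa [← Scheme.Hom.comp_apply, Iso.hom_inv_id] at h1)
  subst hU
  rw [hFtop] at he
  refine ⟨e, ?_, he⟩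
  obtain ⟨c, hc⟩ := Ideal.mem_span_singleton'.1 (he.le hn)
  exact (mul_mem_nonZeroDivisors.1 (hc.symm ▸ pow_mem hf n)).2

theorem semiVal_of_blowLocal [IsAffine P.total] [IsLocalRing Γ(P.total, ⊤)] (hP : BlowLocal P) :
    ∃ (f : Γ(P.total, ⊤)) (q : Ideal Γ(P.total, ⊤)), f ∈ nonZeroDivisors Γ(P.total, ⊤) ∧
      ModPair.interior P.mod = P.total.basicOpen f ∧ SemiVal f q := by
  obtain ⟨f, hf, hI, hint⟩ := exists_generator (P := P)
  obtain ⟨q, hq⟩ := semiVal_of_comparable hf fun x y n hn => by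
    obtain ⟨e, he, hK⟩ := isPrincipal_of_blowLocal hP hf hI (Ideal.span {x, y}) (Submodule.fg_span (Set.toFinite _)) n hn
    exact dvd_or_dvd_of_span_eq hK he
  exact ⟨f, q, hf, hint, hq⟩

theorem blowLocal_of_semiVal [IsAffine P.total] [IsLocalRing Γ(P.total, ⊤)] {f : Γ(P.total, ⊤)}
    {q : Ideal Γ(P.total, ⊤)} (hf : f ∈ nonZeroDivisors Γ(P.total, ⊤))
    (hint : ModPair.interior P.mod = P.total.basicOpen f) (H : SemiVal f q) : BlowLocal P := by
  intro Q X p hp g
  obtain ⟨hmin, _, _⟩ := hp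
  obtain ⟨h, hh⟩ := H.exists_lift hf p.hom (ModPair.interior X.mod) (P.total.isoSpec.inv ≫ g.hom) (fun x hx => by
    have hy : P.total.isoSpec.inv x ∈ ModPair.interior P.mod := by
      rw [hint]
      by_contra hc
      rw [← mem_asIdeal_iff, ← Scheme.isoSpec_hom, ← Scheme.Hom.comp_apply, Iso.inv_hom_id] at hc
      exact hx hc
    have h1 := MP99.interior_mono g.cond hy
    rwa [MP99.interior_comap] at h1)
  have e : (P.total.isoSpec.hom ≫ h) ≫ p.hom = g.hom := by rw [Category.assoc, hh, Iso.hom_inv_id_assoc]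
  refine ⟨⟨P.total.isoSpec.hom ≫ h, ?_⟩, ModPair.Pair.Hom.ext e⟩
  show P.mod ≤ Q.mod.comap _
  rw [show Q.mod = X.mod.comap p.hom from hmin, ← Scheme.IdealSheafData.comap_comp, e]
  exact g.cond

section Translate

variable [IsAffine P.total] [IsLocalRing Γ(P.total, ⊤)] {f : Γ(P.total, ⊤)} {q : Ideal Γ(P.total, ⊤)}

omit [IsLocalRing Γ(P.total, ⊤)] in
theorem isAffine_interior (hint : ModPair.interior P.mod = P.total.basicOpen f) :
    IsAffine (ModPair.interior P.mod : Scheme.{u}) := by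
  rw [hint]; exact (isAffineOpen_top P.total).basicOpen f

omit [IsLocalRing Γ(P.total, ⊤)] in
theorem isLocalization_interior (hint : ModPair.interior P.mod = P.total.basicOpen f) :
    letI := ((P.total.presheaf.map (homOfLE le_top).op ≫ (ModPair.interior P.mod).topIso.inv).hom).toAlgebra
    IsLocalization.Away f Γ((ModPair.interior P.mod : Scheme.{u}), ⊤) := by
  have h1 := (isAffineOpen_top P.total).isLocalization_basicOpen f
  generalize ModPair.interior P.mod = U at hint
  subst hint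
  letI := ((P.total.presheaf.map (homOfLE (le_top (a := P.total.basicOpen f))).op).hom).toAlgebra
  letI := ((P.total.presheaf.map (homOfLE le_top).op ≫ (P.total.basicOpen f).topIso.inv).hom).toAlgebra
  exact IsLocalization.isLocalization_of_algEquiv (Submonoid.powers f)
    ({ (P.total.basicOpen f).topIso.symm.commRingCatIsoToRingEquiv with commutes' := fun _ => rfl } :
      Γ(P.total, P.total.basicOpen f) ≃ₐ[Γ(P.total, ⊤)] Γ((P.total.basicOpen f : Scheme.{u}), ⊤))

theorem isLocalRing_interior (hf : f ∈ nonZeroDivisors Γ(P.total, ⊤))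
    (hint : ModPair.interior P.mod = P.total.basicOpen f) (H : SemiVal f q) :
    IsLocalRing Γ((ModPair.interior P.mod : Scheme.{u}), ⊤) := by
  letI := ((P.total.presheaf.map (homOfLE le_top).op ≫ (ModPair.interior P.mod).topIso.inv).hom).toAlgebra
  haveI := isLocalization_interior hint
  haveI : Nontrivial Γ((ModPair.interior P.mod : Scheme.{u}), ⊤) :=
    (IsLocalization.injective Γ((ModPair.interior P.mod : Scheme.{u}), ⊤) (Submonoid.powers_le.2 hf)).nontrivial
  refine IsLocalRing.of_isUnit_or_isUnit_one_sub_self fun z => ?_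
  obtain ⟨⟨x, s⟩, hx⟩ := IsLocalization.surj (Submonoid.powers f) z
  have hu : ∀ w ∉ q, IsUnit (algebraMap Γ(P.total, ⊤) Γ((ModPair.interior P.mod : Scheme.{u}), ⊤) w) := fun w hw => by
    obtain ⟨n, hn⟩ := H.exists_dvd w hw
    exact isUnit_of_dvd_unit (map_dvd _ hn) (IsLocalization.map_units _ (⟨f ^ n, n, rfl⟩ : Submonoid.powers f))
  by_cases hxq : x ∈ q
  · refine Or.inr (isUnit_of_mul_isUnit_left (y := algebraMap Γ(P.total, ⊤) _ (s : Γ(P.total, ⊤))) ?_)
    rw [sub_mul, one_mul, hx, ← map_sub]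
    refine hu _ fun h => ?_
    obtain ⟨n, hn⟩ := s.2
    have h2 := add_mem h hxq
    rw [sub_add_cancel, ← hn] at h2
    exact H.notMem (H.isPrime.mem_of_pow_mem n h2)
  · exact Or.inl (isUnit_of_mul_isUnit_left (hx.symm ▸ hu x hxq))

theorem exists_point (hint : ModPair.interior P.mod = P.total.basicOpen f) [q.IsPrime] (hq : f ∉ q) :
    ∃ p : (ModPair.interior P.mod : Scheme.{u}), primeAt P p = q := by
  let x : P.total := P.total.isoSpec.inv ⟨q, inferInstance⟩
  have hx : (P.total.toSpecΓ.base x).asIdeal = q := by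
    rw [← Scheme.isoSpec_hom]
    show ((P.total.isoSpec.inv ≫ P.total.isoSpec.hom) ⟨q, inferInstance⟩).asIdeal = q
    rw [Iso.inv_hom_id]; rfl
  refine ⟨⟨x, ?_⟩, hx⟩
  rw [hint]
  by_contra hc
  exact hq (hx ▸ (mem_asIdeal_iff x f).2 hc)

theorem notMem_primeAt (hint : ModPair.interior P.mod = P.total.basicOpen f)
    (p : (ModPair.interior P.mod : Scheme.{u})) : f ∉ primeAt P p := fun h =>
  (mem_asIdeal_iff _ f).1 h (hint ▸ p.2)

theorem primeAt_eq_of_closed (hint : ModPair.interior P.mod = P.total.basicOpen f) (H : SemiVal f q)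
    {p : (ModPair.interior P.mod : Scheme.{u})} (hp : IsClosed ({p} : Set (ModPair.interior P.mod : Scheme.{u}))) :
    primeAt P p = q := by
  haveI := H.isPrime
  obtain ⟨p', hp'⟩ := exists_point hint H.notMem
  have hle : primeAt P p ≤ primeAt P p' := hp'.symm ▸ H.le_of_notMem (notMem_primeAt hint p)
  have h2 := ((PrimeSpectrum.le_iff_specializes _ _).1 hle).map P.total.isoSpec.inv.continuous
  have hinv : ∀ z : P.total, P.total.isoSpec.inv (P.total.toSpecΓ z) = z := fun z => by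
    rw [← Scheme.isoSpec_hom, ← Scheme.Hom.comp_apply, Iso.hom_inv_id]
    rfl
  change P.total.isoSpec.inv (P.total.toSpecΓ _) ⤳ P.total.isoSpec.inv (P.total.toSpecΓ _) at h2
  rw [hinv, hinv] at h2
  have h3 : p ⤳ p' := (subtype_specializes_iff _ _).2 h2
  have h4 : p' = p := h3.mem_closed hp rfl
  rw [← hp', h4]

theorem bijOn_of_semiVal (hf : f ∈ nonZeroDivisors Γ(P.total, ⊤)) (H : SemiVal f q) [q.IsPrime] :
    Set.BijOn (algebraMap Γ(P.total, ⊤) (Localization.AtPrime q)) (q : Set Γ(P.total, ⊤))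
      (IsLocalRing.maximalIdeal (Localization.AtPrime q) : Set (Localization.AtPrime q)) := by
  refine ⟨fun x hx => (IsLocalization.AtPrime.to_map_mem_maximal_iff _ q x).2 hx, fun x _ y _ hxy => ?_, fun z hz => ?_⟩
  · obtain ⟨s, hs⟩ := (IsLocalization.eq_iff_exists q.primeCompl _).1 hxy
    obtain ⟨n, c, hc⟩ := H.exists_dvd s.1 s.2
    refine sub_eq_zero.1 ((mem_nonZeroDivisors_iff_left.1 (pow_mem hf n)) _ ?_)
    rw [hc, mul_sub]
    linear_combination c * hs
  · obtain ⟨⟨x, s⟩, rfl⟩ := IsLocalization.mk'_surjective q.primeCompl z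
    have hx : x ∈ q := (IsLocalization.AtPrime.mk'_mem_maximal_iff _ q x s).1 hz
    obtain ⟨n, c, hc⟩ := H.exists_dvd s.1 s.2
    obtain ⟨d, hd⟩ := H.pow_dvd x hx n
    refine ⟨c * d, ?_, IsLocalization.eq_mk'_iff_mul_eq.2 ?_⟩
    · have h1 : (c * d) * (s : Γ(P.total, ⊤)) ∈ q := by rw [mul_comm, ← mul_assoc, ← hc, ← hd]; exact hx
      exact (H.isPrime.mem_or_mem h1).resolve_right s.2
    · rw [← map_mul]
      refine congrArg _ ?_
      rw [mul_comm, ← mul_assoc, ← hc, ← hd]

end Translate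

variable (P) in
/-- The conditions at the closed point of the interior. -/
def GluingCond : Prop :=
  ∀ p : (ModPair.interior P.mod : Scheme.{u}), IsClosed ({p} : Set (ModPair.interior P.mod : Scheme.{u})) →
    ValuationRing (Γ(P.total, ⊤) ⧸ primeAt P p) ∧
      Set.BijOn (algebraMap Γ(P.total, ⊤) (Localization.AtPrime (primeAt P p)))
        (primeAt P p : Set Γ(P.total, ⊤))
        (IsLocalRing.maximalIdeal (Localization.AtPrime (primeAt P p)) : Set (Localization.AtPrime (primeAt P p)))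

theorem conditions_of_blowLocal [IsAffine P.total] [IsLocalRing Γ(P.total, ⊤)] (hP : BlowLocal P) :
    IsAffine (ModPair.interior P.mod : Scheme.{u}) ∧
      IsLocalRing Γ((ModPair.interior P.mod : Scheme.{u}), ⊤) ∧ GluingCond P := by
  obtain ⟨f, q, hf, hint, H⟩ := semiVal_of_blowLocal hP
  refine ⟨isAffine_interior hint, isLocalRing_interior hf hint H, fun p hp => ?_⟩
  have e := primeAt_eq_of_closed hint H hp
  subst e
  exact ⟨H.valuation, bijOn_of_semiVal hf H⟩

theorem exists_semiVal_of_conditions [IsAffine P.total] [IsLocalRing Γ(P.total, ⊤)]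
    (hA : IsAffine (ModPair.interior P.mod : Scheme.{u}))
    (hL : IsLocalRing Γ((ModPair.interior P.mod : Scheme.{u}), ⊤)) (hG : GluingCond P) :
    ∃ (f : Γ(P.total, ⊤)) (p : (ModPair.interior P.mod : Scheme.{u})), f ∈ nonZeroDivisors Γ(P.total, ⊤) ∧
      ModPair.interior P.mod = P.total.basicOpen f ∧
      IsClosed ({p} : Set (ModPair.interior P.mod : Scheme.{u})) ∧ SemiVal f (primeAt P p) := by
  obtain ⟨f, hf, -, hint⟩ := exists_generator (P := P)
  let U := (ModPair.interior P.mod : Scheme.{u})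
  let p : U := U.isoSpec.inv (closedPoint Γ(U, ⊤))
  have hp : IsClosed ({p} : Set U) := by
    have h1 := (IsLocalRing.isClosed_singleton_closedPoint Γ(U, ⊤)).preimage U.isoSpec.hom.continuous
    convert h1 using 1
    ext y
    constructor
    · rintro rfl
      show U.isoSpec.hom (U.isoSpec.inv (closedPoint Γ(U, ⊤))) = _
      rw [← Scheme.Hom.comp_apply, Iso.inv_hom_id]; rfl
    · intro hy
      have hy' : U.isoSpec.hom y = closedPoint Γ(U, ⊤) := hy
      show y = p
      show y = U.isoSpec.inv (closedPoint Γ(U, ⊤))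
      rw [← hy', ← Scheme.Hom.comp_apply, Iso.hom_inv_id]; rfl
  have hspec : ∀ y : U, y ⤳ p := fun y => by
    have h1 := (specializes_closedPoint (R := Γ(U, ⊤)) (U.isoSpec.hom y)).map U.isoSpec.inv.continuous
    rwa [← Scheme.Hom.comp_apply, Iso.hom_inv_id] at h1
  obtain ⟨hv, hbij⟩ := hG p hp
  refine ⟨f, p, hf, hint, hp, inferInstance, notMem_primeAt hint p, fun s hs => ?_, fun x hx n => ?_, hv⟩
  · -- `D(f) ⊆ D(s)`
    have h1 : (ModPair.interior P.mod : Set P.total) ⊆ P.total.basicOpen s := fun y hy =>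
      (((hspec ⟨y, hy⟩).map (ModPair.interior P.mod).ι.continuous).mem_open (P.total.basicOpen s).2
        (by_contra fun hc => hs ((mem_asIdeal_iff _ s).2 hc)))
    have h2 : f ∈ (Ideal.span {s}).radical := by
      rw [Ideal.radical_eq_sInf, Submodule.mem_sInf]
      rintro J ⟨hJs, hJ⟩
      by_contra hfJ
      haveI := hJ
      let y : P.total := P.total.isoSpec.inv ⟨J, hJ⟩
      have hy : (P.total.toSpecΓ.base y).asIdeal = J := by
        rw [← Scheme.isoSpec_hom]
        show ((P.total.isoSpec.inv ≫ P.total.isoSpec.hom) ⟨J, hJ⟩).asIdeal = J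
        rw [Iso.inv_hom_id]; rfl
      have h3 : y ∈ ModPair.interior P.mod := by
        rw [hint]; by_contra hc; exact hfJ (hy ▸ (mem_asIdeal_iff y f).2 hc)
      exact (mem_asIdeal_iff y s).1 (hy.symm ▸ hJs (Ideal.mem_span_singleton_self s)) (h1 h3)
    obtain ⟨n, hn⟩ := h2
    exact ⟨n, Ideal.mem_span_singleton.1 hn⟩
  · let q := primeAt P p
    have hfn : (f ^ n) ∈ q.primeCompl := fun h => notMem_primeAt hint p ((inferInstance : q.IsPrime).mem_of_pow_mem n h)
    have hz : IsLocalization.mk' (Localization.AtPrime q) x ⟨f ^ n, hfn⟩ ∈ maximalIdeal (Localization.AtPrime q) :=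
      (IsLocalization.AtPrime.mk'_mem_maximal_iff _ q x _).2 hx
    obtain ⟨c, hc, hcz⟩ := hbij.2.2 hz
    refine ⟨c, hbij.2.1 hx (q.mul_mem_left _ hc) ?_⟩
    rw [map_mul, hcz]
    exact (IsLocalization.mk'_spec' (Localization.AtPrime q) x ⟨f ^ n, hfn⟩).symm

theorem blowLocal_of_conditions [IsAffine P.total] [IsLocalRing Γ(P.total, ⊤)]
    (hA : IsAffine (ModPair.interior P.mod : Scheme.{u}))
    (hL : IsLocalRing Γ((ModPair.interior P.mod : Scheme.{u}), ⊤)) (hG : GluingCond P) : BlowLocal P := by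
  obtain ⟨f, p, hf, hint, -, H⟩ := exists_semiVal_of_conditions hA hL hG
  exact blowLocal_of_semiVal hf hint H

end Groth.Agent.ModP1
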