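import Mathlib
import Groth.Agent.ModP1.LocalPair

/-!
Modulus pairs local for Zariski coverings.
-/

set_option autoImplicit false

universe u

open CategoryTheory AlgebraicGeometry TopologicalSpace IsLocalRing

namespace Groth.Agent.ModP1

/-- Local for Zariski coverings of modulus pairs. -/
def ZarLocal (P : ModPair.Pair.{u}) : Prop :=
  ∀ (X : ModPair.Pair.{u}) (ι : Type u) (U : ι → ModPair.Pair.{u}) (v : ∀ i, U i ⟶ X),
    (∀ i, ModPair.IsMinimal (U i).mod X.mod (v i).hom ∧ IsOpenImmersion (v i).hom ∧ QuasiCompact (v i).hom) →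
    (∀ x : X.total, ∃ (i : ι) (y : (U i).total), (v i).hom.base y = x) →
    ∀ g : P ⟶ X, ∃ (i : ι) (h : P ⟶ U i), h ≫ v i = g

variable {P : ModPair.Pair.{u}}

/-- A lift of a morphism of pairs along a minimal morphism. -/
def liftMinimal {U X : ModPair.Pair.{u}} (v : U ⟶ X) (hv : ModPair.IsMinimal U.mod X.mod v.hom) (g : P ⟶ X)
    (h : P.total ⟶ U.total) (e : h ≫ v.hom = g.hom) : P ⟶ U :=
  ⟨h, by
    show P.mod ≤ U.mod.comap h
    rw [show U.mod = X.mod.comap v.hom from hv, ← Scheme.IdealSheafData.comap_comp, e]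
    exact g.cond⟩

theorem ZarLocal.exists_eq_top [QuasiSeparatedSpace P.total] (hP : ZarLocal P) {ι : Type u}
    (W : ι → P.total.Opens) (hW : ∀ i, IsCompact (W i : Set P.total)) (hcov : ⨆ i, W i = ⊤) :
    ∃ i, W i = ⊤ := by
  let U : ι → ModPair.Pair.{u} := fun i =>
    ⟨W i, P.mod.comap (W i).ι, MP99.isEffCartier_comap_isOpenImmersion P.isEffCartier _⟩
  let v : ∀ i, U i ⟶ P := fun i => ⟨(W i).ι, le_refl _⟩
  obtain ⟨i, h, hh⟩ := hP P ι U v (fun i => by
      haveI : CompactSpace (W i : Scheme.{u}) := isCompact_iff_compactSpace.1 (hW i)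
      exact ⟨rfl, inferInstanceAs (IsOpenImmersion (W i).ι), quasiCompact_of_compactSpace _⟩)
    (fun x => by
      obtain ⟨i, hi⟩ := Opens.mem_iSup.1 (hcov.ge (Opens.mem_top x))
      exact ⟨i, ⟨x, hi⟩, rfl⟩) (𝟙 P)
  refine ⟨i, top_unique fun x _ => ?_⟩
  have e : h.hom ≫ (W i).ι = 𝟙 _ := congrArg ModPair.Pair.Hom.hom hh
  have := congrArg (fun φ : P.total ⟶ P.total => φ x) e
  change (W i).ι (h.hom x) = x at this
  have h2 : (W i).ι (h.hom x) ∈ W i := (h.hom x).2
  rwa [this] at h2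

theorem ZarLocal.affine_local [QuasiSeparatedSpace P.total] (hP : ZarLocal P) :
    IsAffine P.total ∧ IsLocalRing Γ(P.total, ⊤) := by
  obtain ⟨⟨V, hV⟩, hVtop⟩ := hP.exists_eq_top (fun V : P.total.affineOpens => V.1) (fun V => V.2.isCompact)
    (iSup_affineOpens_eq_top P.total)
  change V = ⊤ at hVtop
  subst hVtop
  have hA : IsAffine P.total :=
    haveI : IsAffine ((⊤ : P.total.Opens) : Scheme.{u}) := hV
    IsAffine.of_isIso (Scheme.topIso P.total).inv
  haveI : Nonempty P.total := by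
    by_contra hne
    obtain ⟨i, -⟩ := hP.exists_eq_top (ι := PEmpty.{u+1}) (fun i => i.elim) (fun i => i.elim)
      (top_unique fun x _ => absurd ⟨x⟩ hne)
    exact i.elim
  haveI : Nontrivial Γ(P.total, ⊤) :=
    (P.total.presheaf.germ ⊤ (Classical.arbitrary P.total) trivial).hom.domain_nontrivial
  refine ⟨hA, IsLocalRing.of_isUnit_or_isUnit_of_isUnit_add fun a b hab => ?_⟩
  obtain ⟨⟨j⟩, hj⟩ := hP.exists_eq_top (ι := ULift.{u} Bool)
    (fun j => if j.down then P.total.basicOpen a else P.total.basicOpen b) (fun j => by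
      split_ifs <;> exact ((isAffineOpen_top P.total).basicOpen _).isCompact)
    (top_unique fun x _ => by
      have h1 := (hab.map (P.total.presheaf.germ ⊤ x trivial).hom)
      rw [map_add] at h1
      rcases IsLocalRing.isUnit_or_isUnit_of_isUnit_add h1 with hu | hu
      · exact Opens.mem_iSup.2 ⟨⟨true⟩, (P.total.mem_basicOpen a x trivial).2 hu⟩
      · exact Opens.mem_iSup.2 ⟨⟨false⟩, (P.total.mem_basicOpen b x trivial).2 hu⟩)
  have hu : ∀ c, P.total.basicOpen c = ⊤ → IsUnit c := fun c hc =>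
    (isUnit_iff_mem_basicOpen' c).2 hc
  cases j with
  | true => exact Or.inl (hu a hj)
  | false => exact Or.inr (hu b hj)
where
  isUnit_iff_mem_basicOpen' (c : Γ(P.total, ⊤)) : IsUnit c ↔ P.total.basicOpen c = ⊤ :=
    ⟨fun h => P.total.basicOpen_of_isUnit h, fun h =>
      RingedSpace.isUnit_of_isUnit_germ P.total.toLocallyRingedSpace.toRingedSpace ⊤ c fun x hx =>
        (P.total.mem_basicOpen c x hx).1 (h.ge (Opens.mem_top x))⟩

theorem apply_mem_of_closedPoint' [IsAffine P.total] [IsLocalRing Γ(P.total, ⊤)] {X : Scheme.{u}}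
    (g : P.total ⟶ X) {U : X.Opens} (h : g (P.total.isoSpec.inv (closedPoint Γ(P.total, ⊤))) ∈ U) (x : P.total) :
    g x ∈ U := by
  have h1 := apply_mem_of_closedPoint (R := Γ(P.total, ⊤)) (P.total.isoSpec.inv ≫ g) (U := U) h (P.total.isoSpec.hom x)
  rwa [← Scheme.Hom.comp_apply, Iso.hom_inv_id_assoc] at h1

theorem zarLocal_of_local [IsAffine P.total] [IsLocalRing Γ(P.total, ⊤)] : ZarLocal P := by
  intro X ι U v hv hsurj g
  obtain ⟨i, y, hy⟩ := hsurj (g.hom (P.total.isoSpec.inv (closedPoint Γ(P.total, ⊤))))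
  obtain ⟨hmin, hoi, -⟩ := hv i
  haveI := hoi
  have hr : Set.range g.hom ⊆ Set.range (v i).hom := by
    rintro _ ⟨x, rfl⟩
    exact apply_mem_of_closedPoint' g.hom (U := (v i).hom.opensRange) ⟨y, hy⟩ x
  refine ⟨i, liftMinimal (v i) hmin g (IsOpenImmersion.lift (v i).hom g.hom hr) (IsOpenImmersion.lift_fac _ _ _),
    ModPair.Pair.Hom.ext (IsOpenImmersion.lift_fac _ _ _)⟩

theorem zarLocal_blowLocal_iff (P : ModPair.Pair.{u}) [QuasiSeparatedSpace P.total] :
    (ZarLocal P ∧ BlowLocal P) ↔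
      (IsAffine P.total ∧ IsLocalRing Γ(P.total, ⊤) ∧ IsAffine (ModPair.interior P.mod : Scheme.{u}) ∧
        IsLocalRing Γ((ModPair.interior P.mod : Scheme.{u}), ⊤) ∧ GluingCond P) := by
  constructor
  · rintro ⟨hz, hb⟩
    obtain ⟨hA, hL⟩ := hz.affine_local
    exact ⟨hA, hL, conditions_of_blowLocal hb⟩
  · rintro ⟨hA, hL, hA', hL', hG⟩
    exact ⟨zarLocal_of_local, blowLocal_of_conditions hA' hL' hG⟩

end Groth.Agent.ModP1
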