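import Mathlib
import Groth.Prelude.Def_W4c6modpairsegaMP
import Groth.Agent.ModP1.ZarLocal
import Groth.Agent.ModP1.AwayHensel
import Groth.Agent.Henz21.SchemeSections
import Groth.Agent.Henz21.Quotient
import Groth.Agent.Div89.Pullback
import Groth.Agent.Unr55.UnrQF
import Groth.Prelude.Def_EtBase

/-!
Modulus pairs local for étale coverings.
-/

set_option autoImplicit false

universe u

open CategoryTheory CategoryTheory.Limits AlgebraicGeometry TopologicalSpace IsLocalRing

namespace Groth.Agent.ModP1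

/-- Local for etale coverings of modulus pairs. -/
def EtLocal (P : ModPair.Pair.{u}) : Prop :=
  ∀ (X : ModPair.Pair.{u}) (ι : Type u) (U : ι → ModPair.Pair.{u}) (v : ∀ i, U i ⟶ X),
    (∀ i, ModPair.IsMinimal (U i).mod X.mod (v i).hom ∧ Etale (v i).hom ∧
      QuasiCompact (v i).hom ∧ QuasiSeparated (v i).hom) →
    (∀ x : X.total, ∃ (i : ι) (y : (U i).total), (v i).hom.base y = x) →
    ∀ g : P ⟶ X, ∃ (i : ι) (h : P ⟶ U i), h ≫ v i = g

variable {P : ModPair.Pair.{u}}

theorem EtLocal.zarLocal (hP : EtLocal P) : ZarLocal P := by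
  intro X ι U v hv hs g
  refine hP X ι U v (fun i => ?_) hs g
  obtain ⟨h1, h2, h3⟩ := hv i
  haveI := h2
  exact ⟨h1, inferInstance, h3, inferInstance⟩

theorem EtLocal.henselian [IsAffine P.total] [IsLocalRing Γ(P.total, ⊤)] (hP : EtLocal P) :
    HenselianLocalRing Γ(P.total, ⊤) ∧ IsSepClosed (ResidueField Γ(P.total, ⊤)) := by
  refine Henz21.henselian_sepClosed_of_sections fun X fX hfX x hx => ?_
  haveI := hfX
  let c : P.total := P.total.isoSpec.inv (closedPoint Γ(P.total, ⊤))
  let f' : X ⟶ P.total := fX ≫ P.total.isoSpec.inv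
  have hfx : f' x = c := congrArg P.total.isoSpec.inv hx
  -- isolate `x` in its fibre
  let T : Set X := (f' ⁻¹' {c}) \ {x}
  have hT : IsClosed T := by
    haveI : LocallyQuasiFinite f' := Unr55.locallyQuasiFinite_of_formallyUnramified _
    have hd : _root_.IsDiscrete (f' ⁻¹' {c}) := f'.isDiscrete_preimage_singleton c
    have hc : IsClosed ({c} : Set P.total) := by
      have h1 := (IsLocalRing.isClosed_singleton_closedPoint Γ(P.total, ⊤)).preimage P.total.isoSpec.hom.continuous
      convert h1 using 1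
      ext y
      constructor
      · rintro rfl
        show P.total.isoSpec.hom (P.total.isoSpec.inv (closedPoint Γ(P.total, ⊤))) = _
        rw [← Scheme.Hom.comp_apply, Iso.inv_hom_id]; rfl
      · intro hy
        show y = P.total.isoSpec.inv (closedPoint Γ(P.total, ⊤))
        rw [← (show P.total.isoSpec.hom y = closedPoint Γ(P.total, ⊤) from hy), ← Scheme.Hom.comp_apply,
          Iso.hom_inv_id]
        rfl
    haveI := hd.to_subtype
    have h2 := (hc.preimage f'.continuous).isClosedEmbedding_subtypeVal.isClosedMap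
      ((fun z : (f' ⁻¹' {c} : Set X) => (z : X)) ⁻¹' T) (isClosed_discrete _)
    convert h2 using 1
    rw [Set.image_preimage_eq_inter_range, Subtype.range_coe_subtype]
    exact (Set.inter_eq_left.2 Set.diff_subset).symm
  obtain ⟨_, ⟨(V : X.Opens), hV, rfl⟩, hxV, hVT⟩ := X.isBasis_affineOpens.exists_subset_of_mem_open
    (show x ∈ Tᶜ from fun h => h.2 rfl) hT.isOpen_compl
  haveI : IsAffine (V : Scheme.{u}) := hV
  let κ := Option {a : Γ(P.total, ⊤) // a ∈ maximalIdeal Γ(P.total, ⊤)}
  let D : {a : Γ(P.total, ⊤) // a ∈ maximalIdeal Γ(P.total, ⊤)} → P.total.Opens := fun a => P.total.basicOpen a.1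
  haveI : Etale (V.ι ≫ f') := inferInstance
  let U : κ → ModPair.Pair.{u} := fun i => Option.rec
    ⟨V, P.mod.comap (V.ι ≫ f'), Div89.isEffCartier_comap_of_flat _ P.isEffCartier⟩
    (fun a => ⟨D a, P.mod.comap (D a).ι, Div89.isEffCartier_comap_of_flat _ P.isEffCartier⟩) i
  let v : ∀ i, U i ⟶ P := fun i =>
    match i with
    | none => ⟨V.ι ≫ f', le_refl _⟩
    | some a => ⟨(D a).ι, le_refl _⟩
  obtain ⟨i, h, hh⟩ := hP P κ U v (fun i => by
      match i with
      | none =>
        refine ⟨rfl, inferInstanceAs (Etale (V.ι ≫ f')), quasiCompact_of_compactSpace _, ?_⟩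
        exact (quasiSeparated_iff_quasiSeparatedSpace _).2 inferInstance
      | some a =>
        haveI : CompactSpace (D a : Scheme.{u}) :=
          isCompact_iff_compactSpace.1 ((isAffineOpen_top P.total).basicOpen _).isCompact
        exact ⟨rfl, inferInstanceAs (Etale (D a).ι), quasiCompact_of_compactSpace _,
          inferInstanceAs (QuasiSeparated (D a).ι)⟩)
    (fun z => by
      by_cases hz : ∃ a ∈ maximalIdeal Γ(P.total, ⊤), z ∈ P.total.basicOpen a
      · obtain ⟨a, ha, hza⟩ := hz
        exact ⟨some ⟨a, ha⟩, ⟨z, hza⟩, rfl⟩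
      · refine ⟨none, ⟨x, hxV⟩, ?_⟩
        show f' x = z
        rw [hfx]
        show P.total.isoSpec.inv (closedPoint Γ(P.total, ⊤)) = z
        have h1 : P.total.isoSpec.hom z = closedPoint Γ(P.total, ⊤) := by
          refine PrimeSpectrum.ext ((IsLocalRing.eq_maximalIdeal ?_))
          have hle : maximalIdeal Γ(P.total, ⊤) ≤ (P.total.toSpecΓ z).asIdeal := fun a ha =>
            (mem_asIdeal_iff z a).2 fun h => hz ⟨a, ha, h⟩
          rw [Scheme.isoSpec_hom]
          exact ((maximalIdeal.isMaximal _).eq_of_le (P.total.toSpecΓ z).2.ne_top hle) ▸ maximalIdeal.isMaximal _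
        rw [← h1, ← Scheme.Hom.comp_apply, Iso.hom_inv_id]
        rfl) (𝟙 P)
  have e : h.hom ≫ (v i).hom = 𝟙 P.total := congrArg ModPair.Pair.Hom.hom hh
  match i with
  | some a =>
    exfalso
    have h1 : (D a).ι (h.hom c) = c := congrArg (fun φ : P.total ⟶ P.total => φ c) e
    have h2 : c ∈ P.total.basicOpen a.1 := h1 ▸ (show (D a).ι (h.hom c) ∈ D a from (h.hom c).2)
    have h3 := (mem_asIdeal_iff c a.1).not_left.2 h2
    apply h3
    rw [← Scheme.isoSpec_hom]
    show a.1 ∈ ((P.total.isoSpec.inv ≫ P.total.isoSpec.hom) (closedPoint Γ(P.total, ⊤))).asIdeal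
    rw [Iso.inv_hom_id]
    exact a.2
  | none =>
    refine ⟨P.total.isoSpec.inv ≫ h.hom ≫ V.ι, ?_, ?_⟩
    · have e' : (h.hom ≫ V.ι) ≫ fX = P.total.isoSpec.hom := by
        rw [← cancel_mono P.total.isoSpec.inv, Category.assoc, Category.assoc, Iso.hom_inv_id]
        exact e
      rw [Category.assoc, e', Iso.inv_hom_id]
    · show V.ι (h.hom c) = x
      have h1 : f' (V.ι (h.hom c)) = c := congrArg (fun φ : P.total ⟶ P.total => φ c) e
      by_contra hne
      exact hVT (show V.ι (h.hom c) ∈ V from (h.hom c).2) ⟨h1, hne⟩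

theorem etLocal_of_strictlyHenselian [IsAffine P.total] [HenselianLocalRing Γ(P.total, ⊤)]
    [IsSepClosed (ResidueField Γ(P.total, ⊤))] : EtLocal P := by
  intro X ι U v hv hsurj g
  let c : P.total := P.total.isoSpec.inv (closedPoint Γ(P.total, ⊤))
  obtain ⟨i, y, hy⟩ := hsurj (g.hom c)
  obtain ⟨hmin, het, -, -⟩ := hv i
  haveI := het
  obtain ⟨z, hz, -⟩ := Scheme.Pullback.exists_preimage_pullback (f := g.hom) (g := (v i).hom) c y hy.symm
  obtain ⟨s, hs, -⟩ := Henz21.exists_section (pullback g.hom (v i).hom) (pullback.fst _ _ ≫ P.total.isoSpec.hom) z (by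
    show P.total.isoSpec.hom (pullback.fst g.hom (v i).hom z) = _
    rw [hz, ← Scheme.Hom.comp_apply, Iso.inv_hom_id]; rfl)
  have e1 : (P.total.isoSpec.hom ≫ s) ≫ pullback.fst g.hom (v i).hom = 𝟙 _ := by
    rw [← cancel_mono P.total.isoSpec.hom, Category.assoc, Category.assoc, hs, Category.comp_id, Category.id_comp]
  have e2 : (P.total.isoSpec.hom ≫ s ≫ pullback.snd g.hom (v i).hom) ≫ (v i).hom = g.hom := by
    rw [Category.assoc, Category.assoc, ← pullback.condition, ← Category.assoc s, ← Category.assoc P.total.isoSpec.hom,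
      ← Category.assoc P.total.isoSpec.hom, e1, Category.id_comp]
  exact ⟨i, liftMinimal (v i) hmin g _ e2, ModPair.Pair.Hom.ext e2⟩

theorem isSepClosed_of_ringEquiv {K L : Type u} [Field K] [Field L] (e : K ≃+* L) [IsSepClosed K] : IsSepClosed L := by
  refine IsSepClosed.of_exists_root _ fun p hp hirr hsep => ?_
  obtain ⟨x, hx⟩ := IsSepClosed.exists_root (p.map e.symm.toRingHom) (by
    rw [Polynomial.degree_map]
    exact (Polynomial.degree_pos_of_irreducible hirr).ne') hsep.map
  refine ⟨e x, e.symm.injective ?_⟩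
  rw [Polynomial.IsRoot.def, Polynomial.eval_map] at hx
  rw [map_zero, ← hx]
  show e.symm.toRingHom (p.eval (e x)) = _
  rw [← Polynomial.eval₂_at_apply]
  simp

theorem strictlyHenselian_quotient {A : Type u} [CommRing A] [HenselianLocalRing A]
    [IsSepClosed (ResidueField A)] (q : Ideal A) [q.IsPrime] : EtCoh.IsStrictlyHenselianLocalRing (A ⧸ q) := by
  haveI := Henz21.henselianLocalRing_of_surjective (Ideal.Quotient.mk q) Ideal.Quotient.mk_surjective
  haveI : IsLocalHom (Ideal.Quotient.mk q) := IsLocalHom.of_surjective _ Ideal.Quotient.mk_surjective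
  have hb : Function.Bijective (ResidueField.map (Ideal.Quotient.mk q)) := by
    refine ⟨RingHom.injective _, fun y => ?_⟩
    obtain ⟨y, rfl⟩ := residue_surjective y
    obtain ⟨a, rfl⟩ := Ideal.Quotient.mk_surjective y
    exact ⟨residue A a, ResidueField.map_residue _ _⟩
  exact ⟨inferInstance, isSepClosed_of_ringEquiv (RingEquiv.ofBijective _ hb)⟩

theorem etLocal_blowLocal_iff (P : ModPair.Pair.{u}) [QuasiSeparatedSpace P.total] :
    (EtLocal P ∧ BlowLocal P) ↔
    (IsAffine P.total ∧ EtCoh.IsStrictlyHenselianLocalRing Γ(P.total, ⊤) ∧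
      IsAffine (ModPair.interior P.mod : Scheme.{u}) ∧
      HenselianLocalRing Γ((ModPair.interior P.mod : Scheme.{u}), ⊤) ∧
      ∀ p : (ModPair.interior P.mod : Scheme.{u}),
        IsClosed ({p} : Set (ModPair.interior P.mod : Scheme.{u})) →
          ValuationRing (Γ(P.total, ⊤) ⧸ primeAt P p) ∧
          EtCoh.IsStrictlyHenselianLocalRing (Γ(P.total, ⊤) ⧸ primeAt P p) ∧
          Set.BijOn (algebraMap Γ(P.total, ⊤) (Localization.AtPrime (primeAt P p)))
            (primeAt P p : Set Γ(P.total, ⊤))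
            (IsLocalRing.maximalIdeal (Localization.AtPrime (primeAt P p)) :
              Set (Localization.AtPrime (primeAt P p)))) := by
  constructor
  · rintro ⟨he, hb⟩
    obtain ⟨hA, hL⟩ := he.zarLocal.affine_local
    obtain ⟨hH, hS⟩ := he.henselian
    obtain ⟨hA', hL', hG⟩ := conditions_of_blowLocal hb
    obtain ⟨f, q, hf, hint, H⟩ := semiVal_of_blowLocal hb
    refine ⟨hA, ⟨hH, hS⟩, hA', ?_, fun p hp => ⟨(hG p hp).1, ?_, (hG p hp).2⟩⟩
    · letI := ((P.total.presheaf.map (homOfLE le_top).op ≫ (ModPair.interior P.mod).topIso.inv).hom).toAlgebra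
      haveI := isLocalization_interior hint
      exact henselianLocalRing_away Γ(P.total, ⊤) H _
    · exact strictlyHenselian_quotient (primeAt P p)
  · rintro ⟨hA, ⟨hH, hS⟩, hA', hH', hc⟩
    exact ⟨etLocal_of_strictlyHenselian, blowLocal_of_conditions hA' inferInstance
      fun p hp => ⟨(hc p hp).1, (hc p hp).2.2⟩⟩

end Groth.Agent.ModP1
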