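import Mathlib
import Groth.Agent.ModP1.AicRing
import Groth.Agent.MP99.Basic

/-!
Finite covers of affine schemes through their rings.
-/

set_option autoImplicit false

universe u

open CategoryTheory CategoryTheory.Limits AlgebraicGeometry TopologicalSpace IsLocalRing

namespace Groth.Agent.ModP1

variable (X : Scheme.{u}) [IsAffine X]

/-- `Spec` of an algebra over the global sections. -/
noncomputable def specOver (B : Type u) [CommRing B] [Algebra Γ(X, ⊤) B] : Spec (CommRingCat.of B) ⟶ X :=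
  Spec.map (CommRingCat.ofHom (algebraMap Γ(X, ⊤) B)) ≫ X.isoSpec.inv

theorem isFinite_specOver (B : Type u) [CommRing B] [Algebra Γ(X, ⊤) B] [Module.Finite Γ(X, ⊤) B] :
    IsFinite (specOver X B) := by
  haveI : IsFinite (Spec.map (CommRingCat.ofHom (algebraMap Γ(X, ⊤) B))) :=
    (IsFinite.SpecMap_iff _).2 (RingHom.finite_algebraMap.2 inferInstance)
  exact inferInstanceAs (IsFinite (_ ≫ _))

theorem surjective_of_primes {ι : Type u} (B : ι → Type u) [∀ i, CommRing (B i)] [∀ i, Algebra Γ(X, ⊤) (B i)]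
    (h : ∀ p : PrimeSpectrum Γ(X, ⊤), ∃ (i : ι) (P : PrimeSpectrum (B i)),
      P.asIdeal.comap (algebraMap Γ(X, ⊤) (B i)) = p.asIdeal) (x : X) :
    ∃ (i : ι) (y : Spec (CommRingCat.of (B i))), specOver X (B i) y = x := by
  obtain ⟨i, P, hP⟩ := h (X.isoSpec.hom x)
  refine ⟨i, P, ?_⟩
  have h1 : Spec.map (CommRingCat.ofHom (algebraMap Γ(X, ⊤) (B i))) P = X.isoSpec.hom x := PrimeSpectrum.ext hP
  show X.isoSpec.inv (Spec.map (CommRingCat.ofHom (algebraMap Γ(X, ⊤) (B i))) P) = x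
  rw [h1, ← Scheme.Hom.comp_apply, Iso.hom_inv_id]
  rfl

theorem retraction_of_section (B : Type u) [CommRing B] [Algebra Γ(X, ⊤) B] (h : X ⟶ Spec (CommRingCat.of B))
    (hh : h ≫ specOver X B = 𝟙 X) : Nonempty (B →ₐ[Γ(X, ⊤)] Γ(X, ⊤)) := by
  have e : CommRingCat.ofHom (algebraMap Γ(X, ⊤) B) ≫ Spec.preimage (X.isoSpec.inv ≫ h) = 𝟙 _ := by
    apply Spec.map_injective
    rw [Spec.map_comp, Spec.map_preimage, Spec.map_id, ← cancel_mono X.isoSpec.inv]
    refine (Category.assoc _ _ _).trans ((Category.assoc _ _ _).trans ?_)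
    show X.isoSpec.inv ≫ h ≫ specOver X B = _
    rw [hh, Category.comp_id]
    exact (Category.id_comp _).symm
  exact ⟨{ (Spec.preimage (X.isoSpec.inv ≫ h)).hom with commutes' := fun a => congr($(e).hom a) }⟩

theorem specOver_appTop (B : Type u) [CommRing B] [Algebra Γ(X, ⊤) B] (a : Γ(X, ⊤)) :
    (specOver X B).appTop a = (Scheme.ΓSpecIso (CommRingCat.of B)).inv (algebraMap Γ(X, ⊤) B a) := by
  have h1 : X.isoSpec.inv.appTop = (Scheme.ΓSpecIso Γ(X, ⊤)).inv := by
    have h0 : X.isoSpec.inv.appTop ≫ X.isoSpec.hom.appTop = 𝟙 _ := by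
      rw [← Scheme.Hom.comp_appTop, Iso.hom_inv_id]; rfl
    rw [Scheme.isoSpec_hom, Scheme.toSpecΓ_appTop] at h0
    exact (cancel_mono (Scheme.ΓSpecIso Γ(X, ⊤)).hom).1 (h0.trans (Scheme.ΓSpecIso Γ(X, ⊤)).inv_hom_id.symm)
  rw [specOver, Scheme.Hom.comp_appTop, h1]
  exact congr($((Scheme.ΓSpecIso_inv_naturality (CommRingCat.ofHom (algebraMap Γ(X, ⊤) B))).symm).hom a)

theorem isEffCartier_comap_specOver {I : X.IdealSheafData} {f : Γ(X, ⊤)}
    (hI : I.ideal ⟨⊤, isAffineOpen_top X⟩ = Ideal.span {f}) (B : Type u) [CommRing B] [Algebra Γ(X, ⊤) B]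
    (hB : algebraMap Γ(X, ⊤) B f ∈ nonZeroDivisors B) : BlowUp.IsEffCartierIdeal (I.comap (specOver X B)) := by
  intro y
  refine ⟨⟨⊤, isAffineOpen_top _⟩, trivial, (specOver X B).appTop f, ?_, ?_⟩
  · rw [specOver_appTop]
    let e := (Scheme.ΓSpecIso (CommRingCat.of B)).commRingCatIsoToRingEquiv
    refine mem_nonZeroDivisors_iff_right.2 fun z hz => ?_
    change z * e.symm (algebraMap Γ(X, ⊤) B f) = 0 at hz
    have h1 := congrArg e hz
    rw [map_mul, map_zero, e.apply_symm_apply] at h1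
    exact e.injective (((mem_nonZeroDivisors_iff_right.1 hB) _ h1).trans (map_zero e).symm)
  · rw [MP99.ideal_comap_top_of_isAffine, hI, Ideal.map_span, Set.image_singleton]

theorem exists_section_of_finite (hX : IsDomain Γ(X, ⊤)) (hA : Curves.IsAIC Γ(X, ⊤)) {T : Scheme.{u}} (f : T ⟶ X)
    [IsFinite f] [Surjective f] : ∃ s : X ⟶ T, s ≫ f = 𝟙 X := by
  haveI : IsAffine T := isAffine_of_isAffineHom f
  letI := f.appTop.hom.toAlgebra
  haveI : Module.Finite Γ(X, ⊤) Γ(T, ⊤) :=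
    RingHom.finite_algebraMap.1 (f.finite_app ⊤ (isAffineOpen_top X))
  haveI : Algebra.IsIntegral Γ(X, ⊤) Γ(T, ⊤) := Algebra.IsIntegral.of_finite _ _
  have hinj : Function.Injective (algebraMap Γ(X, ⊤) Γ(T, ⊤)) := by
    refine (injective_iff_map_eq_zero _).2 fun a ha => ?_
    have hempty : X.basicOpen a = ⊥ := by
      refine eq_bot_iff.2 fun x hx => ?_
      obtain ⟨t, rfl⟩ := f.surjective x
      have h1 : t ∈ T.basicOpen (f.appTop a) := by
        rw [← Scheme.preimage_basicOpen_top]; exact hx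
      rw [show f.appTop a = 0 from ha, Scheme.basicOpen_zero] at h1
      exact h1
    have h2 := basicOpen_eq_bot_iff_of_isNilpotent' a hempty
    exact h2.eq_zero
  obtain ⟨r⟩ := exists_retraction hA Γ(T, ⊤) hinj
  refine ⟨X.isoSpec.hom ≫ Spec.map (CommRingCat.ofHom r.toRingHom) ≫ T.isoSpec.inv, ?_⟩
  rw [Category.assoc, Category.assoc, ← Scheme.isoSpec_inv_naturality, ← Spec.map_comp_assoc,
    show f.appTop ≫ CommRingCat.ofHom r.toRingHom = 𝟙 _ from CommRingCat.hom_ext (RingHom.ext r.commutes),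
    Spec.map_id, Category.id_comp, Iso.hom_inv_id]
where
  basicOpen_eq_bot_iff_of_isNilpotent' (a : Γ(X, ⊤)) (h : X.basicOpen a = ⊥) : IsNilpotent a :=
    nilpotent_iff_mem_prime.2 fun J hJ => by
      by_contra hJa
      let y : X := X.isoSpec.inv ⟨J, hJ⟩
      have hy : y ∈ X.basicOpen a := by
        rw [← Scheme.toSpecΓ_preimage_basicOpen]
        show a ∉ (X.toSpecΓ (X.isoSpec.inv ⟨J, hJ⟩)).asIdeal
        rw [← Scheme.isoSpec_hom, ← Scheme.Hom.comp_apply, Iso.inv_hom_id]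
        exact hJa
      rw [h] at hy
      exact hy

end Groth.Agent.ModP1
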