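import Mathlib
import Groth.Agent.ModP1.ZarLocal
import Groth.Agent.ModP1.FinSection

/-!
Modulus pairs local for Zariski and finite coverings.
-/

set_option autoImplicit false

universe u

open CategoryTheory CategoryTheory.Limits AlgebraicGeometry TopologicalSpace IsLocalRing

namespace Groth.Agent.ModP1

/-- Local for finite coverings of modulus pairs. -/
def FinLocal (P : ModPair.Pair.{u}) : Prop :=
  ∀ (X : ModPair.Pair.{u}) (ι : Type u) (U : ι → ModPair.Pair.{u}) (v : ∀ i, U i ⟶ X),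
    (∀ i, ModPair.IsMinimal (U i).mod X.mod (v i).hom ∧ IsFinite (v i).hom) →
    (∀ x : X.total, ∃ (i : ι) (y : (U i).total), (v i).hom.base y = x) →
    ∀ g : P ⟶ X, ∃ (i : ι) (h : P ⟶ U i), h ≫ v i = g

variable {P : ModPair.Pair.{u}}

theorem FinLocal.domain_aic [IsAffine P.total] [IsLocalRing Γ(P.total, ⊤)] (hP : FinLocal P) :
    IsDomain Γ(P.total, ⊤) ∧ Curves.IsAIC Γ(P.total, ⊤) := by
  obtain ⟨f, hf, hI, -⟩ := exists_generator (P := P)
  refine domain_aic_of_retractions hf fun ι B _ _ hfin hnzd hsurj => ?_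
  let U : ι → ModPair.Pair.{u} := fun i =>
    ⟨Spec (CommRingCat.of (B i)), P.mod.comap (specOver P.total (B i)), isEffCartier_comap_specOver P.total hI (B i) (hnzd i)⟩
  let v : ∀ i, U i ⟶ P := fun i => ⟨specOver P.total (B i), le_refl _⟩
  obtain ⟨i, h, hh⟩ := hP P ι U v (fun i => ⟨rfl, haveI := hfin i; isFinite_specOver P.total (B i)⟩)
    (fun x => surjective_of_primes P.total B hsurj x) (𝟙 P)
  exact ⟨i, retraction_of_section P.total (B i) h.hom (congrArg ModPair.Pair.Hom.hom hh)⟩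

/-- A finite family covering the generic point has a member admitting a section. -/
theorem exists_lift_of_finite_family {S : Scheme.{u}} [IsAffine S] (hd : IsDomain Γ(S, ⊤)) (hA : Curves.IsAIC Γ(S, ⊤))
    {X : Scheme.{u}} (g : S ⟶ X) {ι : Type*} (U : ι → Scheme.{u}) (v : ∀ i, U i ⟶ X)
    (hfin : ∀ i, IsFinite (v i)) (hsurj : ∀ x : X, ∃ (i : ι) (y : U i), v i y = x) :
    ∃ (i : ι) (h : S ⟶ U i), h ≫ v i = g := by
  let η : S := S.isoSpec.inv ⟨⊥, Ideal.isPrime_bot⟩
  obtain ⟨i, y, hy⟩ := hsurj (g η)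
  haveI := hfin i
  obtain ⟨z, hz, -⟩ := Scheme.Pullback.exists_preimage_pullback (f := g) (g := v i) η y hy.symm
  haveI : Surjective (pullback.fst g (v i)) := by
    refine ⟨fun x => ?_⟩
    have hcl : IsClosed (Set.range (pullback.fst g (v i))) := (pullback.fst g (v i)).isClosedMap.isClosed_range
    have hs : η ⤳ x := by
      have h1 := ((PrimeSpectrum.le_iff_specializes (⟨⊥, Ideal.isPrime_bot⟩ : PrimeSpectrum Γ(S, ⊤))
        (S.isoSpec.hom x)).1 bot_le).map S.isoSpec.inv.continuous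
      rwa [← Scheme.Hom.comp_apply, Iso.hom_inv_id] at h1
    exact hs.mem_closed hcl ⟨z, hz⟩
  obtain ⟨s, hs⟩ := exists_section_of_finite S hd hA (pullback.fst g (v i))
  exact ⟨i, s ≫ pullback.snd g (v i), by rw [Category.assoc, ← pullback.condition, ← Category.assoc, hs, Category.id_comp]⟩

theorem finLocal_of_domain_aic [IsAffine P.total] (hd : IsDomain Γ(P.total, ⊤)) (hA : Curves.IsAIC Γ(P.total, ⊤)) :
    FinLocal P := by
  intro X ι U v hv hsurj g
  obtain ⟨i, h, hh⟩ := exists_lift_of_finite_family hd hA g.hom (fun i => (U i).total) (fun i => (v i).hom)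
    (fun i => (hv i).2) hsurj
  exact ⟨i, liftMinimal (v i) (hv i).1 g h hh, ModPair.Pair.Hom.ext hh⟩

theorem zarLocal_finLocal_blowLocal_iff (P : ModPair.Pair.{u}) [QuasiSeparatedSpace P.total] :
    (ZarLocal P ∧ FinLocal P ∧ BlowLocal P) ↔
    (IsAffine P.total ∧ IsLocalRing Γ(P.total, ⊤) ∧ IsDomain Γ(P.total, ⊤) ∧
      Curves.IsAIC Γ(P.total, ⊤) ∧
      IsAffine (ModPair.interior P.mod : Scheme.{u}) ∧
      IsLocalRing Γ((ModPair.interior P.mod : Scheme.{u}), ⊤) ∧
      IsDomain Γ((ModPair.interior P.mod : Scheme.{u}), ⊤) ∧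
      Curves.IsAIC Γ((ModPair.interior P.mod : Scheme.{u}), ⊤) ∧
      ∀ p : (ModPair.interior P.mod : Scheme.{u}),
        IsClosed ({p} : Set (ModPair.interior P.mod : Scheme.{u})) →
          ValuationRing (Γ(P.total, ⊤) ⧸ primeAt P p) ∧
          IsAlgClosed (FractionRing (Γ(P.total, ⊤) ⧸ primeAt P p)) ∧
          Set.BijOn (algebraMap Γ(P.total, ⊤) (Localization.AtPrime (primeAt P p)))
            (primeAt P p : Set Γ(P.total, ⊤))
            (IsLocalRing.maximalIdeal (Localization.AtPrime (primeAt P p)) :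
              Set (Localization.AtPrime (primeAt P p)))) := by
  constructor
  · rintro ⟨hz, hF, hb⟩
    obtain ⟨hA, hL⟩ := hz.affine_local
    obtain ⟨hd, haic⟩ := hF.domain_aic
    obtain ⟨hA', hL', hG⟩ := conditions_of_blowLocal hb
    obtain ⟨f, q, hf, hint, H⟩ := semiVal_of_blowLocal hb
    letI := ((P.total.presheaf.map (homOfLE le_top).op ≫ (ModPair.interior P.mod).topIso.inv).hom).toAlgebra
    haveI := isLocalization_interior hint
    refine ⟨hA, hL, hd, haic, hA', hL', ?_, isAIC_localization haic (Submonoid.powers f) _,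
      fun p hp => ⟨(hG p hp).1, isAlgClosed_fractionRing (isAIC_quotient haic _), (hG p hp).2⟩⟩
    haveI := hd
    exact IsLocalization.isDomain_of_le_nonZeroDivisors (M := Submonoid.powers f) (R := Γ(P.total, ⊤)) _
      (Submonoid.powers_le.2 hf)
  · rintro ⟨hA, hL, hd, haic, hA', hL', -, -, hc⟩
    exact ⟨zarLocal_of_local, finLocal_of_domain_aic hd haic,
      blowLocal_of_conditions hA' hL' fun p hp => ⟨(hc p hp).1, (hc p hp).2.2⟩⟩

/-- Schemes local for Zariski and finite coverings. -/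
theorem zariskiFiniteLocal_iff (P : Scheme.{u}) [QuasiSeparatedSpace P] :
    ((∀ (X : Scheme.{u}) (R : Presieve X), R ∈ Scheme.precoverage (@IsOpenImmersion ⊓ @QuasiCompact) X →
        ∀ g : P ⟶ X, ∃ (Y : Scheme.{u}) (w : Y ⟶ X) (h : P ⟶ Y), R w ∧ h ≫ w = g) ∧
      (∀ (X : Scheme.{u}) (R : Presieve X), R ∈ Scheme.precoverage @IsFinite X →
        ∀ g : P ⟶ X, ∃ (Y : Scheme.{u}) (w : Y ⟶ X) (h : P ⟶ Y), R w ∧ h ≫ w = g)) ↔
    (IsAffine P ∧ IsLocalRing Γ(P, ⊤) ∧ IsDomain Γ(P, ⊤) ∧ Curves.IsAIC Γ(P, ⊤)) := by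
  have htop : BlowUp.IsEffCartierIdeal (⊤ : P.IdealSheafData) := MP99.isEffCartier_top
  let P' : ModPair.Pair.{u} := ⟨P, ⊤, htop⟩
  constructor
  · rintro ⟨hz, hfi⟩
    have hz' : ∀ (ι : Type u) (W : ι → P.Opens), (∀ i, IsCompact (W i : Set P)) → ⨆ i, W i = ⊤ → ∃ i, W i = ⊤ := by
      intro ι W hW hcov
      obtain ⟨Y, w, h, hw, hh⟩ := hz P (Presieve.ofArrows (fun i => (W i : Scheme.{u})) fun i => (W i).ι) (by
        rw [Scheme.ofArrows_mem_precoverage_iff]
        refine ⟨fun x => ?_, fun i => ?_⟩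
        · obtain ⟨i, hi⟩ := Opens.mem_iSup.1 (hcov.ge (Opens.mem_top x))
          exact ⟨i, ⟨x, hi⟩, rfl⟩
        · haveI : CompactSpace (W i : Scheme.{u}) := isCompact_iff_compactSpace.1 (hW i)
          exact ⟨inferInstanceAs (IsOpenImmersion (W i).ι), quasiCompact_of_compactSpace _⟩) (𝟙 P)
      obtain ⟨i⟩ := hw
      refine ⟨i, top_unique fun x _ => ?_⟩
      have h2 : (W i).ι (h x) ∈ W i := (h x).2
      rwa [show (W i).ι (h x) = x from congrArg (fun φ : P ⟶ P => φ x) hh] at h2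
    -- the Zariski part is that of the trivial pair
    have hz'' : ZarLocal P' := by
      intro X ι U v hv hsurj g
      obtain ⟨Y, w, h, hw, hh⟩ := hz X.total (Presieve.ofArrows (fun i => (U i).total) fun i => (v i).hom) (by
        rw [Scheme.ofArrows_mem_precoverage_iff]
        exact ⟨hsurj, fun i => (hv i).2⟩) g.hom
      obtain ⟨i⟩ := hw
      exact ⟨i, liftMinimal (v i) (hv i).1 g h hh, ModPair.Pair.Hom.ext hh⟩
    obtain ⟨hA, hL⟩ := hz''.affine_local
    refine ⟨hA, hL, ?_⟩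
    refine domain_aic_of_retractions (f := (1 : Γ(P, ⊤))) (one_mem _) fun ι B _ _ hfin _ hsurj => ?_
    obtain ⟨Y, w, h, hw, hh⟩ := hfi P
      (Presieve.ofArrows (fun i => Spec (CommRingCat.of (B i))) fun i => specOver P (B i)) (by
        rw [Scheme.ofArrows_mem_precoverage_iff]
        exact ⟨fun x => surjective_of_primes P B hsurj x, fun i => haveI := hfin i; isFinite_specOver P (B i)⟩) (𝟙 P)
    obtain ⟨i⟩ := hw
    exact ⟨i, retraction_of_section P (B i) h hh⟩
  · rintro ⟨hA, hL, hd, haic⟩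
    refine ⟨fun X R hR g => ?_, fun X R hR g => ?_⟩
    · obtain ⟨ι, U, v, rfl⟩ := R.exists_eq_ofArrows
      rw [Scheme.ofArrows_mem_precoverage_iff] at hR
      obtain ⟨i, y, hy⟩ := hR.1 (g (P.isoSpec.inv (closedPoint Γ(P, ⊤))))
      haveI := (hR.2 i).1
      have hr : Set.range g ⊆ Set.range (v i) := by
        rintro _ ⟨x, rfl⟩
        exact apply_mem_of_closedPoint' (P := P') g (U := (v i).opensRange) ⟨y, hy⟩ x
      exact ⟨U i, v i, IsOpenImmersion.lift (v i) g hr, ⟨i⟩, IsOpenImmersion.lift_fac _ _ _⟩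
    · obtain ⟨ι, U, v, rfl⟩ := R.exists_eq_ofArrows
      rw [Scheme.ofArrows_mem_precoverage_iff] at hR
      obtain ⟨i, h, hh⟩ := exists_lift_of_finite_family hd haic g U v hR.2 hR.1
      exact ⟨U i, v i, h, ⟨i⟩, hh⟩

end Groth.Agent.ModP1
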