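import Mathlib
import Groth.Agent.MP99.Ops
import Groth.Agent.MP99.Image
import Groth.Agent.LimTop61.ZmtFactor

/-!
Finite surjective morphisms onto the interior of a modulus pair extend to modulus pairs.
-/

set_option autoImplicit false

universe u

open CategoryTheory CategoryTheory.Limits AlgebraicGeometry TopologicalSpace

namespace Groth.Agent.ModP1

theorem exists_finite_extension {S : Scheme.{u}} [CompactSpace S] [QuasiSeparatedSpace S]
    (I : S.IdealSheafData) (hI : BlowUp.IsEffCartierIdeal I) {T₀ : Scheme.{u}}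
    (t₀ : T₀ ⟶ (ModPair.interior I : Scheme.{u})) [IsFinite t₀] [Surjective t₀] :
    ∃ (T : Scheme.{u}) (t : T ⟶ S) (j : T₀ ⟶ T), IsFinite t ∧ Surjective t ∧
      BlowUp.IsEffCartierIdeal (I.comap t) ∧ IsOpenImmersion j ∧
      Set.range j.base = t.base ⁻¹' (ModPair.interior I : Set S) ∧
      j ≫ t = t₀ ≫ (ModPair.interior I).ι := by
  have hlp := MP99.isLocPrincipal_of_isEffCartier hI
  haveI := MP99.isAffineHom_interior hlp
  haveI := MP99.dominant_of_isEffCartier hI
  have hU : IsCompact (ModPair.interior I : Set S) := by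
    rw [← Scheme.Opens.range_ι]
    haveI : CompactSpace (ModPair.interior I : Scheme.{u}) :=
      QuasiCompact.compactSpace_of_compactSpace (ModPair.interior I).ι
    exact isCompact_range (ModPair.interior I).ι.continuous
  obtain ⟨V', π, i, -, hπ, hpb⟩ :=
    LimTop61.exists_finite_surjective_extension (ModPair.interior I) hU t₀
  haveI : IsFinite π := hπ
  haveI : IsOpenImmersion i := MorphismProperty.of_isPullback (P := @IsOpenImmersion) hpb.flip inferInstance
  haveI : QuasiCompact i := MorphismProperty.of_isPullback (P := @QuasiCompact) hpb.flip inferInstance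
  haveI := MP99.dominant_toImage i
  let j : T₀ ⟶ i.image := i.toImage
  let t : i.image ⟶ S := i.imageι ≫ π
  have hj : IsPullback j (𝟙 T₀) i.imageι i := by
    refine ⟨⟨by rw [Scheme.Hom.toImage_imageι, Category.id_comp]⟩,
      ⟨PullbackCone.IsLimit.mk _ (fun s => s.snd) (fun s => ?_) (fun s => Category.comp_id _)
        (fun s m _ h => by rw [← h, Category.comp_id])⟩⟩
    rw [← cancel_mono i.imageι, Category.assoc, Scheme.Hom.toImage_imageι, s.condition]
  haveI hjo : IsOpenImmersion j := MorphismProperty.of_isPullback (P := @IsOpenImmersion) hj.flip ‹_›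
  have hrange : Set.range j.base = t.base ⁻¹' (ModPair.interior I : Set S) := by
    ext z
    constructor
    · rintro ⟨x, rfl⟩
      show (j ≫ i.imageι ≫ π) x ∈ ModPair.interior I
      rw [Scheme.Hom.toImage_imageι_assoc, hpb.w, Scheme.Hom.comp_apply]
      exact (t₀ x).2
    · intro hz
      obtain ⟨x, hx, -⟩ := Scheme.exists_preimage_of_isPullback hpb (i.imageι z) ⟨t z, hz⟩ rfl
      exact ⟨x, i.imageι.isEmbedding.injective
        ((Scheme.Hom.comp_apply _ _ _).symm.trans ((congrArg (fun m : T₀ ⟶ V' => m x) i.toImage_imageι).trans hx))⟩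
  have hjt : j ≫ t = t₀ ≫ (ModPair.interior I).ι := by
    rw [← hpb.w]
    exact Scheme.Hom.toImage_imageι_assoc i π
  refine ⟨i.image, t, j, inferInstance, ?_, ?_, hjo, hrange, hjt⟩
  · refine ⟨fun s => ?_⟩
    have h1 : (ModPair.interior I : Set S) ⊆ Set.range t := fun x hx => by
      obtain ⟨y, hy⟩ := t₀.surjective ⟨x, hx⟩
      refine ⟨j y, ?_⟩
      rw [← Scheme.Hom.comp_apply, hjt, Scheme.Hom.comp_apply, hy]
      rfl
    have h2 : closure (ModPair.interior I : Set S) = Set.univ := by
      rw [← Scheme.Opens.range_ι]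
      exact (ModPair.interior I).ι.denseRange.closure_range
    exact (h2.ge.trans ((t.isClosedMap.isClosed_range).closure_subset_iff.2 h1)) (Set.mem_univ s)
  · haveI : IsSchemeTheoreticallyDominant (ModPair.interior (I.comap t)).ι := by
      refine MP99.ker_le_of_factor j _ (IsOpenImmersion.lift (ModPair.interior (I.comap t)).ι j ?_)
        (IsOpenImmersion.lift_fac _ _ _)
      rw [Scheme.Opens.range_ι, MP99.interior_comap]
      exact hrange.le
    exact MP99.isEffCartier_of_dominant (MP99.isLocPrincipal_comap hlp t)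

end Groth.Agent.ModP1
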