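import Groth.Agent.ModP1.TorsionIdeal
import Groth.Agent.MP99.BlowUpDense
import Groth.Agent.RegImm10.BlowModel

/-!
Flattening a finite type morphism of modulus pairs by admissible blow-ups.
-/

set_option autoImplicit false

universe u

open CategoryTheory CategoryTheory.Limits AlgebraicGeometry TopologicalSpace

namespace Groth.Agent.ModP1.FlatRefine

variable {X S : Scheme.{u}}

theorem isEffCartier_comap_of_flat {T : Scheme.{u}} (g : T ⟶ S) [Flat g] {I : S.IdealSheafData}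
    (hI : BlowUp.IsEffCartierIdeal I) : BlowUp.IsEffCartierIdeal (I.comap g) := by
  have hl := MP99.isLocPrincipal_of_isEffCartier hI
  haveI := TorsionIdeal.quasiCompact_interior hl
  haveI := MP99.dominant_of_isEffCartier hI
  haveI : IsSchemeTheoreticallyDominant (g ⁻¹ᵁ ModPair.interior I).ι :=
    IsSchemeTheoreticallyDominant.of_isPullback (isPullback_morphismRestrict g (ModPair.interior I))
  exact MP99.isEffCartier_comap hl g (W := g ⁻¹ᵁ ModPair.interior I) le_rfl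

theorem isIso_restrict_of_le {T : Scheme.{u}} (b : T ⟶ S) {U V : S.Opens} (h : U ≤ V) [IsIso (b ∣_ V)] :
    IsIso (b ∣_ U) := by
  have hsq : IsPullback (b ∣_ U) (T.homOfLE (fun x hx => h hx : b ⁻¹ᵁ U ≤ b ⁻¹ᵁ V)) (S.homOfLE h) (b ∣_ V) := by
    refine IsPullback.of_bot ?_ (by simp [← cancel_mono V.ι]) (isPullback_morphismRestrict b V)
    simpa using isPullback_morphismRestrict b U
  exact MorphismProperty.of_isPullback (P := MorphismProperty.isomorphisms Scheme.{u}) hsq.flip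
    (inferInstanceAs (IsIso (b ∣_ V)))

theorem isIso_restrict_of_isPullback {X' S' : Scheme.{u}} {p₁ : X' ⟶ X} {p₂ : X' ⟶ S'} {f : X ⟶ S}
    {b : S' ⟶ S} (H : IsPullback p₁ p₂ f b) (U : S.Opens) [IsIso (b ∣_ U)] :
    IsIso (p₁ ∣_ (f ⁻¹ᵁ U)) := by
  have h1 := (isPullback_morphismRestrict p₁ (f ⁻¹ᵁ U)).flip.paste_horiz H.flip
  have h2 : IsPullback ((p₁ ⁻¹ᵁ f ⁻¹ᵁ U).ι ≫ p₂) (p₁ ∣_ (f ⁻¹ᵁ U)) b ((f ∣_ U) ≫ U.ι) := by
    rw [morphismRestrict_ι]; exact h1
  have hr : Set.range ((p₁ ⁻¹ᵁ f ⁻¹ᵁ U).ι ≫ p₂) ⊆ Set.range (b ⁻¹ᵁ U).ι := by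
    rw [Scheme.Opens.range_ι]
    rintro _ ⟨z, rfl⟩
    show b (p₂ ((p₁ ⁻¹ᵁ f ⁻¹ᵁ U).ι z)) ∈ U
    rw [← Scheme.Hom.comp_apply p₂, ← H.w, Scheme.Hom.comp_apply]
    exact z.2
  have h3 : IsPullback (IsOpenImmersion.lift (b ⁻¹ᵁ U).ι ((p₁ ⁻¹ᵁ f ⁻¹ᵁ U).ι ≫ p₂) hr)
      (p₁ ∣_ (f ⁻¹ᵁ U)) (b ∣_ U) (f ∣_ U) := by
    refine IsPullback.of_right ?_ ?_ (isPullback_morphismRestrict b U).flip
    · rw [IsOpenImmersion.lift_fac]
      exact h2
    · rw [← cancel_mono U.ι, Category.assoc, Category.assoc, morphismRestrict_ι,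
        IsOpenImmersion.lift_fac_assoc, Category.assoc, ← H.w, morphismRestrict_ι,
        ← morphismRestrict_ι_assoc]
  exact MorphismProperty.of_isPullback (P := MorphismProperty.isomorphisms Scheme.{u}) h3
    (inferInstanceAs (IsIso (b ∣_ U)))

/-- The conclusion of flattening by an admissible blow-up. -/
def FlatteningBy (f : X ⟶ S) (U : S.Opens) : Prop :=
    ∃ (𝓘 : S.IdealSheafData) (S' : Scheme.{u}) (b : S' ⟶ S), BlowUp.IsBlowUp b 𝓘 ∧ BlowUp.IsAdmissibleFor U 𝓘 ∧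
      ∀ (X' : Scheme.{u}) (p₁ : X' ⟶ X) (p₂ : X' ⟶ S'), IsPullback p₁ p₂ f b →
      ∀ (𝒥 : X'.IdealSheafData),
        (∀ (V : X'.affineOpens) (a : Γ(X', V.1)), a ∈ 𝒥.ideal V ↔
          BlowUp.KilledByPowerNear ((𝓘.comap f).comap p₁) (Coh.structureModule X') V a) →
        Flat (𝒥.subschemeι ≫ p₂) ∧ LocallyOfFinitePresentation (𝒥.subschemeι ≫ p₂) ∧
          QuasiCompact (𝒥.subschemeι ≫ p₂) ∧ QuasiSeparated (𝒥.subschemeι ≫ p₂)

theorem exists_square (IS : S.IdealSheafData) (IX : X.IdealSheafData) (hS : BlowUp.IsEffCartierIdeal IS)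
    (f : X ⟶ S) (hf : ModPair.IsMinimal IX IS f) (hflat : FlatteningBy f (ModPair.interior IS)) :
    ∃ (T : Scheme.{u}) (t : T ⟶ S) (Y : Scheme.{u}) (y : Y ⟶ X) (g : Y ⟶ T),
      BlowUp.IsEffCartierIdeal (IS.comap t) ∧ ModPair.IsAdmBlowup (IS.comap t) IS t ∧
        BlowUp.IsEffCartierIdeal (IX.comap y) ∧ ModPair.IsAdmBlowup (IX.comap y) IX y ∧
        y ≫ f = g ≫ t ∧ Flat g ∧ LocallyOfFinitePresentation g ∧ QuasiCompact g ∧
        QuasiSeparated g := by
  obtain ⟨𝓘, S', b, hb, hadm, hX'⟩ := hflat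
  have hle : ModPair.interior IS ≤ ModPair.interior 𝓘 := fun x hx hxI => hadm.2.le_bot ⟨hxI, hx⟩
  haveI := MP99.isIso_restrict_of_isBlowUp b 𝓘 hb
  haveI : IsIso (b ∣_ ModPair.interior IS) := isIso_restrict_of_le b hle
  have hl := MP99.isLocPrincipal_of_isEffCartier hS
  haveI := TorsionIdeal.quasiCompact_interior hl
  haveI := MP99.dominant_of_isEffCartier hS
  haveI := MP99.dominant_preimage_of_isBlowUp b 𝓘 hb hle
  have hbC : BlowUp.IsEffCartierIdeal (IS.comap b) :=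
    MP99.isEffCartier_comap hl b (W := b ⁻¹ᵁ ModPair.interior IS) le_rfl
  haveI : IsProper b := RegImm10.BlowModel.isProper_of_isBlowUp hadm.1 hb
  let p₁ := pullback.fst f b
  let p₂ := pullback.snd f b
  let E := (𝓘.comap f).comap p₁
  have hE : MP99.IsLocPrincipal E := by
    have : E = (𝓘.comap b).comap p₂ := by
      simp only [E, p₁, p₂, ← Scheme.IdealSheafData.comap_comp, pullback.condition]
    rw [this]
    exact MP99.isLocPrincipal_comap (MP99.isLocPrincipal_of_isEffCartier hb.1) _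
  haveI := TorsionIdeal.quasiCompact_interior hE
  let W := ModPair.interior E
  obtain ⟨hg, hgp, hgc, hgs⟩ := hX' _ p₁ p₂ (IsPullback.of_hasPullback f b) W.ι.ker
    (fun V a => TorsionIdeal.mem_ker_iff hE V a)
  let y := W.ι.imageι ≫ p₁
  let g := W.ι.imageι ≫ p₂
  haveI : Flat g := hg
  have hw : y ≫ f = g ≫ b := by simp only [y, g, p₁, p₂, Category.assoc, pullback.condition]
  have hIX : IX.comap y = (IS.comap b).comap g := by
    rw [show IX = IS.comap f from hf, ← Scheme.IdealSheafData.comap_comp,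
      ← Scheme.IdealSheafData.comap_comp, hw]
  refine ⟨S', b, _, y, g, hbC, ⟨rfl, inferInstance, inferInstance⟩, ?_, ⟨rfl, inferInstance, ?_⟩, hw,
    hg, hgp, hgc, hgs⟩
  · rw [hIX]
    exact isEffCartier_comap_of_flat g hbC
  · have hUW : p₁ ⁻¹ᵁ ModPair.interior IX ≤ W := by
      rw [show IX = IS.comap f from hf, MP99.interior_comap]
      intro z hz
      show z ∈ ModPair.interior E
      rw [MP99.interior_comap, MP99.interior_comap]
      exact hle hz
    haveI := MP99.isIso_imageι_restrict W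
    haveI : IsIso (W.ι.imageι ∣_ (p₁ ⁻¹ᵁ ModPair.interior IX)) := isIso_restrict_of_le _ hUW
    haveI : IsIso (p₁ ∣_ ModPair.interior IX) := by
      rw [show IX = IS.comap f from hf, MP99.interior_comap]
      exact isIso_restrict_of_isPullback (IsPullback.of_hasPullback f b) _
    rw [show y ∣_ ModPair.interior IX =
      W.ι.imageι ∣_ (p₁ ⁻¹ᵁ ModPair.interior IX) ≫ p₁ ∣_ ModPair.interior IX from morphismRestrict_comp _ _ _]
    exact IsIso.comp_isIso' ‹_› ‹_›

/-- The conclusion of flattening of a finite type morphism of modulus pairs by admissible blow-ups. -/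
def SquareFlattening (IS : S.IdealSheafData) (IX : X.IdealSheafData) (f : X ⟶ S) : Prop :=
    ∃ (T : Scheme.{u}) (t : T ⟶ S) (Y : Scheme.{u}) (y : Y ⟶ X) (g : Y ⟶ T),
      BlowUp.IsEffCartierIdeal (IS.comap t) ∧ ModPair.IsAdmBlowup (IS.comap t) IS t ∧
        BlowUp.IsEffCartierIdeal (IX.comap y) ∧ ModPair.IsAdmBlowup (IX.comap y) IX y ∧
        y ≫ f = g ≫ t ∧ Flat g ∧ LocallyOfFinitePresentation g ∧ QuasiCompact g ∧
        QuasiSeparated g

theorem refine_of_square {Y Y' : Scheme.{u}} (IX : X.IdealSheafData) (IY : Y.IdealSheafData)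
    (IY' : Y'.IdealSheafData) (u : Y ⟶ X) (hu : ModPair.IsMinimal IY IX u) [Flat u]
    (b : Y' ⟶ Y) (hb : ModPair.IsAdmBlowup IY' IY b) (h : SquareFlattening IX IY' (b ≫ u)) :
    ∃ (X' : Scheme.{u}) (IX' : X'.IdealSheafData) (a : X' ⟶ X) (V : Scheme.{u})
      (IV : V.IdealSheafData) (v : V ⟶ X') (w : V ⟶ Y'),
      BlowUp.IsEffCartierIdeal IX' ∧ ModPair.IsAdmBlowup IX' IX a ∧
        BlowUp.IsEffCartierIdeal IV ∧ ModPair.IsMinimal IV IX' v ∧ Flat v ∧
        LocallyOfFinitePresentation v ∧ QuasiCompact v ∧ QuasiSeparated v ∧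
        ModPair.IsAdmBlowup IV IY' w ∧ w ≫ b ≫ u = v ≫ a ∧
        (Surjective u → Surjective v) := by
  obtain ⟨T, t, V, y, g, hT, ht, hV, hy, hw, hg, hgp, hgc, hgs⟩ := h
  have hm : IY' = IX.comap (b ≫ u) := by
    rw [Scheme.IdealSheafData.comap_comp, ← (hu : IY = IX.comap u)]; exact hb.1
  refine ⟨T, IX.comap t, t, V, IY'.comap y, g, y, hT, ht, hV, ?_, hg, hgp, hgc, hgs, hy, hw, fun hsu => ?_⟩
  · show IY'.comap y = (IX.comap t).comap g
    rw [hm, ← Scheme.IdealSheafData.comap_comp, hw, ← Scheme.IdealSheafData.comap_comp]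
  let π₁ := pullback.fst u t
  let π₂ := pullback.snd u t
  let l : V ⟶ pullback u t := pullback.lift (y ≫ b) g (by rw [Category.assoc, hw])
  haveI : IsProper t := ht.2.1
  haveI : IsProper y := hy.2.1
  haveI : IsProper b := hb.2.1
  haveI : IsIso (t ∣_ ModPair.interior IX) := ht.2.2
  haveI : IsProper (l ≫ π₁) := by
    rw [show l ≫ π₁ = y ≫ b from pullback.lift_fst _ _ _]; infer_instance
  haveI : IsProper l := IsProper.of_comp l π₁
  haveI : IsIso (π₁ ∣_ (u ⁻¹ᵁ ModPair.interior IX)) :=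
    isIso_restrict_of_isPullback (IsPullback.of_hasPullback u t) _
  have hI : ModPair.interior IY = u ⁻¹ᵁ ModPair.interior IX := by
    rw [show IY = IX.comap u from hu, MP99.interior_comap]
  haveI : IsIso (b ∣_ (u ⁻¹ᵁ ModPair.interior IX)) := hI ▸ hb.2.2
  have hI' : ModPair.interior IY' = b ⁻¹ᵁ u ⁻¹ᵁ ModPair.interior IX := by
    rw [show IY' = IY.comap b from hb.1, MP99.interior_comap, hI]
  haveI : IsIso (y ∣_ (b ⁻¹ᵁ u ⁻¹ᵁ ModPair.interior IX)) := hI' ▸ hy.2.2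
  let W : (pullback u t).Opens := π₁ ⁻¹ᵁ u ⁻¹ᵁ ModPair.interior IX
  have hW : (W : Set ↥(pullback u t)) ⊆ Set.range l := by
    intro z hz
    let o : ↥(u ⁻¹ᵁ ModPair.interior IX : Y.Opens) := ⟨π₁ z, hz⟩
    obtain ⟨o₁, ho₁⟩ := (b ∣_ (u ⁻¹ᵁ ModPair.interior IX)).surjective o
    obtain ⟨o₂, ho₂⟩ := (y ∣_ (b ⁻¹ᵁ u ⁻¹ᵁ ModPair.interior IX)).surjective o₁
    refine ⟨o₂.1, ?_⟩
    have hfst : π₁ (l o₂.1) = π₁ z := by
      rw [← Scheme.Hom.comp_apply, show l ≫ π₁ = y ≫ b from pullback.lift_fst _ _ _, Scheme.Hom.comp_apply]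
      have e1 : y o₂.1 = o₁.1 := by simpa using congrArg Subtype.val ho₂
      rw [e1]
      simpa using congrArg Subtype.val ho₁
    have hl : l o₂.1 ∈ W := by
      show π₁ (l o₂.1) ∈ u ⁻¹ᵁ ModPair.interior IX
      rw [hfst]; exact hz
    have := (π₁ ∣_ (u ⁻¹ᵁ ModPair.interior IX)).homeomorph.injective
      (a₁ := ⟨l o₂.1, hl⟩) (a₂ := ⟨z, hz⟩) (Subtype.ext (by simpa using hfst))
    exact congrArg Subtype.val this
  have hC : BlowUp.IsEffCartierIdeal ((IX.comap t).comap π₂) := isEffCartier_comap_of_flat π₂ hT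
  haveI := MP99.dominant_of_isEffCartier hC
  haveI := TorsionIdeal.quasiCompact_interior (MP99.isLocPrincipal_of_isEffCartier hC)
  have hWeq : ModPair.interior ((IX.comap t).comap π₂) = W := by
    rw [← Scheme.IdealSheafData.comap_comp, ← pullback.condition, MP99.interior_comap,
      Scheme.Hom.comp_preimage]
  have hd : DenseRange (ModPair.interior ((IX.comap t).comap π₂)).ι := Scheme.Hom.denseRange _
  rw [DenseRange, Scheme.Opens.range_ι, hWeq] at hd
  have hsurj : Surjective l := ⟨fun z => by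
    have : (Set.univ : Set ↥(pullback u t)) ⊆ Set.range l := by
      rw [← hd.closure_eq]
      exact closure_minimal hW l.isClosedMap.isClosed_range
    exact this trivial⟩
  rw [show g = l ≫ π₂ from (pullback.lift_snd _ _ _).symm]
  infer_instance

end Groth.Agent.ModP1.FlatRefine
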