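import Mathlib
import Groth.Agent.ModP1.FlatRefine
import Groth.Agent.S1273

/-!
Flattening of finite type morphisms of modulus pairs.
-/

set_option autoImplicit false
set_option backward.isDefEq.respectTransparency false
set_option backward.defeqAttrib.useBackward true

universe u

open CategoryTheory CategoryTheory.Limits AlgebraicGeometry TopologicalSpace

namespace Groth.Agent.ModP1.FlatSquare

theorem squareFlattening {X S : Scheme.{u}} [CompactSpace S] [QuasiSeparatedSpace S] [CompactSpace X]
    [QuasiSeparatedSpace X] (IS : S.IdealSheafData) (IX : X.IdealSheafData)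
    (hS : BlowUp.IsEffCartierIdeal IS) (f : X ⟶ S) (hf : ModPair.IsMinimal IX IS f)
    [LocallyOfFiniteType f] [Flat (f ∣_ ModPair.interior IS)]
    [LocallyOfFinitePresentation (f ∣_ ModPair.interior IS)] :
    FlatRefine.SquareFlattening IS IX f := by
  haveI := TorsionIdeal.quasiCompact_interior (MP99.isLocPrincipal_of_isEffCartier hS)
  haveI : QuasiCompact f := quasiCompact_of_compactSpace f
  haveI : QuasiSeparated f := QuasiSeparated.of_quasiSeparatedSpace f
  haveI : CompactSpace (ModPair.interior IS).toScheme :=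
    QuasiCompact.compactSpace_of_compactSpace (ModPair.interior IS).ι
  exact FlatRefine.exists_square IS IX hS f hf
    (Groth.Agent.S1273.result f (ModPair.interior IS) (isCompact_iff_compactSpace.mpr ‹CompactSpace (ModPair.interior IS).toScheme›))

theorem refine {X Y Y' : Scheme.{u}} [CompactSpace X] [QuasiSeparatedSpace X] (IX : X.IdealSheafData)
    (IY : Y.IdealSheafData) (IY' : Y'.IdealSheafData) (hX : BlowUp.IsEffCartierIdeal IX)
    (u : Y ⟶ X) (hu : ModPair.IsMinimal IY IX u) [Flat u] [LocallyOfFinitePresentation u]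
    [QuasiCompact u] [QuasiSeparated u] (b : Y' ⟶ Y) (hb : ModPair.IsAdmBlowup IY' IY b) :
    ∃ (X' : Scheme.{u}) (IX' : X'.IdealSheafData) (a : X' ⟶ X) (V : Scheme.{u})
      (IV : V.IdealSheafData) (v : V ⟶ X') (w : V ⟶ Y'),
      BlowUp.IsEffCartierIdeal IX' ∧ ModPair.IsAdmBlowup IX' IX a ∧
        BlowUp.IsEffCartierIdeal IV ∧ ModPair.IsMinimal IV IX' v ∧ Flat v ∧
        LocallyOfFinitePresentation v ∧ QuasiCompact v ∧ QuasiSeparated v ∧
        ModPair.IsAdmBlowup IV IY' w ∧ w ≫ b ≫ u = v ≫ a ∧
        (Surjective u → Surjective v) := by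
  haveI : IsProper b := hb.2.1
  haveI : CompactSpace Y' := QuasiCompact.compactSpace_of_compactSpace (b ≫ u)
  haveI : QuasiSeparatedSpace Y' := quasiSeparatedSpace_of_quasiSeparated (b ≫ u)
  have hm : IY' = IX.comap (b ≫ u) := by
    rw [Scheme.IdealSheafData.comap_comp, ← (hu : IY = IX.comap u)]; exact hb.1
  have hI : ModPair.interior IY = u ⁻¹ᵁ ModPair.interior IX := by
    rw [show IY = IX.comap u from hu, MP99.interior_comap]
  haveI : IsIso (b ∣_ (u ⁻¹ᵁ ModPair.interior IX)) := hI ▸ hb.2.2
  haveI : Flat (u ∣_ ModPair.interior IX) := inferInstance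
  haveI : IsOpenImmersion (b ∣_ (u ⁻¹ᵁ ModPair.interior IX)) := IsOpenImmersion.of_isIso _
  haveI hfl : Flat (u ∣_ ModPair.interior IX) := IsZariskiLocalAtTarget.restrict ‹Flat u› _
  haveI hfp : LocallyOfFinitePresentation (u ∣_ ModPair.interior IX) :=
    IsZariskiLocalAtTarget.restrict ‹LocallyOfFinitePresentation u› _
  haveI : Flat ((b ≫ u) ∣_ ModPair.interior IX) := by
    rw [morphismRestrict_comp]; infer_instance
  haveI : LocallyOfFinitePresentation ((b ≫ u) ∣_ ModPair.interior IX) := by
    rw [morphismRestrict_comp]; infer_instance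
  exact FlatRefine.refine_of_square IX IY IY' u hu b hb
    (squareFlattening IX IY' hX (b ≫ u) hm)

end Groth.Agent.ModP1.FlatSquare
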