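import Mathlib

/-!
Finite free algebras over a localization descend to finite free algebras.
-/

set_option autoImplicit false

universe u

open IsLocalRing

namespace Groth.Agent.ModP1

/-- A nonzero finite free algebra over a local ring has a basis containing `1`. -/
theorem exists_basis_one {R B : Type u} [CommRing R] [IsLocalRing R] [CommRing B] [Nontrivial B] [Algebra R B]
    [Module.Free R B] [Module.Finite R B] :
    ∃ (ι : Type u) (_ : Fintype ι) (_ : DecidableEq ι) (b : Module.Basis ι R B) (i₀ : ι), b i₀ = 1 := by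
  classical
  let ι := Module.Free.ChooseBasisIndex R B
  let b := Module.Free.chooseBasis R B
  obtain ⟨i₀, hi₀⟩ : ∃ i, IsUnit (b.repr 1 i) := by
    by_contra! h
    have h1 : (⊤ : Submodule R B) ≤ maximalIdeal R • (⊤ : Submodule R B) := fun y _ => by
      rw [← mul_one y, ← b.sum_repr 1, Finset.mul_sum]
      refine Submodule.sum_mem _ fun i _ => ?_
      rw [mul_smul_comm]
      exact Submodule.smul_mem_smul ((mem_maximalIdeal _).2 (h i)) Submodule.mem_top
    have h2 := Submodule.eq_bot_of_le_smul_of_le_jacobson_bot _ _ Module.Finite.fg_top h1 (maximalIdeal_le_jacobson _)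
    exact one_ne_zero ((Submodule.mem_bot R).1 (h2.le (Submodule.mem_top (x := (1 : B)))))
  let φ : B →ₗ[R] B := b.constr R (Function.update b i₀ 1)
  have hφb : ∀ j, φ (b j) = Function.update b i₀ 1 j := fun j => b.constr_basis R _ j
  have hφ : Function.Surjective φ := by
    rw [← LinearMap.range_eq_top, eq_top_iff, ← b.span_eq, Submodule.span_le]
    have hne : ∀ j ≠ i₀, b j ∈ LinearMap.range φ := fun j hj => ⟨b j, by rw [hφb, Function.update_of_ne hj]⟩
    rintro _ ⟨j, rfl⟩
    rcases eq_or_ne j i₀ with rfl | hj
    · obtain ⟨u, hu⟩ := hi₀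
      have h1 : (u : R) • b j ∈ LinearMap.range φ := by
        have h2 := b.sum_repr 1
        rw [← Finset.add_sum_erase _ _ (Finset.mem_univ j), ← hu] at h2
        rw [eq_sub_of_add_eq h2]
        exact sub_mem ⟨b j, by rw [hφb, Function.update_self]⟩
          (Submodule.sum_mem _ fun i hi => Submodule.smul_mem _ _ (hne i (Finset.ne_of_mem_erase hi)))
      have h3 := Submodule.smul_mem _ (↑u⁻¹ : R) h1
      rwa [smul_smul, Units.inv_mul, one_smul] at h3
    · exact hne j hj
  let e := LinearEquiv.ofBijective φ ⟨OrzechProperty.injective_of_surjective_endomorphism φ hφ, hφ⟩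
  refine ⟨ι, inferInstance, inferInstance, b.map e, i₀, ?_⟩
  rw [Module.Basis.map_apply]
  exact (hφb i₀).trans (Function.update_self i₀ 1 b)

/-- Retractions of finite free algebras pass to localizations that are local. -/
theorem exists_retraction_localization {A : Type u} [CommRing A] [IsLocalRing A]
    (h : ∀ (B : Type u) [CommRing B] [Algebra A B] [Module.Finite A B] [Module.Free A B] [Nontrivial B],
      Nonempty (B →ₐ[A] A))
    (M : Submonoid A) (hM : M ≤ nonZeroDivisors A) (L : Type u) [CommRing L] [Algebra A L] [IsLocalization M L]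
    [IsLocalRing L] (B : Type u) [CommRing B] [Algebra L B] [Module.Finite L B] [Module.Free L B] [Nontrivial B] :
    Nonempty (B →ₐ[L] L) := by
  classical
  obtain ⟨ι, _, _, b, i₀, hb₀⟩ := exists_basis_one (R := L) (B := B)
  letI : Algebra A B := ((algebraMap L B).comp (algebraMap A L)).toAlgebra
  haveI : IsScalarTower A L B := IsScalarTower.of_algebraMap_eq fun _ => rfl
  obtain ⟨d, hd⟩ := IsLocalization.exist_integer_multiples_of_finite M
    (fun w : ι × ι × ι => b.repr (b w.1 * b w.2.1) w.2.2)
  choose c hc using hd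
  let dL : L := algebraMap A L d
  let s : ι → L := fun i => if i = i₀ then 1 else dL
  have hs : ∀ i, IsUnit (s i) := fun i => by
    simp only [s]; split_ifs
    · exact isUnit_one
    · exact IsLocalization.map_units L d
  let e : Module.Basis ι L B := b.isUnitSMul hs
  have he : ∀ i, e i = s i • b i := fun i => b.isUnitSMul_apply hs i
  have he₀ : e i₀ = 1 := by rw [he, hb₀]; simp [s]
  have hli : LinearIndependent A e := e.linearIndependent.restrict_scalars
    (fun x y hxy => IsLocalization.injective L hM (by simpa [Algebra.smul_def] using hxy))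
  let S : Submodule A B := Submodule.span A (Set.range e)
  have hprod : ∀ i j, e i * e j ∈ S := by
    intro i j
    by_cases hi : i = i₀
    · subst hi; rw [he₀, one_mul]; exact Submodule.subset_span ⟨j, rfl⟩
    by_cases hj : j = i₀
    · subst hj; rw [he₀, mul_one]; exact Submodule.subset_span ⟨i, rfl⟩
    have h1 : e i * e j = ∑ k, (dL * dL * b.repr (b i * b j) k) • b k := by
      rw [he, he, smul_mul_smul_comm]
      conv_lhs => rw [← b.sum_repr (b i * b j), Finset.smul_sum]
      simp [s, hi, hj, smul_smul]
    rw [h1]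
    refine Submodule.sum_mem _ fun k _ => ?_
    have hck : algebraMap A L (c (i, j, k)) = dL * b.repr (b i * b j) k := (hc (i, j, k)).trans (Algebra.smul_def _ _)
    have h2 : (dL * dL * b.repr (b i * b j) k) • b k =
        (if k = i₀ then (d : A) * c (i, j, k) else c (i, j, k)) • e k := by
      rw [he k, ← smul_assoc, Algebra.smul_def (R := A) (A := L)]
      congr 1
      simp only [s]
      split_ifs with hk
      · rw [map_mul (algebraMap A L), hck, mul_one]; show dL * dL * _ = dL * (dL * _); ring
      · rw [hck]; ring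
    rw [h2]
    exact Submodule.smul_mem _ _ (Submodule.subset_span ⟨k, rfl⟩)
  let B₀ : Subalgebra A B := S.toSubalgebra (he₀ ▸ Submodule.subset_span ⟨i₀, rfl⟩) fun x y hx hy => by
    have h3 : S * S ≤ S := by
      rw [Submodule.span_mul_span, Submodule.span_le]
      rintro _ ⟨_, ⟨i, rfl⟩, _, ⟨j, rfl⟩, rfl⟩
      exact hprod i j
    exact h3 (Submodule.mul_mem_mul hx hy)
  let e₀ : Module.Basis ι A B₀ := Module.Basis.span hli
  have he₀' : ∀ i, ((e₀ i : B₀) : B) = e i := fun i => congrArg Subtype.val (Module.Basis.span_apply hli i)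
  haveI : Module.Finite A B₀ := Module.Finite.of_basis e₀
  haveI : Module.Free A B₀ := Module.Free.of_basis e₀
  obtain ⟨r⟩ := h B₀
  let φ : B →ₗ[L] L := e.constr L fun i => algebraMap A L (r (e₀ i))
  have hφ : ∀ i, φ (e i) = algebraMap A L (r (e₀ i)) := fun i => e.constr_basis L _ i
  have hφS : ∀ x : B₀, φ (x : B) = algebraMap A L (r x) := by
    have h4 : (φ.restrictScalars A).comp B₀.val.toLinearMap = (Algebra.linearMap A L).comp r.toLinearMap :=
      e₀.ext fun i => by
        show φ ((e₀ i : B₀) : B) = algebraMap A L (r (e₀ i))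
        rw [he₀', hφ]
    exact fun x => LinearMap.congr_fun h4 x
  have hone : φ 1 = 1 := by rw [← OneMemClass.coe_one B₀, hφS, map_one, map_one]
  have hmul : ∀ x y, φ (x * y) = φ x * φ y := by
    have h5 : (LinearMap.mul L B).compr₂ φ = (LinearMap.mul L L).compl₁₂ φ φ := e.ext fun i => e.ext fun j => by
      show φ (e i * e j) = φ (e i) * φ (e j)
      rw [hφ, hφ, ← map_mul (algebraMap A L), ← map_mul r, ← hφS, MulMemClass.coe_mul, he₀', he₀']
    exact fun x y => LinearMap.congr_fun (LinearMap.congr_fun h5 x) y
  exact ⟨AlgHom.ofLinearMap φ hone hmul⟩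

end Groth.Agent.ModP1
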