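import Mathlib
import Groth.Agent.ModP1.FinLocal
import Groth.Agent.ModP1.Lattice
import Groth.Agent.Alg80.QuasiSection
import Groth.Agent.Henz21.SchemeFinitePart
import Groth.Agent.Div89.Pullback

/-!
Schemes and modulus pairs local for fppf coverings.
-/

set_option autoImplicit false

universe u

open CategoryTheory CategoryTheory.Limits AlgebraicGeometry TopologicalSpace IsLocalRing Polynomial

namespace Groth.Agent.ModP1

/-- Retractions for finite free algebras. -/
def FreeRetract (A : Type u) [CommRing A] : Prop :=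
  ∀ (B : Type u) [CommRing B] [Algebra A B] [Module.Finite A B] [Module.Free A B] [Nontrivial B],
    Nonempty (B →ₐ[A] A)

theorem FreeRetract.isAIC {A : Type u} [CommRing A] (h : FreeRetract A) : Curves.IsAIC A := by
  intro F hF hdeg
  rcases subsingleton_or_nontrivial A with _ | _
  · exact ⟨0, Subsingleton.elim _ _⟩
  haveI := hF.free_adjoinRoot
  haveI := hF.finite_adjoinRoot
  haveI : Nontrivial (AdjoinRoot F) := by
    refine ⟨⟨0, 1, fun h01 => ?_⟩⟩
    have h1 : F ∣ (1 : A[X]) := AdjoinRoot.mk_eq_zero.1 ((map_one (AdjoinRoot.mk F)).trans h01.symm)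
    exact hF.not_dvd_of_natDegree_lt one_ne_zero (by rw [natDegree_one]; exact hdeg) h1
  obtain ⟨r⟩ := h (AdjoinRoot F)
  refine ⟨r (AdjoinRoot.root F), ?_⟩
  have h1 := congrArg r ((AdjoinRoot.aeval_eq F).trans AdjoinRoot.mk_self)
  rw [map_zero, ← aeval_algHom_apply] at h1
  rwa [← coe_aeval_eq_eval]

theorem henselianLocalRing_of_aic (A : Type u) [CommRing A] [IsLocalRing A] (h : Curves.IsAIC A) :
    HenselianLocalRing A := by
  refine { is_henselian := fun F hF a₀ h₁ h₂ => ?_ }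
  obtain ⟨n, hn⟩ : ∃ n, F.natDegree = n := ⟨_, rfl⟩
  induction n generalizing F with
  | zero =>
    rw [hF.natDegree_eq_zero.1 hn, eval_one] at h₁
    exact absurd ((Ideal.eq_top_iff_one _).2 h₁) (maximalIdeal.isMaximal A).ne_top
  | succ n ih =>
    obtain ⟨r, hr⟩ := h F hF (by omega)
    obtain ⟨G, hG⟩ : X - C r ∣ F := dvd_iff_isRoot.2 hr
    rw [hG, eval_mul, eval_sub, eval_X, eval_C] at h₁
    rcases (maximalIdeal.isMaximal A).isPrime.mem_or_mem h₁ with h3 | h3
    · exact ⟨r, hr, by rw [← neg_sub]; exact neg_mem h3⟩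
    · have hGm : G.Monic := (monic_X_sub_C r).of_mul_monic_left (hG ▸ hF)
      have hGn : G.natDegree = n := by
        have := congrArg natDegree hG
        rw [(monic_X_sub_C r).natDegree_mul hGm, natDegree_X_sub_C] at this
        omega
      have hu : IsUnit (G.derivative.eval a₀) := by
        rw [← notMem_maximalIdeal]
        intro hm
        rw [← notMem_maximalIdeal, hG, derivative_mul, derivative_X_sub_C, one_mul, eval_add, eval_mul] at h₂
        exact h₂ (add_mem h3 (Ideal.mul_mem_left _ _ hm))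
      obtain ⟨x, hx, hxa⟩ := ih G hGm h3 hu hGn
      exact ⟨x, by rw [IsRoot, hG, eval_mul, show eval x G = 0 from hx, mul_zero], hxa⟩

/-- Schemes local for fppf coverings. -/
def SchFppfLocal (S : Scheme.{u}) : Prop :=
  ∀ (X : Scheme.{u}) (R : Presieve X),
    R ∈ Scheme.precoverage (@Flat ⊓ @LocallyOfFinitePresentation ⊓ @QuasiCompact ⊓ @QuasiSeparated) X →
    ∀ g : S ⟶ X, ∃ (Y : Scheme.{u}) (w : Y ⟶ X) (h : S ⟶ Y), R w ∧ h ≫ w = g

theorem SchFppfLocal.freeRetract {S : Scheme.{u}} [IsAffine S] [IsLocalRing Γ(S, ⊤)] (hS : SchFppfLocal S) :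
    FreeRetract Γ(S, ⊤) := by
  intro B _ _ _ _ _
  haveI : Module.FinitePresentation Γ(S, ⊤) B := Module.finitePresentation_of_projective _ _
  haveI : Algebra.FinitePresentation Γ(S, ⊤) B :=
    Algebra.FinitePresentation.of_finitePresentation _ _
  haveI : Flat (specOver S B) := by
    haveI : Flat (Spec.map (CommRingCat.ofHom (algebraMap Γ(S, ⊤) B))) :=
      (HasRingHomProperty.Spec_iff (P := @Flat)).mpr (RingHom.flat_algebraMap_iff.mpr inferInstance)
    exact inferInstanceAs (Flat (_ ≫ _))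
  haveI : LocallyOfFinitePresentation (specOver S B) := by
    haveI : LocallyOfFinitePresentation (Spec.map (CommRingCat.ofHom (algebraMap Γ(S, ⊤) B))) :=
      (HasRingHomProperty.Spec_iff (P := @LocallyOfFinitePresentation)).mpr
        (RingHom.finitePresentation_algebraMap.mpr inferInstance)
    exact inferInstanceAs (LocallyOfFinitePresentation (_ ≫ _))
  haveI := isFinite_specOver S B
  haveI : Algebra.IsIntegral Γ(S, ⊤) B := Algebra.IsIntegral.of_finite _ _
  have hinj : Function.Injective (algebraMap Γ(S, ⊤) B) := FaithfulSMul.algebraMap_injective _ _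
  have hsurj : ∀ x : S, ∃ y, specOver S B y = x := fun x => by
    obtain ⟨-, y, hy⟩ := surjective_of_primes S (fun _ : PUnit.{u+1} => B) (fun p => by
      obtain ⟨P, -, hP, hPc⟩ := Ideal.exists_ideal_over_prime_of_isIntegral p.asIdeal (⊥ : Ideal B)
        (by rw [← RingHom.ker_eq_comap_bot, (RingHom.injective_iff_ker_eq_bot _).1 hinj]; exact bot_le)
      exact ⟨PUnit.unit, ⟨P, hP⟩, hPc⟩) x
    exact ⟨y, hy⟩
  obtain ⟨Y, w, h, hw, hh⟩ := hS S (Presieve.singleton (specOver S B))
    ((Scheme.singleton_mem_precoverage_iff _ (specOver S B)).mpr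
      ⟨hsurj, ⟨⟨‹Flat (specOver S B)›, ‹LocallyOfFinitePresentation (specOver S B)›⟩, inferInstance⟩, inferInstance⟩)
    (𝟙 S)
  cases hw
  exact retraction_of_section S B h hh

/-- Over a henselian local ring with retractions of finite free algebras, fppf families have lifts. -/
theorem exists_lift_fppf {S : Scheme.{u}} [IsAffine S] [HenselianLocalRing Γ(S, ⊤)] (hS : FreeRetract Γ(S, ⊤))
    {X : Scheme.{u}} (g : S ⟶ X) {ι : Type*} (U : ι → Scheme.{u}) (v : ∀ i, U i ⟶ X)
    (hfl : ∀ i, Flat (v i)) (hfp : ∀ i, LocallyOfFinitePresentation (v i))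
    (hsurj : ∀ x : X, ∃ (i : ι) (y : U i), v i y = x) :
    ∃ (i : ι) (h : S ⟶ U i), h ≫ v i = g := by
  let A := Γ(S, ⊤)
  let c : S := S.isoSpec.inv (closedPoint A)
  obtain ⟨i, y, hy⟩ := hsurj (g c)
  haveI := hfl i
  haveI := hfp i
  obtain ⟨z, hz, -⟩ := Scheme.Pullback.exists_preimage_pullback (f := g) (g := v i) c y hy.symm
  let T := pullback g (v i)
  let fT : T ⟶ Spec A := pullback.fst g (v i) ≫ S.isoSpec.hom
  obtain ⟨_, ⟨(V : T.Opens), hV, rfl⟩, hzV, -⟩ :=
    T.isBasis_affineOpens.exists_subset_of_mem_open (Set.mem_univ z) isOpen_univ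
  obtain ⟨z', hz'⟩ : z ∈ Set.range hV.fromSpec := by rw [hV.range_fromSpec]; exact hzV
  let φ := Spec.preimage (hV.fromSpec ≫ fT)
  have hφ : Spec.map φ = hV.fromSpec ≫ fT := Spec.map_preimage _
  letI : Algebra A Γ(T, V) := φ.hom.toAlgebra
  haveI := hV.isOpenImmersion_fromSpec
  haveI : Module.Flat A Γ(T, V) := RingHom.flat_algebraMap_iff.mp
    ((HasRingHomProperty.Spec_iff (P := @Flat)).mp (hφ ▸ inferInstance : Flat (Spec.map φ)))
  haveI : Algebra.FinitePresentation A Γ(T, V) :=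
    (HasRingHomProperty.Spec_iff (P := @LocallyOfFinitePresentation)).mp
      (hφ ▸ inferInstance : LocallyOfFinitePresentation (Spec.map φ))
  obtain ⟨B, _, _, j, hBfp, hBfl, hBqf, q, hq⟩ := Alg80.QuasiSection.exists_quasiSection (A := Γ(T, V))
    (closedPoint A) ⟨z', by
      show Spec.map φ z' = closedPoint A
      rw [hφ]
      show S.isoSpec.hom (pullback.fst g (v i) (hV.fromSpec z')) = closedPoint A
      rw [hz', hz, ← Scheme.Hom.comp_apply, Iso.inv_hom_id]; rfl⟩
  let fB : Spec (CommRingCat.of B) ⟶ Spec (CommRingCat.of A) := Spec.map (CommRingCat.ofHom (algebraMap A B))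
  haveI : LocallyQuasiFinite fB :=
    (HasRingHomProperty.Spec_iff (P := @LocallyQuasiFinite)).mpr (RingHom.quasiFinite_algebraMap.mpr hBqf)
  haveI : Flat fB := (HasRingHomProperty.Spec_iff (P := @Flat)).mpr (RingHom.flat_algebraMap_iff.mpr hBfl)
  haveI : LocallyOfFinitePresentation fB :=
    (HasRingHomProperty.Spec_iff (P := @LocallyOfFinitePresentation)).mpr (RingHom.finitePresentation_algebraMap.mpr hBfp)
  obtain ⟨W, -, hWf, hWc⟩ := Henz21.exists_finitePart (R := A) (f := fB)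
  haveI := hWf
  let fW : (W : Scheme.{u}) ⟶ S := (W.ι ≫ fB) ≫ S.isoSpec.inv
  haveI : IsFinite fW := inferInstance
  haveI : Flat fW := inferInstance
  haveI : LocallyOfFinitePresentation fW := inferInstance
  haveI : IsAffine (W : Scheme.{u}) := isAffine_of_isAffineHom fW
  letI : Algebra A Γ(W, ⊤) := fW.appTop.hom.toAlgebra
  haveI : Module.Finite A Γ(W, ⊤) := RingHom.finite_algebraMap.1 (fW.finite_app ⊤ (isAffineOpen_top S))
  haveI : Module.Flat A Γ(W, ⊤) := RingHom.flat_algebraMap_iff.mp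
    (HasRingHomProperty.appTop (P := @Flat) fW inferInstance)
  haveI : Algebra.FinitePresentation A Γ(W, ⊤) :=
    HasRingHomProperty.appTop (P := @LocallyOfFinitePresentation) fW inferInstance
  haveI : Module.FinitePresentation A Γ(W, ⊤) := Module.FinitePresentation.of_finite_of_finitePresentation A Γ(W, ⊤)
  haveI : Module.Free A Γ(W, ⊤) := Module.free_of_flat_of_isLocalRing
  haveI : Nonempty (W : Scheme.{u}) := ⟨⟨q, hWc q hq⟩⟩
  haveI : Nontrivial Γ(W, ⊤) :=
    ((W : Scheme.{u}).presheaf.germ ⊤ (Classical.arbitrary _) trivial).hom.domain_nontrivial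
  obtain ⟨r⟩ := hS Γ(W, ⊤)
  let s : S ⟶ (W : Scheme.{u}) :=
    S.isoSpec.hom ≫ Spec.map (CommRingCat.ofHom r.toRingHom) ≫ (W : Scheme.{u}).isoSpec.inv
  have hs : s ≫ fW = 𝟙 S := by
    simp only [s, Category.assoc]
    have e : fW.appTop ≫ CommRingCat.ofHom r.toRingHom = 𝟙 Γ(S, ⊤) :=
      CommRingCat.hom_ext (RingHom.ext r.commutes)
    have e2 : Spec.map (CommRingCat.ofHom r.toRingHom) ≫ Spec.map fW.appTop = 𝟙 (Spec Γ(S, ⊤)) := by
      rw [← Spec.map_comp, ← Spec.map_id]
      exact congrArg Spec.map e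
    rw [← Scheme.isoSpec_inv_naturality, reassoc_of% e2]
    exact S.isoSpec.hom_inv_id
  let h₁ : S ⟶ T := s ≫ W.ι ≫ Spec.map (CommRingCat.ofHom j.toRingHom) ≫ hV.fromSpec
  have h₁e : h₁ ≫ pullback.fst g (v i) = 𝟙 S := by
    have e1 : Spec.map (CommRingCat.ofHom j.toRingHom) ≫ hV.fromSpec ≫ fT = fB := by
      rw [← hφ, ← Spec.map_comp]
      exact congrArg Spec.map (CommRingCat.hom_ext (RingHom.ext j.commutes))
    rw [← cancel_mono S.isoSpec.hom, Category.id_comp, Category.assoc]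
    show h₁ ≫ fT = _
    simp only [h₁, Category.assoc]
    rw [e1]
    have h2 := congrArg (fun φ : S ⟶ S => φ ≫ S.isoSpec.hom) hs
    simp only [fW, Category.assoc, Iso.inv_hom_id, Category.comp_id, Category.id_comp] at h2
    exact h2
  exact ⟨i, h₁ ≫ pullback.snd g (v i), by
    rw [Category.assoc, ← pullback.condition, ← Category.assoc, h₁e, Category.id_comp]⟩

theorem schFppfLocal_of_freeRetract {S : Scheme.{u}} [IsAffine S] [IsLocalRing Γ(S, ⊤)]
    (hS : FreeRetract Γ(S, ⊤)) : SchFppfLocal S := by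
  intro X R hR g
  haveI := henselianLocalRing_of_aic _ hS.isAIC
  obtain ⟨ι, U, v, rfl⟩ := R.exists_eq_ofArrows
  rw [Scheme.ofArrows_mem_precoverage_iff] at hR
  obtain ⟨i, h, hh⟩ := exists_lift_fppf hS g U v (fun i => (hR.2 i).1.1.1) (fun i => (hR.2 i).1.1.2) hR.1
  exact ⟨U i, v i, h, ⟨i⟩, hh⟩

/-- Local for fppf coverings of modulus pairs. -/
def FppfLocal (P : ModPair.Pair.{u}) : Prop :=
  ∀ (X : ModPair.Pair.{u}) (ι : Type u) (U : ι → ModPair.Pair.{u}) (v : ∀ i, U i ⟶ X),
    (∀ i, ModPair.IsMinimal (U i).mod X.mod (v i).hom ∧ Flat (v i).hom ∧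
      LocallyOfFinitePresentation (v i).hom ∧ QuasiCompact (v i).hom ∧
      QuasiSeparated (v i).hom) →
    (∀ x : X.total, ∃ (i : ι) (y : (U i).total), (v i).hom.base y = x) →
    ∀ g : P ⟶ X, ∃ (i : ι) (h : P ⟶ U i), h ≫ v i = g

variable {P : ModPair.Pair.{u}}

theorem FppfLocal.zarLocal (hP : FppfLocal P) : ZarLocal P := by
  intro X ι U v hv hs g
  refine hP X ι U v (fun i => ?_) hs g
  obtain ⟨h1, h2, h3⟩ := hv i
  haveI := h2
  exact ⟨h1, inferInstance, inferInstance, h3, inferInstance⟩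

theorem zarLocal_of_schFppfLocal (hP : SchFppfLocal P.total) : ZarLocal P := by
  intro X ι U v hv hsurj g
  obtain ⟨Y, w, h, hw, hh⟩ := hP X.total (Presieve.ofArrows (fun i => (U i).total) fun i => (v i).hom) (by
    rw [Scheme.ofArrows_mem_precoverage_iff]
    refine ⟨hsurj, fun i => ?_⟩
    haveI := (hv i).2.1
    exact ⟨⟨⟨inferInstance, inferInstance⟩, (hv i).2.2⟩, inferInstance⟩) g.hom
  obtain ⟨i⟩ := hw
  exact ⟨i, liftMinimal (v i) (hv i).1 g h hh, ModPair.Pair.Hom.ext hh⟩

theorem fppfLocal_of_schFppfLocal (hP : SchFppfLocal P.total) : FppfLocal P := by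
  intro X ι U v hv hsurj g
  obtain ⟨Y, w, h, hw, hh⟩ := hP X.total (Presieve.ofArrows (fun i => (U i).total) fun i => (v i).hom) (by
    rw [Scheme.ofArrows_mem_precoverage_iff]
    refine ⟨hsurj, fun i => ⟨⟨⟨(hv i).2.1, (hv i).2.2.1⟩, (hv i).2.2.2.1⟩, (hv i).2.2.2.2⟩⟩) g.hom
  obtain ⟨i⟩ := hw
  exact ⟨i, liftMinimal (v i) (hv i).1 g h hh, ModPair.Pair.Hom.ext hh⟩

theorem FppfLocal.schFppfLocal (hP : FppfLocal P) : SchFppfLocal P.total := by
  intro X R hR g
  obtain ⟨hsurj, hprop⟩ := hR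
  have key : ∀ x : P.total, ∃ (Y' : Scheme.{u}) (w' : Y' ⟶ X), R w' ∧ g x ∈ Set.range w' := fun x => by
    have h' := hsurj (g x)
    obtain ⟨_, _, ⟨hw'⟩, hy⟩ := h'
    exact ⟨_, _, hw', hy⟩
  choose Y w hw hx using key
  haveI hp : ∀ x, Flat (w x) ∧ LocallyOfFinitePresentation (w x) ∧ QuasiCompact (w x) ∧ QuasiSeparated (w x) :=
    fun x => ⟨(hprop (hw x)).1.1.1, (hprop (hw x)).1.1.2, (hprop (hw x)).1.2, (hprop (hw x)).2⟩
  haveI : ∀ x, Flat (w x) := fun x => (hp x).1
  let U : P.total → ModPair.Pair.{u} := fun x =>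
    ⟨pullback g (w x), P.mod.comap (pullback.fst g (w x)), Div89.isEffCartier_comap_of_flat _ P.isEffCartier⟩
  let v : ∀ x, U x ⟶ P := fun x => ⟨pullback.fst g (w x), le_refl _⟩
  obtain ⟨x, h, hh⟩ := hP P P.total U v (fun x => by
      obtain ⟨h1, h2, h3, h4⟩ := hp x
      haveI := h2; haveI := h3; haveI := h4
      exact ⟨rfl, inferInstanceAs (Flat (pullback.fst g (w x))),
        inferInstanceAs (LocallyOfFinitePresentation (pullback.fst g (w x))),
        inferInstanceAs (QuasiCompact (pullback.fst g (w x))),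
        inferInstanceAs (QuasiSeparated (pullback.fst g (w x)))⟩)
    (fun x => by
      obtain ⟨y, hy⟩ := hx x
      obtain ⟨z, hz, -⟩ := Scheme.Pullback.exists_preimage_pullback (f := g) (g := w x) x y hy.symm
      exact ⟨x, z, hz⟩) (𝟙 P)
  have e : h.hom ≫ pullback.fst g (w x) = 𝟙 P.total := congrArg ModPair.Pair.Hom.hom hh
  exact ⟨Y x, w x, h.hom ≫ pullback.snd g (w x), hw x, by
    rw [Category.assoc, ← pullback.condition, ← Category.assoc, e, Category.id_comp]⟩

theorem fppfLocal_blowLocal_iff (P : ModPair.Pair.{u}) [QuasiSeparatedSpace P.total] :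
    (FppfLocal P ∧ BlowLocal P) ↔
    (SchFppfLocal P.total ∧ SchFppfLocal (ModPair.interior P.mod : Scheme.{u}) ∧
      IsAffine (ModPair.interior P.mod : Scheme.{u}) ∧
      IsLocalRing Γ((ModPair.interior P.mod : Scheme.{u}), ⊤) ∧
      ∀ p : (ModPair.interior P.mod : Scheme.{u}),
        IsClosed ({p} : Set (ModPair.interior P.mod : Scheme.{u})) →
          ValuationRing (Γ(P.total, ⊤) ⧸ primeAt P p) ∧
          IsAlgClosed (FractionRing (Γ(P.total, ⊤) ⧸ primeAt P p)) ∧
          Set.BijOn (algebraMap Γ(P.total, ⊤) (Localization.AtPrime (primeAt P p)))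
            (primeAt P p : Set Γ(P.total, ⊤))
            (IsLocalRing.maximalIdeal (Localization.AtPrime (primeAt P p)) :
              Set (Localization.AtPrime (primeAt P p)))) := by
  constructor
  · rintro ⟨hF, hb⟩
    obtain ⟨hA, hL⟩ := hF.zarLocal.affine_local
    have hS := hF.schFppfLocal
    have hfr := hS.freeRetract
    obtain ⟨hA', hL', hG⟩ := conditions_of_blowLocal hb
    obtain ⟨f, q, hf, hint, H⟩ := semiVal_of_blowLocal hb
    letI := ((P.total.presheaf.map (homOfLE le_top).op ≫ (ModPair.interior P.mod).topIso.inv).hom).toAlgebra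
    haveI := isLocalization_interior hint
    refine ⟨hS, schFppfLocal_of_freeRetract fun B _ _ _ _ _ => ?_, hA', hL',
      fun p hp => ⟨(hG p hp).1, isAlgClosed_fractionRing (isAIC_quotient hfr.isAIC _), (hG p hp).2⟩⟩
    exact exists_retraction_localization hfr (Submonoid.powers f) (Submonoid.powers_le.2 hf) _ B
  · rintro ⟨hS, -, hA', hL', hc⟩
    obtain ⟨hA, hL⟩ := (zarLocal_of_schFppfLocal hS).affine_local
    exact ⟨fppfLocal_of_schFppfLocal hS,
      blowLocal_of_conditions hA' hL' fun p hp => ⟨(hc p hp).1, (hc p hp).2.2⟩⟩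

end Groth.Agent.ModP1
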