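import Mathlib
import Groth.Agent.Alg80.QuasiSection
import Groth.Agent.Unr55.FinitePart

/-!
Fppf coverings are refined by étale morphisms with trivial residue extensions followed by finite
flat surjections.
-/

set_option autoImplicit false

universe u

open CategoryTheory CategoryTheory.Limits AlgebraicGeometry TopologicalSpace

namespace Groth.Agent.ModP1

theorem residueFieldMap_isIso {X Y : Scheme.{u}} (f : X ⟶ Y) [IsOpenImmersion f] (x : X) :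
    IsIso (f.residueFieldMap x) := inferInstance

theorem exists_refinement_at {X W : Scheme.{u}} (w : W ⟶ X) [Flat w] [LocallyOfFinitePresentation w]
    (y : W) :
    ∃ (U V : Scheme.{u}) (u : U ⟶ X) (v : V ⟶ U) (r : V ⟶ W) (z : U),
      Etale u ∧ u z = w y ∧ IsIso (u.residueFieldMap z) ∧
      IsFinite v ∧ Flat v ∧ Surjective v ∧ r ≫ w = v ≫ u := by
  obtain ⟨_, ⟨X₀, hX₀, rfl⟩, hxX, -⟩ :=
    X.isBasis_affineOpens.exists_subset_of_mem_open (Set.mem_univ (w y)) isOpen_univ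
  obtain ⟨_, ⟨W₀, hW₀, rfl⟩, hyW, hle : W₀ ≤ w ⁻¹ᵁ X₀⟩ :=
    W.isBasis_affineOpens.exists_subset_of_mem_open hxX (w ⁻¹ᵁ X₀).2
  let φ := w.appLE X₀ W₀ hle
  letI : Algebra Γ(X, X₀) Γ(W, W₀) := φ.hom.toAlgebra
  haveI : Module.Flat Γ(X, X₀) Γ(W, W₀) := RingHom.flat_algebraMap_iff.mp
    (HasRingHomProperty.appLE (P := @Flat) w inferInstance ⟨X₀, hX₀⟩ ⟨W₀, hW₀⟩ hle)
  haveI : Algebra.FinitePresentation Γ(X, X₀) Γ(W, W₀) :=
    HasRingHomProperty.appLE (P := @LocallyOfFinitePresentation) w inferInstance ⟨X₀, hX₀⟩ ⟨W₀, hW₀⟩ hle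
  let q₀ : ↥(Spec Γ(W, W₀)) := hW₀.primeIdealOf ⟨y, hyW⟩
  obtain ⟨B, _, _, jB, hBfp, hBfl, hBqf, q, hq⟩ :=
    Alg80.QuasiSection.exists_quasiSection (R := Γ(X, X₀)) (A := Γ(W, W₀)) (Spec.map φ q₀) ⟨q₀, rfl⟩
  let fB : Spec (CommRingCat.of B) ⟶ Spec (CommRingCat.of Γ(X, X₀)) :=
    Spec.map (CommRingCat.ofHom (algebraMap Γ(X, X₀) B))
  haveI : LocallyQuasiFinite fB :=
    (HasRingHomProperty.Spec_iff (P := @LocallyQuasiFinite)).mpr (RingHom.quasiFinite_algebraMap.mpr hBqf)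
  haveI : Flat fB := (HasRingHomProperty.Spec_iff (P := @Flat)).mpr (RingHom.flat_algebraMap_iff.mpr hBfl)
  haveI : LocallyOfFinitePresentation fB :=
    (HasRingHomProperty.Spec_iff (P := @LocallyOfFinitePresentation)).mpr (RingHom.finitePresentation_algebraMap.mpr hBfp)
  haveI := hX₀.isOpenImmersion_fromSpec
  let f : Spec (CommRingCat.of B) ⟶ X := fB ≫ hX₀.fromSpec
  let r₀ : Spec (CommRingCat.of B) ⟶ W := Spec.map (CommRingCat.ofHom jB.toRingHom) ≫ hW₀.fromSpec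
  have hr₀ : r₀ ≫ w = f := by
    have e : φ ≫ CommRingCat.ofHom jB.toRingHom = CommRingCat.ofHom (algebraMap Γ(X, X₀) B) :=
      CommRingCat.hom_ext (RingHom.ext jB.commutes)
    simp only [r₀, f, fB, Category.assoc, ← IsAffineOpen.SpecMap_appLE_fromSpec w hX₀ hW₀ hle,
      ← Spec.map_comp_assoc]
    exact congrArg (fun m => Spec.map m ≫ hX₀.fromSpec) e
  have hfq : f q = w y := by
    show hX₀.fromSpec (fB q) = _
    rw [show fB q = Spec.map φ q₀ from hq, ← Scheme.Hom.comp_apply,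
      IsAffineOpen.SpecMap_appLE_fromSpec w hX₀ hW₀ hle, Scheme.Hom.comp_apply]
    exact congrArg w (hW₀.fromSpec_primeIdealOf ⟨y, hyW⟩)
  obtain ⟨U, g, z, hg, hgz, hiso, V₁, -, t, -, htV, hfin, -, htz⟩ :=
    Unr55.exists_etale_isCompl_residueIso f q (f.quasiFiniteAt q)
  haveI := hg
  haveI := hfin
  let v₁ : (V₁ : Scheme.{u}) ⟶ U := V₁.ι ≫ pullback.snd f g
  haveI : Flat v₁ := inferInstance
  haveI : LocallyOfFinitePresentation v₁ := inferInstance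
  let U' : U.Opens := ⟨Set.range v₁, v₁.isOpenMap.isOpen_range⟩
  have hz : z ∈ U' := ⟨⟨t, htV⟩, htz⟩
  haveI : Surjective (v₁ ∣_ U') := ⟨fun x => by
    obtain ⟨a, ha⟩ := x.2
    refine ⟨⟨a, show v₁ a ∈ U' by rw [ha]; exact x.2⟩, Subtype.ext ?_⟩
    exact (morphismRestrict_base_coe v₁ U' _).trans ha⟩
  refine ⟨U', (v₁ ⁻¹ᵁ U' : Scheme.{u}), U'.ι ≫ g, v₁ ∣_ U',
    (v₁ ⁻¹ᵁ U').ι ≫ V₁.ι ≫ pullback.fst f g ≫ r₀, ⟨z, hz⟩, inferInstance, hgz.trans hfq, ?_,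
    inferInstance, inferInstance, inferInstance, ?_⟩
  · rw [Scheme.residueFieldMap_comp]
    haveI : IsIso (g.residueFieldMap (U'.ι ⟨z, hz⟩)) := hiso
    exact @IsIso.comp_isIso _ _ _ _ _ _ _ hiso (residueFieldMap_isIso U'.ι ⟨z, hz⟩)
  · rw [morphismRestrict_ι_assoc]
    simp only [v₁, Category.assoc, hr₀, pullback.condition]

theorem fppf_refinement {X : Scheme.{u}} {ι : Type u} (W : ι → Scheme.{u}) (w : ∀ j, W j ⟶ X)
    (hw : Presieve.ofArrows W w ∈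
      Scheme.precoverage (@Flat ⊓ @LocallyOfFinitePresentation ⊓ @QuasiCompact ⊓ @QuasiSeparated) X) :
    ∃ (κ : Type u) (U V : κ → Scheme.{u}) (u : ∀ k, U k ⟶ X) (v : ∀ k, V k ⟶ U k),
      (∀ k, Etale (u k)) ∧
        (∀ x : X, ∃ (k : κ) (y : U k), (u k).base y = x ∧ IsIso ((u k).residueFieldMap y)) ∧
        (∀ k, IsFinite (v k) ∧ Flat (v k) ∧ Surjective (v k)) ∧
        ∀ k, ∃ (j : ι) (r : V k ⟶ W j), r ≫ w j = v k ≫ u k := by
  rw [Scheme.ofArrows_mem_precoverage_iff] at hw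
  have key : ∀ x : X, ∃ (U V : Scheme.{u}) (g : U ⟶ X) (v : V ⟶ U) (j : ι) (r : V ⟶ W j) (z : U),
      Etale g ∧ g z = x ∧ IsIso (g.residueFieldMap z) ∧
      IsFinite v ∧ Flat v ∧ Surjective v ∧ r ≫ w j = v ≫ g := fun x => by
    obtain ⟨j, y, rfl⟩ := hw.1 x
    haveI := (hw.2 j).1.1.1
    haveI := (hw.2 j).1.1.2
    obtain ⟨U, V, g, v, r, z, h⟩ := exists_refinement_at (w j) y
    exact ⟨U, V, g, v, j, r, z, h⟩
  choose U V g v j r z h1 h2 h3 h4 h5 h6 h7 using key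
  exact ⟨X, U, V, g, v, h1, fun x => ⟨x, z x, h2 x, h3 x⟩, fun k => ⟨h4 k, h5 k, h6 k⟩,
    fun k => ⟨j k, r k, h7 k⟩⟩

end Groth.Agent.ModP1
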