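import Mathlib
import Groth.Agent.FlatMor68.IsoLocus

/-!
The open locus over which the base change of a morphism of proper schemes is an isomorphism.
-/

set_option autoImplicit false

universe u

open CategoryTheory CategoryTheory.Limits AlgebraicGeometry TopologicalSpace

namespace Groth.Agent.ModP1.IsoBC

variable {S S' S'' : Scheme.{u}} {X Y : Over S} (f : X ⟶ Y)

/-- The base change of a morphism of `S`-schemes. -/
noncomputable def bc (φ : S' ⟶ S) : pullback X.hom φ ⟶ pullback Y.hom φ :=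
  ((Over.pullback φ).map f).left

theorem bc_fst (φ : S' ⟶ S) : bc f φ ≫ pullback.fst Y.hom φ = pullback.fst X.hom φ ≫ f.left :=
  pullback.lift_fst _ _ _

theorem bc_snd (φ : S' ⟶ S) : bc f φ ≫ pullback.snd Y.hom φ = pullback.snd X.hom φ :=
  pullback.lift_snd _ _ _

theorem isPullback_bc (φ : S' ⟶ S) :
    IsPullback (bc f φ) (pullback.fst X.hom φ) (pullback.fst Y.hom φ) f.left := by
  refine (IsPullback.of_right (t := (IsPullback.of_hasPullback Y.hom φ).flip) ?_ (bc_fst f φ))
  rw [bc_snd, Over.w]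
  exact (IsPullback.of_hasPullback X.hom φ).flip

theorem isIso_bc_of_range (V : Y.left.Opens) [IsIso (f.left ∣_ V)] (φ : S' ⟶ S)
    (h : ∀ z : ↥(pullback Y.hom φ), pullback.fst Y.hom φ z ∈ V) : IsIso (bc f φ) := by
  let l := IsOpenImmersion.lift V.ι (pullback.fst Y.hom φ) (by
    rintro _ ⟨z, rfl⟩
    rw [Scheme.Opens.range_ι]
    exact h z)
  have hl : l ≫ V.ι = pullback.fst Y.hom φ := IsOpenImmersion.lift_fac _ _ _
  haveI : IsIso (pullback.snd (f.left ∣_ V) l) := inferInstance
  have sq := (IsPullback.of_hasPullback (f.left ∣_ V) l).paste_horiz (isPullback_morphismRestrict f.left V).flip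
  rw [hl] at sq
  have e := (isPullback_bc f φ).flip.isoPullback_hom_snd
  rw [← e, ← sq.isoPullback_inv_snd]
  infer_instance

/-- A base change of `bc`. -/
theorem isPullback_bc_comp (φ : S' ⟶ S) (a : S'' ⟶ S') (ψ : S'' ⟶ S) (e : a ≫ φ = ψ) :
    ∃ (pX : pullback X.hom ψ ⟶ pullback X.hom φ) (pY : pullback Y.hom ψ ⟶ pullback Y.hom φ),
      IsPullback pY (pullback.snd Y.hom ψ) (pullback.snd Y.hom φ) a ∧
      IsPullback (bc f ψ) pX pY (bc f φ) := by
  subst e
  let pY : pullback Y.hom (a ≫ φ) ⟶ pullback Y.hom φ :=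
    pullback.lift (pullback.fst _ _) (pullback.snd _ _ ≫ a) (by rw [Category.assoc, pullback.condition])
  let pX : pullback X.hom (a ≫ φ) ⟶ pullback X.hom φ :=
    pullback.lift (pullback.fst _ _) (pullback.snd _ _ ≫ a) (by rw [Category.assoc, pullback.condition])
  refine ⟨pX, pY, ?_, ?_⟩
  · refine IsPullback.of_right (t := IsPullback.of_hasPullback Y.hom φ) ?_ (pullback.lift_snd _ _ _)
    rw [pullback.lift_fst]
    exact IsPullback.of_hasPullback Y.hom (a ≫ φ)
  · refine IsPullback.of_bot ?_ ?_ (isPullback_bc f φ)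
    · rw [pullback.lift_fst, pullback.lift_fst]
      exact isPullback_bc f (a ≫ φ)
    · ext
      · simp only [Category.assoc, bc_fst, pX, pY, pullback.lift_fst, pullback.lift_fst_assoc]
      · simp only [Category.assoc, bc_snd, pX, pY, pullback.lift_snd, reassoc_of% (bc_snd f (a ≫ φ))]

theorem isIso_bc_comp (φ : S' ⟶ S) (a : S'' ⟶ S') (ψ : S'' ⟶ S) (e : a ≫ φ = ψ) [IsIso (bc f φ)] :
    IsIso (bc f ψ) := by
  obtain ⟨pX, pY, -, h⟩ := isPullback_bc_comp f φ a ψ e
  exact MorphismProperty.of_isPullback (P := MorphismProperty.isomorphisms Scheme.{u}) h.flip ‹_›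

theorem isIso_bc_descend (φ : S' ⟶ S) (a : S'' ⟶ S') (ψ : S'' ⟶ S) (e : a ≫ φ = ψ)
    [Surjective a] [Flat a] [QuasiCompact a] [IsIso (bc f ψ)] :
    IsIso (bc f φ) := by
  obtain ⟨pX, pY, hp, h⟩ := isPullback_bc_comp f φ a ψ e
  exact MorphismProperty.of_isPullback_of_descendsAlong (P := MorphismProperty.isomorphisms Scheme.{u})
    (Q := @Surjective ⊓ @Flat ⊓ @QuasiCompact) h
    ⟨⟨MorphismProperty.of_isPullback hp.flip ‹Surjective a›,
      MorphismProperty.of_isPullback hp.flip ‹Flat a›⟩,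
      MorphismProperty.of_isPullback hp.flip ‹QuasiCompact a›⟩ ‹IsIso (bc f ψ)›

theorem exists_open [IsLocallyNoetherian S] [IsProper X.hom] [IsProper Y.hom] [Flat X.hom] :
    ∃ S₀ : S.Opens, ∀ (S' : Scheme.{u}) [IsLocallyNoetherian S'] (h : S' ⟶ S),
      Set.range h ⊆ (S₀ : Set S) ↔ IsIso ((Over.pullback h).map f).left := by
  haveI : LocallyOfFinitePresentation X.hom :=
    (LocallyOfFinitePresentation.iff_locallyOfFiniteType).2 inferInstance
  haveI : LocallyOfFinitePresentation Y.hom :=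
    (LocallyOfFinitePresentation.iff_locallyOfFiniteType).2 inferInstance
  obtain ⟨U, hU, hiso⟩ := FlatMor68.IsoLocus.t10888 f.left Y.hom X.hom (Over.w f)
  haveI := hiso
  refine ⟨U, fun S' _ h => ⟨fun hr => ?_, ?_⟩⟩
  · refine isIso_bc_of_range f (Y.hom ⁻¹ᵁ U) h fun z => ?_
    show Y.hom (pullback.fst Y.hom h z) ∈ U
    rw [← Scheme.Hom.comp_apply, pullback.condition, Scheme.Hom.comp_apply]
    exact hr ⟨_, rfl⟩
  · rintro hbc _ ⟨s', rfl⟩
    haveI : IsIso (bc f h) := hbc
    let ψ : Spec (S'.residueField s') ⟶ S := S'.fromSpecResidueField s' ≫ h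
    haveI : IsIso (bc f ψ) := isIso_bc_comp f h _ ψ rfl
    haveI : Surjective (Spec.map (h.residueFieldMap s')) :=
      ⟨fun _ => ⟨IsLocalRing.closedPoint _, Subsingleton.elim _ _⟩⟩
    haveI : Flat (Spec.map (h.residueFieldMap s')) := by
      rw [HasRingHomProperty.Spec_iff (P := @Flat)]
      letI := (h.residueFieldMap s').hom.toAlgebra
      exact (RingHom.flat_algebraMap_iff (R := S.residueField (h s')) (S := S'.residueField s')).2 inferInstance
    haveI : IsIso (bc f (S.fromSpecResidueField (h s'))) :=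
      isIso_bc_descend f _ (Spec.map (h.residueFieldMap s')) ψ
        (h.SpecMap_residueFieldMap_fromSpecResidueField s')
    exact (hU (h s')).2 ⟨@asIso _ _ _ _ (bc f (S.fromSpecResidueField (h s'))) ‹_›, bc_fst f _⟩

end Groth.Agent.ModP1.IsoBC
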