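import Groth.Agent.MS97.Hilb
import Groth.Agent.ModP1.IsoBC
import Groth.Prelude.Def_Flatn

/-!
The morphism scheme as the open locus of graphs in the Hilbert scheme of `X ×_S Y`.
-/

set_option autoImplicit false

universe u

open CategoryTheory CategoryTheory.Limits AlgebraicGeometry Opposite

namespace Groth.Agent.ModP1.HilbGraph

variable {X Y S : Scheme.{u}} (gX : X ⟶ S) (gY : Y ⟶ S)

local notation "pp" => pullback.fst gX gY ≫ gX

/-- Forget the coordinate in `Y`. -/
noncomputable def proj (T : Over S) : PicF.XT pp T ⟶ pullback T.hom gX :=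
  pullback.lift (pullback.snd pp T.hom) (pullback.fst pp T.hom ≫ pullback.fst gX gY)
    (by rw [Category.assoc]; exact (pullback.condition (f := pp) (g := T.hom)).symm)

theorem proj_fst (T : Over S) : proj gX gY T ≫ pullback.fst T.hom gX = pullback.snd pp T.hom :=
  pullback.lift_fst _ _ _

theorem proj_snd (T : Over S) :
    proj gX gY T ≫ pullback.snd T.hom gX = pullback.fst pp T.hom ≫ pullback.fst gX gY :=
  pullback.lift_snd _ _ _

instance [IsSeparated gX] [IsSeparated gY] (T : Over S) : IsSeparated (proj gX gY T) := by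
  haveI : IsSeparated (proj gX gY T ≫ pullback.fst T.hom gX) := by
    rw [proj_fst]; infer_instance
  exact IsSeparated.of_comp (proj gX gY T) (pullback.fst T.hom gX)

/-- The graph. -/
noncomputable def graph (T : Over S) (a : (Flatn.morS gX gY).obj (op T)) :
    pullback T.hom gX ⟶ PicF.XT pp T :=
  pullback.lift
    (pullback.lift (pullback.snd T.hom gX) a.left (Over.w a).symm)
    (pullback.fst T.hom gX)
    ((pullback.lift_fst_assoc _ _ _ _).trans pullback.condition.symm)

theorem graph_proj (T : Over S) (a : (Flatn.morS gX gY).obj (op T)) :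
    graph gX gY T a ≫ proj gX gY T = 𝟙 _ := by
  apply pullback.hom_ext
  · rw [Category.assoc, proj_fst, Category.id_comp]
    exact pullback.lift_snd _ _ _
  · rw [Category.assoc, proj_snd, Category.id_comp, ← Category.assoc]
    exact (congrArg (· ≫ pullback.fst gX gY) (pullback.lift_fst _ _ _)).trans (pullback.lift_fst _ _ _)

theorem graph_fst_snd (T : Over S) (a : (Flatn.morS gX gY).obj (op T)) :
    graph gX gY T a ≫ pullback.fst pp T.hom ≫ pullback.snd gX gY = a.left := by
  rw [← Category.assoc]
  exact (congrArg (· ≫ pullback.snd gX gY) (pullback.lift_fst _ _ _)).trans (pullback.lift_snd _ _ _)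

/-- The morphism classified by a section of the projection. -/
noncomputable def ofSection (T : Over S) (s : pullback T.hom gX ⟶ PicF.XT pp T)
    (hs : s ≫ proj gX gY T = 𝟙 _) : (Flatn.morS gX gY).obj (op T) :=
  Over.homMk (s ≫ pullback.fst pp T.hom ≫ pullback.snd gX gY) (by
    have h := congrArg (fun x => x ≫ pullback.snd T.hom gX ≫ gX) hs
    simp only [Category.assoc, reassoc_of% (proj_snd gX gY T)] at h
    show (s ≫ pullback.fst pp T.hom ≫ pullback.snd gX gY) ≫ gY = pullback.snd T.hom gX ≫ gX
    rw [Category.assoc, Category.assoc, ← pullback.condition, h, Category.id_comp])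

theorem graph_ofSection (T : Over S) (s : pullback T.hom gX ⟶ PicF.XT pp T)
    (hs : s ≫ proj gX gY T = 𝟙 _) : graph gX gY T (ofSection gX gY T s hs) = s := by
  apply pullback.hom_ext
  · refine (pullback.lift_fst _ _ _).trans ?_
    apply pullback.hom_ext
    · rw [pullback.lift_fst, Category.assoc, ← proj_snd, reassoc_of% hs]
    · rw [pullback.lift_snd, Category.assoc]
      rfl
  · refine (pullback.lift_snd _ _ _).trans ?_
    rw [← proj_fst gX gY T, reassoc_of% hs]

variable [IsSeparated gX] [IsSeparated gY]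

instance (T : Over S) (a : (Flatn.morS gX gY).obj (op T)) : IsClosedImmersion (graph gX gY T a) := by
  haveI : IsClosedImmersion (graph gX gY T a ≫ proj gX gY T) := by
    rw [graph_proj]; infer_instance
  exact IsClosedImmersion.of_comp _ (proj gX gY T)

/-- The graph as a member of the Hilbert set. -/
noncomputable def graphSet [IsProper gX] [Flat gX] (T : Over S) (a : (Flatn.morS gX gY).obj (op T)) :
    FGA.HilbSet pp T :=
  ⟨(graph gX gY T a).ker, by
    have e : (graph gX gY T a).ker.subschemeι ≫ PicF.XTproj pp T =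
        inv (graph gX gY T a).toImage ≫ pullback.fst T.hom gX := by
      rw [IsIso.eq_inv_comp, ← Category.assoc, Scheme.Hom.toImage_imageι]
      exact pullback.lift_snd _ _ _
    rw [e]
    exact ⟨inferInstance, inferInstance⟩⟩

theorem graph_ker_injective (T : Over S) (a a' : (Flatn.morS gX gY).obj (op T))
    (h : (graph gX gY T a).ker = (graph gX gY T a').ker) : a = a' := by
  have hl := IsClosedImmersion.lift_fac (graph gX gY T a') (graph gX gY T a) h.ge
  have he : IsClosedImmersion.lift (graph gX gY T a') (graph gX gY T a) h.ge = 𝟙 _ := by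
    have := congrArg (· ≫ proj gX gY T) hl
    simp only [Category.assoc, graph_proj, Category.comp_id] at this
    exact this
  rw [he, Category.id_comp] at hl
  apply Over.OverMorphism.ext
  rw [← graph_fst_snd gX gY T a, ← graph_fst_snd gX gY T a', hl]

theorem exists_graph_iff (T : Over S) (I : (PicF.XT pp T).IdealSheafData) :
    (∃ a, I = (graph gX gY T a).ker) ↔ IsIso (I.subschemeι ≫ proj gX gY T) := by
  constructor
  · rintro ⟨a, rfl⟩
    have : (graph gX gY T a).ker.subschemeι ≫ proj gX gY T = inv (graph gX gY T a).toImage := by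
      refine IsIso.eq_inv_of_hom_inv_id ?_
      rw [← Category.assoc]
      erw [Scheme.Hom.toImage_imageι, graph_proj]
    rw [this]; infer_instance
  · intro h
    let s := inv (I.subschemeι ≫ proj gX gY T) ≫ I.subschemeι
    have hs : s ≫ proj gX gY T = 𝟙 _ := by simp [s]
    refine ⟨ofSection gX gY T s hs, ?_⟩
    rw [graph_ofSection, Scheme.Hom.ker_comp_of_isIso, Scheme.IdealSheafData.ker_subschemeι]

variable (H : Over S) (Z : FGA.HilbSet (pullback.fst gX gY ≫ gX) H)

/-- The universal family over `X_H`. -/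
noncomputable def famMap : Over.mk (Z.1.subschemeι ≫ PicF.XTproj pp H) ⟶
    Over.mk (pullback.fst H.hom gX) :=
  Over.homMk (Z.1.subschemeι ≫ proj gX gY H) (by
    show (Z.1.subschemeι ≫ proj gX gY H) ≫ pullback.fst H.hom gX = _
    rw [Category.assoc, proj_fst]
    rfl)

theorem isIso_iff_bc {T : Over S} (g : T ⟶ H) :
    IsIso ((FGA.hilbPull pp g Z.1).subschemeι ≫ proj gX gY T) ↔
      IsIso (IsoBC.bc (famMap gX gY H Z) g.left) := by
  rw [MS97.hilbPull_eq_comap]
  let m := PicF.XTmap pp g
  let I := Z.1.comap m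
  let u := (Z.1.comapIso m).hom ≫ pullback.snd m Z.1.subschemeι
  have hm_fst : m ≫ pullback.fst pp H.hom = pullback.fst pp T.hom :=
    (pullback.lift_fst _ _ _).trans (Category.comp_id _)
  have hm_snd : m ≫ pullback.snd pp H.hom = pullback.snd pp T.hom ≫ g.left := pullback.lift_snd _ _ _
  have sqm : IsPullback m (pullback.snd pp T.hom) (pullback.snd pp H.hom) g.left := by
    refine IsPullback.of_right (t := IsPullback.of_hasPullback pp H.hom) ?_ hm_snd
    rw [hm_fst, Over.w]
    exact IsPullback.of_hasPullback pp T.hom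
  have sqI : IsPullback u I.subschemeι Z.1.subschemeι m := by
    refine IsPullback.of_iso (IsPullback.of_hasPullback m Z.1.subschemeι).flip (Z.1.comapIso m).symm
      (Iso.refl _) (Iso.refl _) (Iso.refl _) ?_ ?_ ?_ ?_
    · simp only [Iso.refl_hom, Category.comp_id, Iso.symm_hom, u, Iso.inv_hom_id_assoc]
    · rw [Iso.refl_hom, Category.comp_id, ← Scheme.IdealSheafData.comapIso_hom_fst]
      simp [I]
    · simp
    · simp
  have sqZ : IsPullback u (I.subschemeι ≫ pullback.snd pp T.hom)
      (Z.1.subschemeι ≫ pullback.snd pp H.hom) g.left := sqI.paste_vert sqm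
  let xg : pullback T.hom gX ⟶ pullback H.hom gX :=
    pullback.map T.hom gX H.hom gX g.left (𝟙 X) (𝟙 S) (by simp) (by simp)
  have sqX : IsPullback xg (pullback.fst T.hom gX) (pullback.fst H.hom gX) g.left := by
    refine IsPullback.of_right (t := (IsPullback.of_hasPullback H.hom gX).flip) ?_ (pullback.lift_fst _ _ _)
    rw [show xg ≫ pullback.snd H.hom gX = pullback.snd T.hom gX from
      (pullback.lift_snd _ _ _).trans (Category.comp_id _), Over.w]
    exact (IsPullback.of_hasPullback T.hom gX).flip
  have hproj : proj gX gY T ≫ xg = m ≫ proj gX gY H := by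
    apply pullback.hom_ext
    · rw [Category.assoc, Category.assoc, proj_fst, hm_snd,
        show xg ≫ pullback.fst H.hom gX = pullback.fst T.hom gX ≫ g.left from pullback.lift_fst _ _ _,
        ← Category.assoc, proj_fst]
    · rw [Category.assoc, Category.assoc, proj_snd, reassoc_of% hm_fst,
        show xg ≫ pullback.snd H.hom gX = pullback.snd T.hom gX from
          (pullback.lift_snd _ _ _).trans (Category.comp_id _), proj_snd]
  have key : (I.subschemeι ≫ proj gX gY T) ≫ sqX.isoPullback.hom =
      sqZ.isoPullback.hom ≫ IsoBC.bc (famMap gX gY H Z) g.left := by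
    apply pullback.hom_ext
    · have e1 := IsoBC.bc_fst (famMap gX gY H Z) g.left
      have e2 : sqZ.isoPullback.hom ≫ pullback.fst _ _ = u := sqZ.isoPullback_hom_fst
      have e3 : sqX.isoPullback.hom ≫ pullback.fst _ _ = xg := sqX.isoPullback_hom_fst
      refine ((Category.assoc _ _ _).trans (congrArg _ e3)).trans (Eq.trans ?_
        ((Category.assoc _ _ _).trans ((congrArg (sqZ.isoPullback.hom ≫ ·) e1).trans
          ((Category.assoc _ _ _).symm.trans (congrArg (· ≫ _) e2)))).symm)
      show (I.subschemeι ≫ proj gX gY T) ≫ xg = u ≫ Z.1.subschemeι ≫ proj gX gY H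
      rw [Category.assoc, hproj, ← Category.assoc, ← Category.assoc, sqI.w]
    · have e1 := IsoBC.bc_snd (famMap gX gY H Z) g.left
      have e2 : sqZ.isoPullback.hom ≫ pullback.snd _ _ = I.subschemeι ≫ pullback.snd pp T.hom :=
        sqZ.isoPullback_hom_snd
      have e3 : sqX.isoPullback.hom ≫ pullback.snd _ _ = pullback.fst T.hom gX := sqX.isoPullback_hom_snd
      refine ((Category.assoc _ _ _).trans (congrArg _ e3)).trans (Eq.trans ?_
        ((Category.assoc _ _ _).trans ((congrArg (sqZ.isoPullback.hom ≫ ·) e1).trans e2)).symm)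
      rw [Category.assoc, proj_fst]
  show IsIso (I.subschemeι ≫ proj gX gY T) ↔ _
  rw [← isIso_comp_right_iff _ sqX.isoPullback.hom, key, isIso_comp_left_iff]

theorem exists_opens [IsProper gX] [Flat gX] (hH : FGA.HilbRepresentedBy pp H Z) :
    ∃ H₀ : H.left.Opens, ∀ (T : Over S) [IsLocallyNoetherian T.left],
      (∀ a : (Flatn.morS gX gY).obj (op T),
        ∃! g : T ⟶ H, Set.range g.left ⊆ (H₀ : Set H.left) ∧
          FGA.hilbPull pp g Z.1 = (graph gX gY T a).ker) ∧
      (∀ g : T ⟶ H, Set.range g.left ⊆ (H₀ : Set H.left) →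
        ∃! a : (Flatn.morS gX gY).obj (op T), FGA.hilbPull pp g Z.1 = (graph gX gY T a).ker) := by
  haveI : IsLocallyNoetherian (H.left) := hH.1
  haveI : IsProper (Over.mk (Z.1.subschemeι ≫ PicF.XTproj pp H)).hom := Z.2.1
  haveI : Flat (Over.mk (Z.1.subschemeι ≫ PicF.XTproj pp H)).hom := Z.2.2
  haveI : IsProper (Over.mk (pullback.fst H.hom gX)).hom :=
    inferInstanceAs (IsProper (pullback.fst H.hom gX))
  obtain ⟨H₀, h₀⟩ := IsoBC.exists_open (famMap gX gY H Z)
  refine ⟨H₀, fun T _ => ?_⟩
  have key : ∀ g : T ⟶ H, Set.range g.left ⊆ (H₀ : Set H.left) ↔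
      ∃ a, FGA.hilbPull pp g Z.1 = (graph gX gY T a).ker := fun g => by
    rw [exists_graph_iff, isIso_iff_bc]
    exact h₀ T.left g.left
  refine ⟨fun a => ?_, fun g hg => ?_⟩
  · obtain ⟨g, hg, huniq⟩ := hH.2 T (graphSet gX gY T a)
    exact ⟨g, ⟨(key g).2 ⟨a, hg⟩, hg⟩, fun g' hg' => huniq g' hg'.2⟩
  · obtain ⟨a, ha⟩ := (key g).1 hg
    exact ⟨a, ha, fun a' ha' => graph_ker_injective gX gY T a' a (ha'.symm.trans ha)⟩

end Groth.Agent.ModP1.HilbGraph
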