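import Mathlib
import Groth.Agent.MP99.Ops
import Groth.Agent.Div89.Pullback

/-!
Integral closedness in the interior of a modulus pair is inherited by étale schemes.
-/

set_option autoImplicit false

universe u

open CategoryTheory CategoryTheory.Limits AlgebraicGeometry TopologicalSpace TensorProduct

namespace Groth.Agent.ModP1

theorem mem_range_of_isIntegral_of_smooth {R S Rf T : Type u} [CommRing R] [CommRing S] [CommRing Rf]
    [CommRing T] [Algebra R S] [Algebra.Smooth R S] [Algebra R Rf] (f : R) [IsLocalization.Away f Rf]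
    [Algebra S T] [IsLocalization.Away (algebraMap R S f) T]
    (h : ∀ x : Rf, IsIntegral R x → x ∈ Set.range (algebraMap R Rf)) (t : T) (ht : IsIntegral S t) :
    t ∈ Set.range (algebraMap S T) := by
  let e : S ⊗[R] Rf ≃ₐ[S] T := IsLocalization.algEquiv (Submonoid.powers (algebraMap R S f)) _ _
  obtain ⟨w, hw⟩ := (TensorProduct.toIntegralClosure_bijective_of_smooth (R := R) (S := S) (B := Rf)).2
    ⟨e.symm t, ht.map e.symm.toAlgHom⟩
  have key : ∀ w : S ⊗[R] integralClosure R Rf, ∃ s : S,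
      Algebra.TensorProduct.map (AlgHom.id S S) (integralClosure R Rf).val w = algebraMap S (S ⊗[R] Rf) s := by
    intro w
    induction w using TensorProduct.induction_on with
    | zero => exact ⟨0, by simp⟩
    | tmul s x =>
      obtain ⟨r, hr⟩ := h x.1 x.2
      refine ⟨r • s, ?_⟩
      rw [Algebra.TensorProduct.map_tmul, Algebra.TensorProduct.algebraMap_apply]
      show s ⊗ₜ[R] (x : Rf) = _
      rw [← hr, Algebra.algebraMap_eq_smul_one, TensorProduct.tmul_smul, TensorProduct.smul_tmul']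
      rfl
    | add a b ha hb =>
      obtain ⟨s, hs⟩ := ha
      obtain ⟨s', hs'⟩ := hb
      exact ⟨s + s', by rw [map_add, map_add, hs, hs']⟩
  obtain ⟨s, hs⟩ := key w
  refine ⟨s, ?_⟩
  have h2 : algebraMap S (S ⊗[R] Rf) s = e.symm t := by
    rw [← hs]
    exact congrArg Subtype.val hw
  rw [← e.commutes s, h2, AlgEquiv.apply_symm_apply]

variable {X Y : Scheme.{u}}

theorem res_injective {J : Y.IdealSheafData} (hJ : BlowUp.IsEffCartierIdeal J) (W W' : Y.Opens)
    (hle : W' ≤ W) (hW : W' = W ⊓ ModPair.interior J) :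
    Function.Injective (Y.presheaf.map (homOfLE hle).op).hom := by
  subst hW
  haveI := MP99.dominant_of_isEffCartier hJ
  haveI := MP99.isAffineHom_interior (MP99.isLocPrincipal_of_isEffCartier hJ)
  intro a b hab
  apply (ModPair.interior J).ι.app_injective W
  rw [Scheme.Opens.ι_app]
  have key : ∀ (W'' : Y.Opens) (h'' : W'' ≤ W), W'' = W ⊓ ModPair.interior J →
      (Y.presheaf.map (homOfLE h'').op).hom a = (Y.presheaf.map (homOfLE h'').op).hom b := by
    rintro _ h'' rfl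
    exact hab
  exact key _ _ (by rw [Scheme.Hom.image_preimage_eq_opensRange_inf, Scheme.Opens.opensRange_ι, inf_comm])

theorem isIntegralElem_res {A B A' B' : CommRingCat.{u}} (r : A ⟶ B) (r' : A' ⟶ B') (a : A ⟶ A')
    (b : B ⟶ B') (h : r ≫ b = a ≫ r') {t : B} (ht : r.hom.IsIntegralElem t) :
    r'.hom.IsIntegralElem (b.hom t) := by
  obtain ⟨p, hp, hpt⟩ := ht
  refine ⟨p.map a.hom, hp.map _, ?_⟩
  rw [Polynomial.eval₂_map, show r'.hom.comp a.hom = b.hom.comp r.hom from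
    congrArg CommRingCat.Hom.hom h.symm, ← Polynomial.hom_eval₂, hpt, map_zero]

theorem integrallyClosed_interior_of_etale
    (IX : X.IdealSheafData) (hX : BlowUp.IsEffCartierIdeal IX)
    (hint : ∀ U ∈ X.affineOpens, ∀ s : Γ(X, U ⊓ ModPair.interior IX),
      (X.presheaf.map (homOfLE (inf_le_left : U ⊓ ModPair.interior IX ≤ U)).op).hom.IsIntegralElem s →
        s ∈ Set.range (X.presheaf.map (homOfLE (inf_le_left : U ⊓ ModPair.interior IX ≤ U)).op).hom)
    (g : Y ⟶ X) [Etale g] :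
    ∀ V ∈ Y.affineOpens, ∀ t : Γ(Y, V ⊓ g ⁻¹ᵁ ModPair.interior IX),
      (Y.presheaf.map (homOfLE (inf_le_left : V ⊓ g ⁻¹ᵁ ModPair.interior IX ≤ V)).op).hom.IsIntegralElem t →
        t ∈ Set.range (Y.presheaf.map (homOfLE (inf_le_left : V ⊓ g ⁻¹ᵁ ModPair.interior IX ≤ V)).op).hom := by
  intro V hV t ht
  let K : Y.Opens := g ⁻¹ᵁ ModPair.interior IX
  have hJ : BlowUp.IsEffCartierIdeal (IX.comap g) := Div89.isEffCartier_comap_of_flat g hX
  have hK : ModPair.interior (IX.comap g) = K := MP99.interior_comap IX g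
  have key : ∀ y : V, ∃ (V' : Y.Opens) (h : V' ≤ V) (s : Γ(Y, V')), (y : Y) ∈ V' ∧
      (Y.presheaf.map (homOfLE (inf_le_left : V' ⊓ K ≤ V')).op).hom s =
        (Y.presheaf.map (homOfLE (inf_le_inf_right K h)).op).hom t := by
    intro y
    obtain ⟨U, hU, f, hf0, hf⟩ := hX (g (y : Y))
    obtain ⟨_, ⟨V', hV', rfl⟩, hyV, hle : V' ≤ V ⊓ g ⁻¹ᵁ U.1⟩ :=
      Y.isBasis_affineOpens.exists_subset_of_mem_open
        (show (y : Y) ∈ V ⊓ g ⁻¹ᵁ U.1 from ⟨y.2, hU⟩) (V ⊓ g ⁻¹ᵁ U.1).2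
    have hVV : V' ≤ V := hle.trans inf_le_left
    have hVU : V' ≤ g ⁻¹ᵁ U.1 := hle.trans inf_le_right
    let φ := g.appLE U.1 V' hVU
    letI : Algebra Γ(X, U.1) Γ(Y, V') := φ.hom.toAlgebra
    haveI : Algebra.Etale Γ(X, U.1) Γ(Y, V') :=
      RingHom.etale_algebraMap.mp (HasRingHomProperty.appLE (P := @Etale) g inferInstance U ⟨V', hV'⟩ hVU)
    have eU : U.1 ⊓ ModPair.interior IX = X.basicOpen f := MP99.inf_interior_eq_basicOpen IX hf
    have eV : V' ⊓ K = Y.basicOpen (φ.hom f) := by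
      rw [Scheme.basicOpen_appLE, ← eU, Scheme.Hom.preimage_inf]
      exact le_antisymm (le_inf inf_le_left (inf_le_inf_right K hVU)) (inf_le_inf_left V' inf_le_right)
    let rU := X.presheaf.map (homOfLE (inf_le_left : U.1 ⊓ ModPair.interior IX ≤ U.1)).op
    let rV := Y.presheaf.map (homOfLE (inf_le_left : V' ⊓ K ≤ V')).op
    letI : Algebra Γ(X, U.1) Γ(X, U.1 ⊓ ModPair.interior IX) := rU.hom.toAlgebra
    letI : Algebra Γ(Y, V') Γ(Y, V' ⊓ K) := rV.hom.toAlgebra
    haveI : IsLocalization.Away f Γ(X, U.1 ⊓ ModPair.interior IX) :=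
      U.2.isLocalization_of_eq_basicOpen f (homOfLE inf_le_left) eU
    haveI : IsLocalization.Away (algebraMap Γ(X, U.1) Γ(Y, V') f) Γ(Y, V' ⊓ K) :=
      hV'.isLocalization_of_eq_basicOpen (φ.hom f) (homOfLE inf_le_left) eV
    obtain ⟨s, hs⟩ := mem_range_of_isIntegral_of_smooth (R := Γ(X, U.1)) (S := Γ(Y, V'))
      (Rf := Γ(X, U.1 ⊓ ModPair.interior IX)) (T := Γ(Y, V' ⊓ K)) f (fun x hx => hint U.1 U.2 x hx)
      ((Y.presheaf.map (homOfLE (inf_le_inf_right K hVV)).op).hom t)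
      (isIntegralElem_res _ rV (Y.presheaf.map (homOfLE hVV).op) _
        (by simp only [rV, ← Functor.map_comp]; rfl) ht)
    exact ⟨V', hVV, s, hyV, hs⟩
  choose W hWV s hyW hs using key
  have inj : ∀ O : Y.Opens, Function.Injective (Y.presheaf.map (homOfLE (inf_le_left : O ⊓ K ≤ O)).op).hom :=
    fun O => res_injective hJ O _ inf_le_left (by rw [hK])
  have comp : ∀ {A B C : Y.Opens} (h₁ : C ≤ B) (h₂ : B ≤ A) (a : Γ(Y, A)),
      (Y.presheaf.map (homOfLE h₁).op).hom ((Y.presheaf.map (homOfLE h₂).op).hom a) =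
        (Y.presheaf.map (homOfLE (h₁.trans h₂)).op).hom a := fun h₁ h₂ a => by
    rw [← CommRingCat.comp_apply, ← Functor.map_comp]; rfl
  obtain ⟨σ, hσ, -⟩ := TopCat.Sheaf.existsUnique_gluing' Y.sheaf W V (fun y => homOfLE (hWV y))
    (fun x hx => Opens.mem_iSup.2 ⟨⟨x, hx⟩, hyW ⟨x, hx⟩⟩) s (fun i j => by
      apply inj (W i ⊓ W j)
      show (Y.presheaf.map (homOfLE _).op).hom ((Y.presheaf.map (homOfLE inf_le_left).op).hom (s i)) =
        (Y.presheaf.map (homOfLE _).op).hom ((Y.presheaf.map (homOfLE inf_le_right).op).hom (s j))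
      rw [comp, comp, ← comp (inf_le_inf_right K inf_le_left) inf_le_left (s i), hs i, comp,
        ← comp (inf_le_inf_right K inf_le_right) inf_le_left (s j), hs j, comp])
  refine ⟨σ, ?_⟩
  refine TopCat.Sheaf.eq_of_locally_eq' Y.sheaf (fun y : V => W y ⊓ K) (V ⊓ K)
    (fun y => homOfLE (inf_le_inf_right K (hWV y)))
    (fun x hx => Opens.mem_iSup.2 ⟨⟨x, hx.1⟩, hyW ⟨x, hx.1⟩, hx.2⟩) _ _ (fun y => ?_)
  show (Y.presheaf.map (homOfLE _).op).hom ((Y.presheaf.map (homOfLE inf_le_left).op).hom σ) = _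
  rw [comp, ← comp inf_le_left (hWV y) σ]
  exact (congrArg _ (hσ y)).trans (hs y)

end Groth.Agent.ModP1
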