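import Mathlib
import Groth.Agent.ModP1.AdmSystem
import Groth.Agent.ModP1.AdmEpi
import Groth.Agent.S18735
import Groth.Agent.S18745

/-!
Morphisms out of a cofiltered limit in the localization of modulus pairs at admissible blow-ups.
-/

set_option autoImplicit false
set_option backward.isDefEq.respectTransparency false
set_option backward.defeqAttrib.useBackward true

universe u

open CategoryTheory CategoryTheory.Limits AlgebraicGeometry TopologicalSpace

namespace Groth.Agent.ModP1.LocColim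

variable {S : ModPair.Pair.{u}} {I : Type u} [SmallCategory I] [IsCofiltered I] (D : I ⥤ Over S)

/-- The underlying system of schemes. -/
abbrev tot : I ⥤ Scheme.{u} := D ⋙ Over.forget S ⋙ ModPair.Pair.forget

/-- The moduli of the system. -/
abbrev mods (i : I) : ((tot D).obj i).IdealSheafData := (D.obj i).left.mod

variable (c : Cone D)

/-- The underlying cone of schemes. -/
abbrev totCone : Cone (tot D) := (Over.forget S ⋙ ModPair.Pair.forget).mapCone c

theorem limit_pair (hc : IsLimit c) [∀ (i j : I) (t : i ⟶ j), IsAffineHom (D.map t).left.hom]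
    (hmin : ∀ (i j : I) (t : i ⟶ j),
      ModPair.IsMinimal (D.obj i).left.mod (D.obj j).left.mod (D.map t).left.hom) :
    Nonempty (IsLimit (totCone D c)) ∧ ∀ i, c.pt.left.mod = (mods D i).comap ((totCone D c).π.app i) := by
  haveI : ∀ (i j : I) (t : i ⟶ j), IsAffineHom ((tot D).map t) := fun i j t =>
    inferInstanceAs (IsAffineHom (D.map t).left.hom)
  haveI : HasLimit (tot D) := Approx60.hasLimit_of_isAffineHom (tot D)
  let L := limit.cone (tot D)
  have hL : IsLimit L := limit.isLimit (tot D)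
  obtain ⟨i₀⟩ := IsCofiltered.nonempty (C := I)
  let IL : L.pt.IdealSheafData := (mods D i₀).comap (L.π.app i₀)
  have hIL : ∀ i, IL = (mods D i).comap (L.π.app i) := fun i => by
    obtain ⟨k, a, b, -⟩ := IsCofilteredOrEmpty.cone_objs i₀ i
    have e : ∀ {j : I} (t : k ⟶ j), (mods D j).comap (L.π.app j) = (mods D k).comap (L.π.app k) := fun {j} t => by
      rw [← L.w t, Scheme.IdealSheafData.comap_comp]
      exact congrArg (fun K => Scheme.IdealSheafData.comap K (L.π.app k)) (hmin k j t).symm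
    exact (e a).trans (e b).symm
  let Lp : ModPair.Pair.{u} := ⟨L.pt, IL, MP99.isEffCartier_comap_limit (tot D) L hL (mods D)
    (fun i => (D.obj i).left.isEffCartier) hmin i₀⟩
  let πp : ∀ i, Lp ⟶ (D.obj i).left := fun i => ⟨L.π.app i, (hIL i).le⟩
  have hπp : ∀ {i j : I} (t : i ⟶ j), πp i ≫ (D.map t).left = πp j := fun t =>
    ModPair.Pair.Hom.ext (L.w t)
  let cL : Cone D :=
    { pt := Over.mk (πp i₀ ≫ (D.obj i₀).hom)
      π :=
        { app := fun i => Over.homMk (πp i) (by
            obtain ⟨k, a, b, -⟩ := IsCofilteredOrEmpty.cone_objs i i₀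
            show πp i ≫ (D.obj i).hom = πp i₀ ≫ (D.obj i₀).hom
            rw [← hπp a, ← hπp b, Category.assoc, Category.assoc, Over.w, Over.w])
          naturality := fun i j t => by
            apply Over.OverMorphism.ext
            exact (Category.id_comp _).trans (hπp t).symm } }
  let e₁ : cL.pt ⟶ c.pt := hc.lift cL
  let e₂t : c.pt.left.total ⟶ L.pt := hL.lift (totCone D c)
  have he₂ : ∀ i, e₂t ≫ L.π.app i = (c.π.app i).left.hom := fun i => hL.fac _ i
  let e₂p : c.pt.left ⟶ Lp := ⟨e₂t, by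
    show c.pt.left.mod ≤ IL.comap e₂t
    rw [← Scheme.IdealSheafData.comap_comp, he₂]
    exact (c.π.app i₀).left.cond⟩
  let e₂ : c.pt ⟶ cL.pt := Over.homMk e₂p (by
    show e₂p ≫ πp i₀ ≫ (D.obj i₀).hom = c.pt.hom
    rw [← Category.assoc, show e₂p ≫ πp i₀ = (c.π.app i₀).left from ModPair.Pair.Hom.ext (he₂ i₀), Over.w]
    rfl)
  have h₁ : e₁.left.hom ≫ e₂t = 𝟙 L.pt := hL.hom_ext fun i => by
    rw [Category.assoc, he₂]
    refine Eq.trans ?_ (Category.id_comp _).symm
    exact congrArg (fun f : cL.pt ⟶ D.obj i => f.left.hom) (hc.fac cL i)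
  have h₂ : e₂ ≫ e₁ = 𝟙 c.pt := hc.hom_ext fun i => by
    rw [Category.assoc, Category.id_comp, hc.fac]
    apply Over.OverMorphism.ext
    exact ModPair.Pair.Hom.ext (he₂ i)
  have h₂' : e₂t ≫ e₁.left.hom = 𝟙 c.pt.left.total :=
    congrArg (fun f : c.pt ⟶ c.pt => f.left.hom) h₂
  refine ⟨⟨hL.ofIsoLimit (Cone.ext (⟨e₁.left.hom, e₂t, h₁, h₂'⟩ : L.pt ≅ (totCone D c).pt) fun i => by
    show L.π.app i = e₁.left.hom ≫ (c.π.app i).left.hom
    exact (congrArg (fun f : cL.pt ⟶ D.obj i => f.left.hom) (hc.fac cL i)).symm)⟩, fun i => ?_⟩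
  refine le_antisymm (c.π.app i).left.cond ?_
  have h3 : (mods D i).comap (L.π.app i) ≤ c.pt.left.mod.comap e₁.left.hom :=
    (hIL i).ge.trans e₁.left.cond
  have h4 := Scheme.IdealSheafData.comap_mono e₂t h3
  beta_reduce at h4
  rw [← Scheme.IdealSheafData.comap_comp, ← Scheme.IdealSheafData.comap_comp, h₂',
    Scheme.IdealSheafData.comap_id, he₂] at h4
  exact h4

variable (hmin : ∀ (i j : I) (t : i ⟶ j),
      ModPair.IsMinimal (D.obj i).left.mod (D.obj j).left.mod (D.map t).left.hom)
  {i : I} {Y₀ : Scheme.{u}} (g : Y₀ ⟶ (tot D).obj i)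

/-- The system of blow-ups over the base scheme. -/
noncomputable def overSys : Over i ⥤ Over S.total where
  obj a := Over.mk (AdmSys.z (mods D) g a ≫ (D.obj a.left).hom.hom)
  map {a b} φ := Over.homMk ((AdmSys.sys (mods D) g (fun j => (D.obj j).left.isEffCartier) hmin).map φ) (by
    show _ ≫ AdmSys.z (mods D) g b ≫ (D.obj b.left).hom.hom = _
    rw [← Category.assoc, AdmSys.map_z, Category.assoc]
    congr 1
    exact congrArg ModPair.Pair.Hom.hom (Over.w (D.map φ.left)))
  map_id a := by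
    apply Over.OverMorphism.ext
    exact (AdmSys.sys (mods D) g (fun j => (D.obj j).left.isEffCartier) hmin).map_id a
  map_comp φ ψ := by
    apply Over.OverMorphism.ext
    exact (AdmSys.sys (mods D) g (fun j => (D.obj j).left.isEffCartier) hmin).map_comp φ ψ

/-- A member of the system as a modulus pair. -/
noncomputable def zPair (a : Over i) : ModPair.Pair.{u} :=
  ⟨AdmSys.Z (mods D) g a, (mods D a.left).comap (AdmSys.z (mods D) g a),
    AdmSys.isEffCartier_z (mods D) g (fun j => (D.obj j).left.isEffCartier) a⟩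

/-- Its projection. -/
noncomputable def zHom (a : Over i) : zPair D g a ⟶ (D.obj a.left).left :=
  ⟨AdmSys.z (mods D) g a, le_refl ((mods D a.left).comap (AdmSys.z (mods D) g a))⟩

variable [IsProper g] [IsIso (g ∣_ ModPair.interior (mods D i))]

include hmin in
theorem admBlowup_zHom (a : Over i) : ModPair.Pair.admBlowup (zHom D g a) :=
  AdmSys.isAdmBlowup_z (mods D) g (fun j => (D.obj j).left.isEffCartier) hmin a

variable [CompactSpace S.total] [QuasiSeparatedSpace S.total]
  [∀ (i j : I) (t : i ⟶ j), IsAffineHom (D.map t).left.hom]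
  [∀ i, CompactSpace (D.obj i).left.total] [∀ i, QuasiSeparatedSpace (D.obj i).left.total]

omit g [IsProper g] [IsIso (g ∣_ ModPair.interior (mods D i))] in
theorem localization_surjective (hc : IsLimit c)
    (hmin : ∀ (i j : I) (t : i ⟶ j),
      ModPair.IsMinimal (D.obj i).left.mod (D.obj j).left.mod (D.map t).left.hom)
    (Y : Over S) [CompactSpace Y.left.total] [QuasiSeparatedSpace Y.left.total]
    [LocallyOfFiniteType Y.hom.hom]
    (h : (∀ (i j : I) (t : i ⟶ j), IsSchemeTheoreticallyDominant (D.map t).left.hom) ∨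
      LocallyOfFinitePresentation Y.hom.hom)
    (φ : (ModPair.Pair.admBlowup.{u}).Q.obj c.pt.left ⟶ (ModPair.Pair.admBlowup.{u}).Q.obj Y.left)
    (hφ : φ ≫ (ModPair.Pair.admBlowup.{u}).Q.map Y.hom = (ModPair.Pair.admBlowup.{u}).Q.map c.pt.hom) :
    ∃ (i : I) (φi : (ModPair.Pair.admBlowup.{u}).Q.obj (D.obj i).left ⟶
        (ModPair.Pair.admBlowup.{u}).Q.obj Y.left),
      φi ≫ (ModPair.Pair.admBlowup.{u}).Q.map Y.hom = (ModPair.Pair.admBlowup.{u}).Q.map (D.obj i).hom ∧
        (ModPair.Pair.admBlowup.{u}).Q.map (c.π.app i).left ≫ φi = φ := by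
  haveI : ∀ (i j : I) (t : i ⟶ j), IsAffineHom ((tot D).map t) := fun i j t =>
    inferInstanceAs (IsAffineHom (D.map t).left.hom)
  haveI : ∀ i, CompactSpace ((tot D).obj i) := fun i => inferInstanceAs (CompactSpace (D.obj i).left.total)
  haveI : ∀ i, QuasiSeparatedSpace ((tot D).obj i) := fun i =>
    inferInstanceAs (QuasiSeparatedSpace (D.obj i).left.total)
  obtain ⟨⟨hcs⟩, hIX⟩ := limit_pair D c hc hmin
  obtain ⟨P', s, a, hs, hsφ, hsa⟩ := exists_honest_over c.pt.hom Y.hom φ hφ
  have hsm : P'.mod = c.pt.left.mod.comap s.hom := hs.1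
  have hY' : BlowUp.IsEffCartierIdeal (c.pt.left.mod.comap s.hom) := hsm ▸ P'.isEffCartier
  haveI := hs.2.2
  obtain ⟨i, Y₀, g, j, hg, hgi, hj, hjs⟩ := AdmDescend.exists_model (tot D) (totCone D c) hcs (mods D)
    (fun i => (D.obj i).left.isEffCartier) hmin c.pt.left.mod hIX s.hom hY' ⟨rfl, hs.2.1, hs.2.2⟩
  haveI := hg; haveI := hgi
  let q : P'.total ⟶ Y₀ := j ≫ pullback.snd ((totCone D c).π.app i) g
  have w : s.hom ≫ (totCone D c).π.app i = q ≫ g := by
    rw [← hjs, Category.assoc, Category.assoc, pullback.condition]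
  haveI : IsClosedImmersion (pullback.lift s.hom q w) := by
    have e : pullback.lift s.hom q w = j := by
      apply pullback.hom_ext
      · rw [pullback.lift_fst]; exact hjs.symm
      · rw [pullback.lift_snd]
    rw [e]; exact hj
  obtain ⟨π, ⟨hπ⟩, hπeq⟩ := AdmSys.exists_limit (mods D) g (fun i => (D.obj i).left.isEffCartier) hmin
    (totCone D c) hcs c.pt.left.mod hIX s.hom q w hY'
  let ES := overSys D hmin g
  haveI : IsConnected (Over i) := CategoryTheory.isConnected_of_hasTerminal (Over i)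
  have hπz : ∀ x : Over i, π.app x ≫ AdmSys.z (mods D) g x = s.hom ≫ (c.π.app x.left).left.hom :=
    fun x => (hπeq x).1
  let cS : Cone ES :=
    { pt := Over.mk (s.hom ≫ c.pt.hom.hom)
      π :=
        { app := fun x => Over.homMk (π.app x) (by
            show π.app x ≫ AdmSys.z (mods D) g x ≫ (D.obj x.left).hom.hom = _
            rw [← Category.assoc, hπz, Category.assoc]
            congr 1
            exact congrArg ModPair.Pair.Hom.hom (Over.w (c.π.app x.left)))
          naturality := fun x y t => by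
            apply Over.OverMorphism.ext
            exact π.naturality t } }
  have hcS : IsLimit cS := by
    refine isLimitOfReflects (Over.forget S.total) ?_
    exact hπ
  haveI : ∀ (x y : Over i) (t : x ⟶ y), IsAffineHom (ES.map t).left := fun x y t =>
    AdmSys.isAffineHom_map (mods D) g (fun i => (D.obj i).left.isEffCartier) hmin t
  have hprop : ∀ x : Over i, IsProper (AdmSys.z (mods D) g x) := fun x =>
    (AdmSys.isAdmBlowup_z (mods D) g (fun i => (D.obj i).left.isEffCartier) hmin x).2.1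
  haveI : ∀ x : Over i, CompactSpace (ES.obj x).left := fun x => by
    haveI := hprop x
    exact QuasiCompact.compactSpace_of_compactSpace (AdmSys.z (mods D) g x)
  haveI : ∀ x : Over i, QuasiSeparatedSpace (ES.obj x).left := fun x => by
    haveI := hprop x
    exact quasiSeparatedSpace_of_quasiSeparated (AdmSys.z (mods D) g x)
  let aO : cS.pt ⟶ Over.mk Y.hom.hom :=
    Over.homMk a.hom (congrArg ModPair.Pair.Hom.hom hsa).symm
  haveI : CompactSpace (Over.mk Y.hom.hom).left := inferInstanceAs (CompactSpace Y.left.total)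
  haveI : QuasiSeparatedSpace (Over.mk Y.hom.hom).left := inferInstanceAs (QuasiSeparatedSpace Y.left.total)
  haveI : LocallyOfFiniteType (Over.mk Y.hom.hom).hom := inferInstanceAs (LocallyOfFiniteType Y.hom.hom)
  obtain ⟨k, φk, hk₁, hk₂⟩ := Groth.Agent.S18745.result ES cS hcS
    (fun x => (zPair D g x).mod) (fun x => (zPair D g x).isEffCartier)
    (fun x y t => by
      show (mods D x.left).comap _ = ((mods D y.left).comap _).comap _
      rw [← Scheme.IdealSheafData.comap_comp]
      show _ = (mods D y.left).comap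
        ((AdmSys.sys (mods D) g (fun i => (D.obj i).left.isEffCartier) hmin).map t ≫ AdmSys.z (mods D) g y)
      rw [AdmSys.map_z, Scheme.IdealSheafData.comap_comp]
      exact congrArg (fun K => Scheme.IdealSheafData.comap K _) (hmin x.left y.left t.left))
    P'.mod (fun x => by
      show P'.mod = ((mods D x.left).comap (AdmSys.z (mods D) g x)).comap (π.app x)
      rw [← Scheme.IdealSheafData.comap_comp, hπz, Scheme.IdealSheafData.comap_comp, hsm, hIX x.left]
      rfl)
    (Over.mk Y.hom.hom) Y.left.mod Y.left.isEffCartier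
    (h.imp (fun h x y t =>
      haveI : IsSchemeTheoreticallyDominant ((tot D).map t.left) := h _ _ t.left
      AdmSys.dominant_map (mods D) g (fun i => (D.obj i).left.isEffCartier) hmin t) id)
    aO a.cond
  let φp : zPair D g k ⟶ Y.left := ⟨φk.left, hk₁⟩
  let πp : P' ⟶ zPair D g k := ⟨π.app k, by
    show P'.mod ≤ ((mods D k.left).comap (AdmSys.z (mods D) g k)).comap (π.app k)
    rw [← Scheme.IdealSheafData.comap_comp, hπz, Scheme.IdealSheafData.comap_comp, hsm, hIX k.left]
    exact le_rfl⟩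
  haveI hzi : IsIso ((ModPair.Pair.admBlowup.{u}).Q.map (zHom D g k)) :=
    (ModPair.Pair.admBlowup.{u}).Q_inverts _ (admBlowup_zHom D hmin g k)
  haveI : IsIso ((ModPair.Pair.admBlowup.{u}).Q.map s) := (ModPair.Pair.admBlowup.{u}).Q_inverts _ hs
  refine ⟨k.left, inv ((ModPair.Pair.admBlowup.{u}).Q.map (zHom D g k)) ≫
    (ModPair.Pair.admBlowup.{u}).Q.map φp, ?_, ?_⟩
  · rw [Category.assoc, IsIso.inv_comp_eq, ← Functor.map_comp, ← Functor.map_comp]
    exact congrArg _ (ModPair.Pair.Hom.ext (Over.w φk))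
  · rw [← cancel_epi ((ModPair.Pair.admBlowup.{u}).Q.map s), hsφ, ← Functor.map_comp_assoc,
      show s ≫ (c.π.app k.left).left = πp ≫ zHom D g k from ModPair.Pair.Hom.ext (hπz k).symm,
      Functor.map_comp, Category.assoc, IsIso.hom_inv_id_assoc, ← Functor.map_comp]
    exact congrArg _ (ModPair.Pair.Hom.ext (congrArg (fun f : cS.pt ⟶ Over.mk Y.hom.hom => f.left) hk₂))

omit g [IsProper g] [IsIso (g ∣_ ModPair.interior (mods D i))] in
theorem localization_injective (hc : IsLimit c)
    (hmin : ∀ (i j : I) (t : i ⟶ j),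
      ModPair.IsMinimal (D.obj i).left.mod (D.obj j).left.mod (D.map t).left.hom)
    (Y : Over S) [LocallyOfFiniteType Y.hom.hom] (i : I)
    (φ ψ : (ModPair.Pair.admBlowup.{u}).Q.obj (D.obj i).left ⟶ (ModPair.Pair.admBlowup.{u}).Q.obj Y.left)
    (hφ : φ ≫ (ModPair.Pair.admBlowup.{u}).Q.map Y.hom = (ModPair.Pair.admBlowup.{u}).Q.map (D.obj i).hom)
    (hψ : ψ ≫ (ModPair.Pair.admBlowup.{u}).Q.map Y.hom = (ModPair.Pair.admBlowup.{u}).Q.map (D.obj i).hom)
    (heq : (ModPair.Pair.admBlowup.{u}).Q.map (c.π.app i).left ≫ φ =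
      (ModPair.Pair.admBlowup.{u}).Q.map (c.π.app i).left ≫ ψ) :
    ∃ (j : I) (t : j ⟶ i), (ModPair.Pair.admBlowup.{u}).Q.map (D.map t).left ≫ φ =
      (ModPair.Pair.admBlowup.{u}).Q.map (D.map t).left ≫ ψ := by
  haveI : ∀ (i j : I) (t : i ⟶ j), IsAffineHom ((tot D).map t) := fun i j t =>
    inferInstanceAs (IsAffineHom (D.map t).left.hom)
  haveI : ∀ i, CompactSpace ((tot D).obj i) := fun i => inferInstanceAs (CompactSpace (D.obj i).left.total)
  haveI : ∀ i, QuasiSeparatedSpace ((tot D).obj i) := fun i =>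
    inferInstanceAs (QuasiSeparatedSpace (D.obj i).left.total)
  haveI := MP99.hasRightCalculusOfFractions.{u}
  obtain ⟨⟨hcs⟩, hIX⟩ := limit_pair D c hc hmin
  obtain ⟨P', s, a, b, hs, ha, hb⟩ :=
    MP99.exists_honest_pair (ModPair.Pair.admBlowup.{u}).Q ModPair.Pair.admBlowup φ ψ
  have hsa : a ≫ Y.hom = s ≫ (D.obj i).hom := map_Q_injective _ _ (by
    rw [Functor.map_comp, Functor.map_comp, ← ha, Category.assoc, hφ])
  have hsb : b ≫ Y.hom = s ≫ (D.obj i).hom := map_Q_injective _ _ (by
    rw [Functor.map_comp, Functor.map_comp, ← hb, Category.assoc, hψ])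
  have hsm : P'.mod = (mods D i).comap s.hom := hs.1
  let g : P'.total ⟶ (tot D).obj i := s.hom
  haveI : IsProper g := hs.2.1
  haveI : IsIso (g ∣_ ModPair.interior (mods D i)) := hs.2.2
  -- the blow-up of the limit
  let πl : c.pt.left.total ⟶ (tot D).obj i := (c.π.app i).left.hom
  obtain ⟨hW, hWadm, hWamb⟩ := Groth.Agent.S18735.result (mods D i) c.pt.left.mod P'.mod
    (D.obj i).left.isEffCartier c.pt.left.isEffCartier P'.isEffCartier πl (c.π.app i).left.cond g
    ⟨hsm, hs.2.1, hs.2.2⟩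
  let M := ModPair.mprodι g πl P'.mod c.pt.left.mod
  let sX := M ≫ pullback.snd g πl
  let q := M ≫ pullback.fst g πl
  let W : ModPair.Pair.{u} := ⟨_, c.pt.left.mod.comap sX, hW⟩
  let sp : W ⟶ c.pt.left := ⟨sX, le_refl _⟩
  let hp : W ⟶ P' := ⟨q, hWamb⟩
  haveI : IsIso ((ModPair.Pair.admBlowup.{u}).Q.map sp) := (ModPair.Pair.admBlowup.{u}).Q_inverts _ hWadm
  have w : sX ≫ (totCone D c).π.app i = q ≫ g := by
    show (M ≫ pullback.snd g πl) ≫ πl = (M ≫ pullback.fst g πl) ≫ g
    rw [Category.assoc, Category.assoc, pullback.condition]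
  have hcomm : sp ≫ (c.π.app i).left = hp ≫ s := ModPair.Pair.Hom.ext w
  have hab : hp ≫ a = hp ≫ b := map_Q_injective _ _ (by
    rw [Functor.map_comp, Functor.map_comp, ← ha, ← hb, ← Functor.map_comp_assoc,
      ← Functor.map_comp_assoc, ← hcomm, Functor.map_comp, Category.assoc, Category.assoc, heq])
  haveI : IsClosedImmersion (pullback.lift sX q w) := by
    have e : pullback.lift sX q w = M ≫ (pullbackSymmetry g πl).hom := by
      apply pullback.hom_ext
      · rw [pullback.lift_fst, Category.assoc]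
        exact (congrArg (M ≫ ·) (pullbackSymmetry_hom_comp_fst g πl)).symm
      · rw [pullback.lift_snd, Category.assoc]
        exact (congrArg (M ≫ ·) (pullbackSymmetry_hom_comp_snd g πl)).symm
    rw [e]; infer_instance
  haveI : IsIso (sX ∣_ ModPair.interior c.pt.left.mod) := hWadm.2.2
  obtain ⟨π, ⟨hπ⟩, hπeq⟩ := AdmSys.exists_limit (mods D) g (fun i => (D.obj i).left.isEffCartier) hmin
    (totCone D c) hcs c.pt.left.mod hIX sX q w hW
  let E := AdmSys.sys (mods D) g (fun i => (D.obj i).left.isEffCartier) hmin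
  let o : Over i := Over.mk (𝟙 i)
  let tS : E ⟶ (Functor.const (Over i)).obj S.total :=
    { app := fun x => ((overSys D hmin g).obj x).hom
      naturality := fun x y t => (Over.w ((overSys D hmin g).map t)).trans (Category.comp_id _).symm }
  haveI : ∀ (x y : Over i) (t : x ⟶ y), IsAffineHom (E.map t) := fun x y t =>
    AdmSys.isAffineHom_map (mods D) g (fun i => (D.obj i).left.isEffCartier) hmin t
  haveI : ∀ {x y : Over i} (t : x ⟶ y), IsAffineHom (E.map t) := fun t =>
    AdmSys.isAffineHom_map (mods D) g (fun i => (D.obj i).left.isEffCartier) hmin t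
  haveI : ∀ x : Over i, CompactSpace (E.obj x) := fun x => by
    haveI : IsProper (AdmSys.z (mods D) g x) :=
      (AdmSys.isAdmBlowup_z (mods D) g (fun i => (D.obj i).left.isEffCartier) hmin x).2.1
    exact QuasiCompact.compactSpace_of_compactSpace (AdmSys.z (mods D) g x)
  have hover : ∀ f : P' ⟶ Y.left, f ≫ Y.hom = s ≫ (D.obj i).hom →
      tS.app o = (AdmSys.r (mods D) g o ≫ f.hom) ≫ Y.hom.hom := fun f hf => by
    have e : f.hom ≫ Y.hom.hom = g ≫ (D.obj i).hom.hom := congrArg ModPair.Pair.Hom.hom hf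
    rw [Category.assoc, e, ← Category.assoc, ← AdmSys.z_w]
    show AdmSys.z (mods D) g o ≫ _ = _
    simp [o]
  obtain ⟨k, hik, hk⟩ := Scheme.exists_hom_comp_eq_comp_of_locallyOfFiniteType E tS Y.hom.hom
    (Cone.mk _ π) hπ (i := o) (AdmSys.r (mods D) g o ≫ a.hom) (AdmSys.r (mods D) g o ≫ b.hom)
    (hover a hsa) (hover b hsb) (by
      show π.app o ≫ AdmSys.r (mods D) g o ≫ a.hom = π.app o ≫ AdmSys.r (mods D) g o ≫ b.hom
      rw [reassoc_of% (hπeq o).2, reassoc_of% (hπeq o).2]
      exact congrArg ModPair.Pair.Hom.hom hab)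
  rw [← Category.assoc, ← Category.assoc, AdmSys.map_r] at hk
  let rp : zPair D g k ⟶ P' := ⟨AdmSys.r (mods D) g k, by
    show (mods D k.left).comap (AdmSys.z (mods D) g k) ≤ P'.mod.comap (AdmSys.r (mods D) g k)
    rw [hsm, ← Scheme.IdealSheafData.comap_comp, ← AdmSys.z_w, Scheme.IdealSheafData.comap_comp]
    exact (congrArg (fun K => Scheme.IdealSheafData.comap K _) (hmin k.left i k.hom)).le⟩
  have hrp : zHom D g k ≫ (D.map k.hom).left = rp ≫ s := ModPair.Pair.Hom.ext (AdmSys.z_w (mods D) g k)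
  haveI hzi : IsIso ((ModPair.Pair.admBlowup.{u}).Q.map (zHom D g k)) :=
    (ModPair.Pair.admBlowup.{u}).Q_inverts _ (admBlowup_zHom D hmin g k)
  refine ⟨k.left, k.hom, ?_⟩
  rw [← cancel_epi ((ModPair.Pair.admBlowup.{u}).Q.map (zHom D g k)), ← Functor.map_comp_assoc,
    ← Functor.map_comp_assoc, hrp, Functor.map_comp, Category.assoc, Category.assoc, ha, hb,
    ← Functor.map_comp, ← Functor.map_comp]
  exact congrArg _ (ModPair.Pair.Hom.ext hk)

end Groth.Agent.ModP1.LocColim
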