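import Groth.Agent.MP99.Image
import Groth.Agent.MP99.Ops
import Groth.Prelude.Def_BlowUp2
import Groth.Prelude.Def_Coh

/-!
The ideal of sections killed by a power of a locally principal ideal, as the scheme-theoretic
closure of the interior.
-/

set_option autoImplicit false

universe u

open CategoryTheory CategoryTheory.Limits AlgebraicGeometry TopologicalSpace

namespace Groth.Agent.ModP1.TorsionIdeal

variable {X : Scheme.{u}}

theorem quasiCompact_interior {E : X.IdealSheafData} (hE : MP99.IsLocPrincipal E) :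
    QuasiCompact (ModPair.interior E).ι := by
  haveI := MP99.isAffineHom_interior hE
  infer_instance

theorem mem_ker_iff {E : X.IdealSheafData} (hE : MP99.IsLocPrincipal E) (V : X.affineOpens)
    (a : Γ(X, V.1)) :
    a ∈ (ModPair.interior E).ι.ker.ideal V ↔
      BlowUp.KilledByPowerNear E (Coh.structureModule X) V a := by
  haveI := quasiCompact_interior hE
  rw [Scheme.Hom.ker_apply, RingHom.mem_ker]
  show _ ↔ ∃ n : ℕ, ∀ c : Γ(X, V.1), c ∈ (E ^ n).ideal V → c * a = 0
  simp only [Scheme.IdealSheafData.ideal_pow, Pi.pow_apply]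
  have hle : (ModPair.interior E).ι ''ᵁ (ModPair.interior E).ι ⁻¹ᵁ V.1 = V.1 ⊓ ModPair.interior E := by
    rw [Scheme.Hom.image_preimage_eq_opensRange_inf, Scheme.Opens.opensRange_ι, inf_comm]
  have h0 : (ModPair.interior E).ι.app V.1 a = 0 ↔
      (X.presheaf.map (homOfLE (inf_le_left : V.1 ⊓ ModPair.interior E ≤ V.1)).op).hom a = 0 := by
    rw [Scheme.Opens.ι_app]
    have key : ∀ (W W' : X.Opens) (h : W ≤ V.1) (h' : W' ≤ V.1), W = W' →
        ((X.presheaf.map (homOfLE h).op).hom a = 0 ↔ (X.presheaf.map (homOfLE h').op).hom a = 0) := by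
      rintro W W' h h' rfl; rfl
    exact key _ _ _ _ hle
  rw [h0]
  have hb : ∀ c ∈ E.ideal V, X.basicOpen c ≤ V.1 ⊓ ModPair.interior E := fun c hc x hx => by
    refine ⟨X.basicOpen_le c hx, fun hxI => ?_⟩
    rw [SetLike.mem_coe, Scheme.IdealSheafData.mem_support_iff_of_mem (X.basicOpen_le c hx),
      Scheme.mem_zeroLocus_iff] at hxI
    exact hxI c hc hx
  have hcov : ∀ x ∈ V.1 ⊓ ModPair.interior E, ∃ c ∈ E.ideal V, x ∈ X.basicOpen c := by
    rintro x ⟨hxV, hxI⟩
    by_contra hne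
    apply hxI
    rw [SetLike.mem_coe, Scheme.IdealSheafData.mem_support_iff_of_mem hxV, Scheme.mem_zeroLocus_iff]
    exact fun c hc hx => hne ⟨c, hc, hx⟩
  have hloc : ∀ c : Γ(X, V.1), (X.presheaf.map (homOfLE (X.basicOpen_le c)).op).hom a = 0 ↔
      ∃ n : ℕ, c ^ n * a = 0 := fun c => by
    have inst := V.2.isLocalization_basicOpen c
    refine (IsLocalization.map_eq_zero_iff (Submonoid.powers c) Γ(X, X.basicOpen c) a).trans ?_
    exact ⟨fun ⟨⟨_, n, rfl⟩, h⟩ => ⟨n, h⟩, fun ⟨n, h⟩ => ⟨⟨_, n, rfl⟩, h⟩⟩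
  constructor
  · intro h
    let K : Ideal Γ(X, V.1) := LinearMap.ker (LinearMap.toSpanSingleton Γ(X, V.1) Γ(X, V.1) a)
    have hrad : E.ideal V ≤ K.radical := fun c hc => by
      have hz : (X.presheaf.map (homOfLE (X.basicOpen_le c)).op).hom a = 0 := by
        rw [show (homOfLE (X.basicOpen_le c)).op =
          (homOfLE (inf_le_left : V.1 ⊓ ModPair.interior E ≤ V.1)).op ≫ (homOfLE (hb c hc)).op from rfl,
          Functor.map_comp, CommRingCat.hom_comp, RingHom.comp_apply, h, map_zero]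
      obtain ⟨n, hn⟩ := (hloc c).1 hz
      exact ⟨n, LinearMap.mem_ker.2 hn⟩
    obtain ⟨n, hn⟩ := Ideal.exists_pow_le_of_le_radical_of_fg hrad (MP99.ideal_fg hE V)
    exact ⟨n, fun c hc => LinearMap.mem_ker.1 (hn hc)⟩
  · rintro ⟨n, hn⟩
    refine X.IsSheaf.section_ext fun x hx => ?_
    obtain ⟨c, hc, hxc⟩ := hcov x hx
    refine ⟨X.basicOpen c, hb c hc, hxc, ?_⟩
    rw [map_zero]
    have hz := (hloc c).2 ⟨n, hn _ (Ideal.pow_mem_pow hc n)⟩
    rw [← CommRingCat.comp_apply, ← X.presheaf.map_comp]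
    exact hz

end Groth.Agent.ModP1.TorsionIdeal
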