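import Mathlib
import Groth.Prelude.Def_W4c6modpairsegaMP
import Groth.Agent.H98Strict.Admissible
import Groth.Agent.H98Strict.Basic
import Groth.Agent.Div89.BlowUp
import Groth.Agent.FBlow13.Exist

/-!
Zariski covers of the interior extend after an admissible blow-up.
-/

set_option autoImplicit false

universe u

open CategoryTheory AlgebraicGeometry TopologicalSpace

namespace Groth.Agent.ModP1

theorem isCompact_interior {S : Scheme.{u}} [CompactSpace S] [QuasiSeparatedSpace S] {I : S.IdealSheafData}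
    (hI : MP99.IsLocPrincipal I) : IsCompact (ModPair.interior I : Set S) := by
  haveI := MP99.isAffineHom_interior hI
  haveI : QuasiCompact (ModPair.interior I).ι := inferInstance
  haveI : CompactSpace (ModPair.interior I : Scheme.{u}) :=
    QuasiCompact.compactSpace_of_compactSpace (ModPair.interior I).ι
  exact isCompact_iff_compactSpace.2 ‹_›

theorem exists_zariski_refinement {S : Scheme.{u}} [CompactSpace S] [QuasiSeparatedSpace S]
    (I : S.IdealSheafData) (hI : BlowUp.IsEffCartierIdeal I) {ι : Type u} (V : ι → S.Opens)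
    (hVqc : ∀ i, IsCompact (V i : Set S)) (hcov : ModPair.interior I ≤ ⨆ i, V i) :
    ∃ (F : S.IdealSheafData) (Y : Scheme.{u}) (b : Y ⟶ S) (κ : Type u) (W : κ → Y.Opens),
      BlowUp.IsAdmissibleFor (ModPair.interior I) F ∧ BlowUp.IsBlowUp b F ∧
        BlowUp.IsEffCartierIdeal (I.comap b) ∧ (∀ k, IsCompact (W k : Set Y)) ∧
        (⨆ k, W k) = ⊤ ∧ ∀ k, ∃ i, W k ⊓ b ⁻¹ᵁ ModPair.interior I ≤ b ⁻¹ᵁ V i := by
  classical
  obtain ⟨s, hs⟩ := (isCompact_interior (MP99.isLocPrincipal_of_isEffCartier hI)).elim_finite_subcover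
    (fun i => (V i : Set S)) (fun i => (V i).2)
    (fun x hx => Set.mem_iUnion.2 (Opens.mem_iSup.1 (hcov hx)))
  choose K hKft hKs using fun i : s => H98Strict.exists_ideal_support (V i) (hVqc i)
  let F := ⨆ i, K i
  have hsupp : (F.support : Set S) ⊆ (ModPair.interior I : Set S)ᶜ := by
    intro x hx hxU
    obtain ⟨i, hi, hxi⟩ := Set.mem_iUnion₂.1 (hs hxU)
    have h1 : x ∈ (K ⟨i, hi⟩).support := Scheme.IdealSheafData.support_antitone (le_iSup K ⟨i, hi⟩) hx
    exact (hKs ⟨i, hi⟩).le h1 hxi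
  have hF : BlowUp.IsAdmissibleFor (ModPair.interior I) F := by
    refine ⟨fun W => ?_, Set.disjoint_left.2 fun x hx hxU => hsupp hx hxU⟩
    show ((⨆ i, K i).ideal W).FG
    rw [Scheme.IdealSheafData.ideal_iSup, iSup_apply, ← Finset.sup_univ_eq_iSup]
    exact Submodule.fg_finset_sup _ _ fun i _ => hKft i W
  obtain ⟨Y, b, hb⟩ := FBlow13.exists_isBlowUp_scheme S F
  choose j U a haK W hW hxW hspan using fun y : Y => H98Strict.exists_span_eq K b hb.1 y
  refine ⟨F, Y, b, Y, fun y => (W y).1, hF, hb, Div89.isEffCartier_comap_blowUp hb hI,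
    fun y => (W y).2.isCompact, eq_top_iff.2 fun y _ => Opens.mem_iSup.2 ⟨y, hxW y⟩,
    fun y => ⟨(j y : ι), fun z hz => ?_⟩⟩
  by_contra hzV
  -- `z` then lies in the exceptional divisor
  have h1 : (F.comap b).ideal (W y) ≤ ((K (j y)).comap b).ideal (W y) := by
    rw [hspan y, Ideal.span_singleton_le_iff_mem, MP99.ideal_comap (K (j y)) b (U y) (W y) (hW y)]
    exact Ideal.mem_map_of_mem _ (haK y)
  have h2 : z ∈ (F.comap b).support := by
    have h3 : z ∈ ((K (j y)).comap b).support := by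
      rw [Scheme.IdealSheafData.support_comap]
      exact (hKs (j y)).ge hzV
    rw [Scheme.IdealSheafData.mem_support_iff_of_mem hz.1] at h3 ⊢
    exact (Y.zeroLocus_mono (U := (W y).1) h1) h3
  rw [Scheme.IdealSheafData.support_comap] at h2
  exact hsupp h2 hz.2

end Groth.Agent.ModP1
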